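import Cfsg.Agent.H20.MlJ

/-! Project ML: the piece NORM. -/

set_option autoImplicit false
set_option linter.unusedSectionVars false

namespace Cfsg.Agent.H20.ML

open Subgroup Cfsg.Agent.H83 Cfsg.Agent.H1.ML MulAction
open scoped commutatorElement Classical

universe u

variable {G : Type*} [Group G] [Finite G] {M : Type*} [AddCommGroup M] [DistribMulAction G M]
  {X : Type*} [MulAction G X] [Fintype X]

/-- the orbit of a subgroup as a finite set -/
noncomputable def orb (J : Subgroup G) (c : X) : Finset X :=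
  Finset.univ.filter fun x => ∃ j ∈ J, j • c = x

theorem mem_orb {J : Subgroup G} {c x : X} : x ∈ orb J c ↔ ∃ j ∈ J, j • c = x := by simp [orb]

theorem sum_smul_inv {F : X → M} (hF : ∀ (g : G) x, F (g • x) = g • F x) {S : Finset X} {g : G}
    (h : ∀ x, g • x ∈ S ↔ x ∈ S) : g • ∑ x ∈ S, F x = ∑ x ∈ S, F x := by
  rw [Finset.smul_sum]
  exact Finset.sum_equiv (toPerm g) (fun x => (h x).symm) fun x _ => (hF g x).symm

theorem smul_mem_orb {J : Subgroup G} {c x : X} {g : G} (hg : g ∈ J) :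
    g • x ∈ orb J c ↔ x ∈ orb J c := by
  rw [mem_orb, mem_orb]
  refine ⟨fun ⟨j, hj, e⟩ => ⟨g⁻¹ * j, mul_mem (inv_mem hg) hj, ?_⟩,
    fun ⟨j, hj, e⟩ => ⟨g * j, mul_mem hg hj, by rw [mul_smul, e]⟩⟩
  rw [mul_smul, e, inv_smul_smul]

theorem sum_zero_of_orb {F : X → M} {J : Subgroup G} (S : Finset X)
    (hS : ∀ j ∈ J, ∀ x ∈ S, j • x ∈ S) (h : ∀ c ∈ S, ∑ x ∈ orb J c, F x = 0) :
    ∑ x ∈ S, F x = 0 := by
  induction S using Finset.strongInduction with
  | H S ih =>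
    rcases S.eq_empty_or_nonempty with rfl | ⟨c, hc⟩
    · simp
    have h1 : orb J c ⊆ S := fun x hx => by
      obtain ⟨j, hj, rfl⟩ := mem_orb.1 hx
      exact hS j hj c hc
    rw [← Finset.sum_sdiff h1, h c hc, add_zero]
    refine ih _ (Finset.sdiff_ssubset h1 ⟨c, mem_orb.2 ⟨1, one_mem _, one_smul _ _⟩⟩)
      (fun j hj x hx => ?_) fun d hd => h d (Finset.mem_sdiff.1 hd).1
    rw [Finset.mem_sdiff] at hx ⊢
    exact ⟨hS j hj x hx.1, fun e => hx.2 ((smul_mem_orb hj).1 e)⟩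

theorem sum_orb_eq {p : ℕ} [Fact p.Prime] {F : X → M} (hF : ∀ (g : G) x, F (g • x) = g • F x)
    {J K : Subgroup G} (hKJ : K ≤ J) (hi : K.relIndex J = p) (hn : J ≤ normalizer (K : Set G))
    {c : X} (hc : J ⊓ stabilizer G c ≤ K) {a : G} (ha : a ∈ J) (haK : a ∉ K) :
    ∑ x ∈ orb J c, F x = ∑ i ∈ Finset.range p, a ^ i • ∑ x ∈ orb K c, F x := by
  have hN : (K.subgroupOf J).Normal := (normal_subgroupOf_iff_le_normalizer hKJ).2 hn
  have hcard : Nat.card (J ⧸ K.subgroupOf J) = p := hi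
  set π := QuotientGroup.mk' (K.subgroupOf J) with hπ
  have hker : ∀ j : J, π j = 1 ↔ (j : G) ∈ K := fun j => QuotientGroup.eq_one_iff j
  have h1 : π ⟨a, ha⟩ ≠ 1 := fun e => haK ((hker _).1 e)
  have ho : orderOf (π ⟨a, ha⟩) = p := orderOf_eq_prime (by rw [← hcard, pow_card_eq_one']) h1
  have hU : orb J c = (Finset.range p).biUnion fun i => (orb K c).image (a ^ i • ·) := by
    ext x
    simp only [mem_orb, Finset.mem_biUnion, Finset.mem_image, Finset.mem_range]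
    refine ⟨fun ⟨j, hj, e⟩ => ?_, fun ⟨i, _, y, ⟨k, hk, e1⟩, e2⟩ =>
      ⟨a ^ i * k, mul_mem (pow_mem ha i) (hKJ hk), by rw [mul_smul, e1, e2]⟩⟩
    have := mem_powers_of_prime_card hcard h1 (g' := π ⟨j, hj⟩)
    rw [mem_powers_iff_mem_range_orderOf, Finset.mem_image] at this
    obtain ⟨i, hi, e'⟩ := this
    rw [ho, Finset.mem_range] at hi
    have hk : (a ^ i)⁻¹ * j ∈ K := (hker (((⟨a, ha⟩ : J) ^ i)⁻¹ * ⟨j, hj⟩)).1 (by
      rw [map_mul, map_inv, map_pow, e', inv_mul_cancel])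
    exact ⟨i, hi, _, ⟨_, hk, rfl⟩, by rw [mul_smul, smul_inv_smul, e]⟩
  rw [hU, Finset.sum_biUnion]
  · refine Finset.sum_congr rfl fun i _ => ?_
    rw [Finset.sum_image fun x _ y _ e => smul_left_cancel _ e, Finset.smul_sum]
    exact Finset.sum_congr rfl fun x _ => hF _ _
  · intro i hi' j hj' hij
    rw [Function.onFun, Finset.disjoint_left]
    intro x hx hy
    simp only [mem_orb, Finset.mem_image] at hx hy
    obtain ⟨_, ⟨k, hk, rfl⟩, e1⟩ := hx
    obtain ⟨_, ⟨k', hk', rfl⟩, e2⟩ := hy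
    have h2 : (a ^ j * k')⁻¹ * (a ^ i * k) ∈ K := hc (mem_inf.2 ⟨J.mul_mem (J.inv_mem (J.mul_mem
      (J.pow_mem ha j) (hKJ hk'))) (J.mul_mem (J.pow_mem ha i) (hKJ hk)), by
        rw [mem_stabilizer_iff, mul_smul, inv_smul_eq_iff, mul_smul, mul_smul, e1, e2]⟩)
    have h3 : (a ^ j)⁻¹ * a ^ i ∈ K := by
      have := mul_mem (mul_mem hk' h2) (inv_mem hk)
      simpa [mul_assoc] using this
    have h4 := (hker (((⟨a, ha⟩ : J) ^ j)⁻¹ * ⟨a, ha⟩ ^ i)).2 h3
    rw [map_mul, map_inv, map_pow, map_pow, inv_mul_eq_one] at h4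
    refine hij (pow_injOn_Iio_orderOf ?_ ?_ h4.symm)
    · rw [ho]; simpa using hi'
    · rw [ho]; simpa using hj'

theorem relIndex_inf_p {p : ℕ} [Fact p.Prime] {J K A : Subgroup G} (hKJ : K ≤ J)
    (hi : K.relIndex J = p) (hn : J ≤ normalizer (K : Set G)) (hA : A ≤ J) (hAK : ¬ A ≤ K) :
    (A ⊓ K).relIndex A = p := by
  have hN : (K.subgroupOf J).Normal := (normal_subgroupOf_iff_le_normalizer hKJ).2 hn
  have h1 := relIndex_dvd_index_of_normal (K.subgroupOf J) (A.subgroupOf J)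
  rw [relIndex_subgroupOf hA, show (K.subgroupOf J).index = p from hi] at h1
  rw [inf_relIndex_left]
  exact ((Nat.dvd_prime Fact.out).1 h1).resolve_left fun e => hAK (relIndex_eq_one.1 e)

theorem sum_orb_nice {p : ℕ} [Fact p.Prime] {F : X → M} (hF : ∀ (g : G) x, F (g • x) = g • F x)
    (hp : ∀ x, p • F x = 0) {T : Subgroup G} (hT : IsPGroup p T) {c : X}
    (hc : ¬ JJ (Nice M p) T ≤ stabilizer G c) : ∑ x ∈ orb (JJ (Nice M p) T) c, F x = 0 := by
  obtain ⟨K, h1, h2, h3, h4⟩ := exists_index_p (hT.to_le (JJ_le (𝒜 := Nice M p)))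
    (J0 := JJ (Nice M p) T ⊓ stabilizer G c) (inf_lt_left.2 hc)
  obtain ⟨A, hAT, hA, hAK⟩ : ∃ A ≤ T, Nice M p A ∧ ¬ A ≤ K := by
    by_contra hcon
    push Not at hcon
    have := relIndex_eq_one.2 (JJ_le_iff.2 hcon)
    exact (Fact.out : p.Prime).one_lt.ne (this.symm.trans h3)
  obtain ⟨a, ha, haK⟩ := SetLike.not_le_iff_exists.1 hAK
  have hAJ := le_JJ hAT hA
  rw [sum_orb_eq hF h2 h3 h4 h1 (hAJ ha) haK]
  refine hA.2.2.2 (A ⊓ K) inf_le_left (relIndex_inf_p h2 h3 h4 hAJ hAK) _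
    (fun b hb => sum_smul_inv hF fun x => smul_mem_orb hb.2) ?_ a ha fun e => haK e.2
  rw [Finset.smul_sum]
  exact Finset.sum_eq_zero fun x _ => hp x

theorem out_smul {H : Subgroup G} {v : M} (hv : v ∈ fx M H) (g : G) :
    (g : G ⧸ H).out • v = g • v := by
  obtain ⟨h, e⟩ := QuotientGroup.mk_out_eq_mul H g
  rw [e, mul_smul, hv _ h.2]

theorem out_eqv {H : Subgroup G} {v : M} (hv : v ∈ fx M H) (g : G) (c : G ⧸ H) :
    (g • c).out • v = g • c.out • v := by
  induction c using QuotientGroup.induction_on with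
  | H x => rw [MulAction.Quotient.smul_mk, out_smul hv, out_smul hv, smul_eq_mul, mul_smul]

/-- **NORM** -/
theorem normStmt : NormStmt.{u} := by
  intro G M _ _ _ _ _ p _ hM N T H hT hHN hJ
  let _ : Fintype (G ⧸ H) := Fintype.ofFinite _
  set J := JJ (Nice M p) T with hJdef
  set S := orb N ((1 : G) : G ⧸ H) with hS
  have hTH : T ≤ H := fun t ht => hJ ⟨hT.le ht, norm_JNice p T (le_normalizer ht)⟩
  have hJN : J ≤ N := JJ_le.trans hT.le
  let ν : M →+ M :=
    { toFun v := ∑ c ∈ S, c.out • v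
      map_zero' := by simp
      map_add' v w := by simp [Finset.sum_add_distrib] }
  have h1 : ∀ v ∈ fx M H, ν v ∈ fx M N := fun v hv n hn =>
    sum_smul_inv (F := fun c : G ⧸ H => c.out • v) (out_eqv hv) fun x => smul_mem_orb hn
  have h0 : ((1 : G) : G ⧸ H) ∈ S := mem_orb.2 ⟨1, one_mem _, one_smul _ _⟩
  have hfix : ∀ g ∈ H, g • ((1 : G) : G ⧸ H) = ((1 : G) : G ⧸ H) := fun g hg => by
    rw [MulAction.Quotient.smul_mk, smul_eq_mul, mul_one, QuotientGroup.eq]
    simpa using hg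
  have h2 : ∀ v ∈ fx M H, p • v = 0 → ν v = v := fun v hv hp => by
    change ∑ c ∈ S, c.out • v = v
    rw [← Finset.add_sum_erase _ _ h0, out_smul hv, one_smul, add_eq_left]
    refine sum_zero_of_orb (J := J) _ (fun j hj x hx => ?_) fun c hc => ?_
    · rw [Finset.mem_erase] at hx ⊢
      refine ⟨fun e => hx.1 ?_, (smul_mem_orb (hJN hj)).2 hx.2⟩
      rw [← inv_smul_smul j x, e, hfix _ (inv_mem (hTH (JJ_le hj)))]
    refine sum_orb_nice (F := fun c : G ⧸ H => c.out • v) (out_eqv hv)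
      (fun x => by rw [smul_comm, hp, smul_zero]) hT.isPGroup fun hst => ?_
    obtain ⟨hne, hc⟩ := Finset.mem_erase.1 hc
    obtain ⟨n, hn, rfl⟩ := mem_orb.1 hc
    have a1 : cj n⁻¹ J ≤ H := fun x hx => by
      have := hst (mem_cj.1 hx)
      rw [mem_stabilizer_iff, MulAction.Quotient.smul_mk, MulAction.Quotient.smul_mk, eq_comm,
        QuotientGroup.eq] at this
      simpa [mul_assoc] using this
    obtain ⟨h, hh, a2⟩ := (hT.mono hTH hHN).exists_conj_le a1
      (isPGroup_cj (hT.isPGroup.to_le JJ_le) _)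
    rw [← cj_mul] at a2
    have a3 : h * n⁻¹ ∈ H := hJ ⟨N.mul_mem (hHN hh) (N.inv_mem hn),
      norm_JJ_of_le (𝒜 := Nice M p) (fun _ h => Nice_cj _ h) a2⟩
    exact hne (hfix n (by simpa using inv_mem (mul_mem (inv_mem hh) a3)))
  have h3 : ∀ (k : ℕ), ∀ v ∈ fx M H, p ^ k • v = 0 → ν v = 0 → v = 0 := by
    intro k
    induction k with
    | zero => intro v _ h _; simpa using h
    | succ k ih =>
      intro v hv h h'
      have := ih (p • v) (nsmul_mem hv p) (by rw [← mul_smul, ← pow_succ, h])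
        (by rw [map_nsmul, h', smul_zero])
      rw [← h2 v hv this, h']
  let μ : fx M H →+ fx M H := (ν.comp (fx M H).subtype).codRestrict _ fun v =>
    fx_anti hHN (h1 v v.2)
  have h4 : Function.Injective μ := (injective_iff_map_eq_zero μ).2 fun v hv => by
    obtain ⟨k, hk⟩ := hM (Multiplicative.ofAdd (v : M))
    exact Subtype.ext (h3 k v v.2 (congrArg Multiplicative.toAdd hk) (congrArg Subtype.val hv))
  intro v hv
  obtain ⟨w, e⟩ := Finite.injective_iff_surjective.1 h4 ⟨v, hv⟩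
  rw [show v = ν w from (congrArg Subtype.val e).symm]
  exact h1 w w.2

end Cfsg.Agent.H20.ML
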