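import Mathlib
import Cfsg.Agent.H20.InvSum
import Cfsg.Agent.H14.InduceChar
import Cfsg.Agent.H64.BrDec

/-!
# Special classes: induction from a model group embedded with a trivial intersection set
-/

set_option autoImplicit false

namespace Cfsg.Agent.H20.SC

open Cfsg Subgroup Cfsg.Agent.H11

variable {G : Type*} [Group G] [Fintype G] {W : Type*} [Group W] [Fintype W]

/-- `S` is a set of special classes of the embedded group `W`. -/
structure TIS (f : W →* G) (S : W → Prop) : Prop where
  inj : Function.Injective f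
  ti : ∀ g x, S x → g * f x * g⁻¹ ∈ f.range → g ∈ f.range

/-- Class functions supported on `S`. -/
structure Sup (S : W → Prop) (θ : W → ℂ) : Prop where
  cl : IsClassFunction W θ
  zero : ∀ x, ¬ S x → θ x = 0

variable {f : W →* G} {S : W → Prop}

omit [Fintype G] [Fintype W] in
theorem mem_rg (f : W →* G) (w : W) : f w ∈ f.range := ⟨w, rfl⟩

/-- The induced class function. -/
noncomputable def TIS.ind (h : TIS f S) (θ : W → ℂ) : G → ℂ :=
  indFun f.range fun x => θ ((MonoidHom.ofInjective h.inj).symm x)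

namespace TIS

variable (h : TIS f S) {θ η : W → ℂ}
include h

omit [Fintype G] [Fintype W] in
theorem symm_apply (w : W) (hw : f w ∈ f.range) :
    (MonoidHom.ofInjective h.inj).symm ⟨f w, hw⟩ = w :=
  (MonoidHom.ofInjective h.inj).symm_apply_apply w

omit [Fintype W] in
theorem isGen (hθ : IsGeneralizedCharacter W θ) : IsGeneralizedCharacter G (h.ind θ) :=
  H14.IsGeneralizedCharacter.indFun _ (isGen_comp hθ (MonoidHom.ofInjective h.inj).symm.toMonoidHom)

omit [Fintype W] in
theorem cl (θ : W → ℂ) : IsClassFunction G (h.ind θ) := H14.indFun_isClassFunction _ _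

omit [Fintype W] in
theorem apply (hθ : IsClassFunction W θ) {w : W} (hw : S w) : h.ind θ (f w) = θ w := by
  have := H14.indFun_eq_self_of_conj f.range
    (ψ := fun x => θ ((MonoidHom.ofInjective h.inj).symm x))
    (isClassFunction_comp hθ (MonoidHom.ofInjective h.inj).symm.toMonoidHom) ⟨f w, mem_rg f w⟩
    fun x hx hx' => (hx (h.ti x w hw hx')).elim
  rwa [h.symm_apply] at this

omit [Fintype W] in
theorem eq_zero (hθ : Sup S θ) {g : G} (hg : ∀ w, S w → ¬ IsConj g (f w)) : h.ind θ g = 0 :=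
  H14.indFun_eq_zero_of_forall _ _ _ fun x hx => hθ.zero _ fun hs => by
    obtain ⟨w, hw⟩ := id hx
    rw [show (⟨_, hx⟩ : f.range) = ⟨f w, mem_rg f w⟩ from Subtype.ext hw.symm, h.symm_apply] at hs
    exact hg w hs (isConj_iff.2 ⟨x, hw.symm⟩)

omit [Fintype W] in
theorem eq_zero_of_sq (hθ : Sup S θ) (hS : ∀ w, S w → w * w ≠ 1) {g : G} (hg : g * g = 1) :
    h.ind θ g = 0 := h.eq_zero hθ fun w hw hc => by
  obtain ⟨x, hx⟩ := isConj_iff.1 hc
  exact hS w hw (h.inj (by rw [map_mul, ← hx, conj_mul, hg, map_one]; simp))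

theorem inner_left (θ : W → ℂ) {χ : G → ℂ} (hχ : IsClassFunction G χ) :
    classInner (h.ind θ) χ = classInner θ fun w => χ (f w) := by
  have := Fintype.ofFinite f.range
  rw [ind, H14.classInner_indFun_left _ _ hχ,
    ← classInner_comp_mulEquiv (MonoidHom.ofInjective h.inj)]
  simp only [MulEquiv.symm_apply_apply]; rfl

theorem inner (hθ : Sup S θ) (hη : IsClassFunction W η) :
    classInner (h.ind θ) (h.ind η) = classInner θ η := by
  rw [h.inner_left θ (h.cl η), classInner_def, classInner_def]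
  congr 1
  refine Finset.sum_congr rfl fun w _ => ?_
  by_cases hw : S w
  · rw [h.apply hη hw]
  · rw [hθ.zero w hw, zero_mul, zero_mul]

theorem inner_one (θ : W → ℂ) : classInner (h.ind θ) (fun _ => 1) = classInner θ fun _ => 1 :=
  h.inner_left θ (isClassFunction_const 1)

open Classical in
/-- The class algebra sum for two involutions. -/
theorem invol_sum (hθ : Sup S θ) {u v : G} (hu : u * u = 1) (hv : v * v = 1) :
    ∑ x : G, ∑ y : G, h.ind θ (x * u * x⁻¹ * (y * v * y⁻¹)) =
      (Nat.card G : ℂ) / Nat.card W * Nat.card (centralizer ({u} : Set G)) *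
        Nat.card (centralizer ({v} : Set G)) *
        ∑ a with IsConj u (f a), ∑ b with IsConj v (f b), θ (a * b) := by
  let e := MonoidHom.ofInjective h.inj
  let E := extendByZero f.range fun x => θ (e.symm x)
  have h1 : ∀ k : G, ∑ x : G, ∑ y : G, E (k * (x * u * x⁻¹ * (y * v * y⁻¹)) * k⁻¹) =
      ∑ x : G, ∑ y : G, E (x * u * x⁻¹ * (y * v * y⁻¹)) := fun k => by
    rw [← Equiv.sum_comp (Equiv.mulLeft k) fun x => ∑ y : G, E (x * u * x⁻¹ * (y * v * y⁻¹))]
    refine Finset.sum_congr rfl fun x _ => ?_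
    rw [← Equiv.sum_comp (Equiv.mulLeft k)
      fun y => E (Equiv.mulLeft k x * u * (Equiv.mulLeft k x)⁻¹ * (y * v * y⁻¹))]
    refine Finset.sum_congr rfl fun y _ => ?_
    congr 1; simp only [Equiv.coe_mulLeft]; group
  have h2 : ∑ x : G, ∑ y : G, h.ind θ (x * u * x⁻¹ * (y * v * y⁻¹)) =
      (Nat.card W : ℂ)⁻¹ * (Nat.card G * ∑ x : G, ∑ y : G, E (x * u * x⁻¹ * (y * v * y⁻¹))) := by
    simp only [ind, H14.indFun_apply', ← Finset.mul_sum]
    rw [← Nat.card_congr e.toEquiv]
    congr 1
    rw [Finset.sum_congr rfl fun x _ => Finset.sum_comm, Finset.sum_comm]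
    simp only [E, e] at h1
    simp only [h1, Finset.sum_const, Finset.card_univ, nsmul_eq_mul, Nat.card_eq_fintype_card, E, e]
  have h3 : ∀ (t : G) (F : G → ℂ), (∀ a, a ∉ f.range → IsConj t a → F a = 0) →
      ∑ a with IsConj t a, F a = ∑ a with IsConj t (f a), F (f a) := fun t F hF => by
    rw [← Finset.sum_filter_add_sum_filter_not _ (· ∈ f.range),
      Finset.sum_eq_zero (s := Finset.filter (fun a => ¬ a ∈ f.range) _) fun a ha => hF a
        (Finset.mem_filter.1 ha).2 (Finset.mem_filter.1 (Finset.mem_filter.1 ha).1).2, add_zero]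
    refine (Finset.sum_bij (fun a _ => f a) (fun a ha => ?_) (fun a _ b _ e => h.inj e)
      (fun b hb => ?_) fun _ _ => rfl).symm
    · simpa using ha
    · obtain ⟨h4, a, rfl⟩ := Finset.mem_filter.1 hb
      exact ⟨a, by simpa using h4, rfl⟩
  have sq : ∀ {t a : G}, t * t = 1 → IsConj t a → a * a = 1 := fun ht hc => by
    obtain ⟨x, rfl⟩ := isConj_iff.1 hc
    rw [conj_mul, ht]; simp
  have h4 : ∀ a, IsConj u a → ∀ b, IsConj v b → a ∉ f.range → E (a * b) = 0 := by
    intro a ha b hb h5
    by_cases h6 : a * b ∈ f.range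
    · obtain ⟨w, hw⟩ := h6
      rw [← hw, show E (f w) = θ w from (H14.extendByZero_of_mem _ _ (mem_rg f w)).trans
        (congrArg θ (h.symm_apply _ _))]
      refine hθ.zero w fun hs => h5 (h.ti a w hs ⟨w⁻¹, ?_⟩)
      rw [map_inv, hw, ← mul_assoc, sq hu ha, one_mul, mul_inv_rev,
        inv_eq_of_mul_eq_one_right (sq hv hb)]
    · exact H14.extendByZero_of_not_mem _ _ h6
  rw [h2, sum_conj_eq u fun a => ∑ y : G, E (a * (y * v * y⁻¹))]
  rw [Finset.sum_congr rfl fun a _ => sum_conj_eq v fun b => E (a * b), ← Finset.mul_sum]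
  rw [h3 u _ fun a ha hc => Finset.sum_eq_zero fun b hb => h4 a hc b (Finset.mem_filter.1 hb).2 ha]
  rw [Finset.sum_congr rfl fun a _ => h3 v (fun b => E (f a * b)) fun b hb _ =>
    H14.extendByZero_of_not_mem _ _ fun h5 => hb ((mul_mem_cancel_left (mem_rg f a)).1 h5)]
  have h5 : ∀ w, E (f w) = θ w := fun w => (H14.extendByZero_of_mem _ _ (mem_rg f w)).trans
    (congrArg θ (h.symm_apply _ _))
  simp only [← map_mul, h5]
  ring

end TIS

theorem sgn_sum {e : G → ℂ} (h : H6.Sgn e) (u v : G) :
    ∑ x : G, ∑ y : G, e (x * u * x⁻¹ * (y * v * y⁻¹)) =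
      (Nat.card G : ℂ) ^ 2 * (e u * e v / e 1) := by
  rw [Finset.sum_comm]
  simp only [h.sum_conj_mul, h.isClassFunction v, Finset.sum_const, Finset.card_univ,
    nsmul_eq_mul, ← Nat.card_eq_fintype_card]
  ring

/-- The constant of the class algebra equations. -/
noncomputable def lam (W : Type*) (u v : G) : ℂ :=
  Nat.card (centralizer ({u} : Set G)) * Nat.card (centralizer ({v} : Set G)) /
    (Nat.card G * Nat.card W)

theorem lam_ne_zero (u v : G) : lam W u v ≠ 0 :=
  div_ne_zero (mul_ne_zero (H14.card_subgroup_ne_zero _) (H14.card_subgroup_ne_zero _))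
    (mul_ne_zero (card_ne_zero G) (card_ne_zero W))

open Classical in
/-- The class algebra equation for a sum of signed irreducible characters. -/
theorem TIS.eqn (h : TIS f S) {θ : W → ℂ} (hθ : Sup S θ) {u v : G} (hu : u * u = 1)
    (hv : v * v = 1) (L : List (G → ℂ)) (hL : ∀ e ∈ L, H6.Sgn e) (he : h.ind θ = L.sum) :
    (L.map fun e => e u * e v / e 1).sum =
      lam W u v * ∑ a with IsConj u (f a), ∑ b with IsConj v (f b), θ (a * b) := by
  have h1 := h.invol_sum hθ hu hv
  have h2 : ∑ x : G, ∑ y : G, L.sum (x * u * x⁻¹ * (y * v * y⁻¹)) =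
      (Nat.card G : ℂ) ^ 2 * (L.map fun e => e u * e v / e 1).sum := by
    clear he h1
    induction L with
    | nil => simp
    | cons e L ih =>
      simp only [List.sum_cons, List.map_cons, Pi.add_apply, Finset.sum_add_distrib, mul_add,
        sgn_sum (hL e List.mem_cons_self), ih fun e he => hL e (List.mem_cons_of_mem _ he)]
  rw [he, h2] at h1
  have := card_ne_zero G
  have := card_ne_zero W
  refine mul_left_cancel₀ (pow_ne_zero 2 (card_ne_zero G)) (h1.trans ?_)
  rw [lam]; field_simp

/-- Inner products of integer valued functions. -/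
theorem inner_int (θ η : W → ℤ) (n : ℤ) (h : ∑ w, θ w * η w = Fintype.card W * n) :
    classInner (fun w => (θ w : ℂ)) (fun w => (η w : ℂ)) = n := by
  rw [classInner_def, inv_mul_eq_iff_eq_mul₀ (card_ne_zero W), Nat.card_eq_fintype_card]
  simp only [map_intCast]
  exact_mod_cast h

end Cfsg.Agent.H20.SC
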