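import Mathlib
import Cfsg.Agent.H64.BrLat

/-!
# Lattice lemmas for special classes
-/

set_option autoImplicit false

namespace Cfsg.Agent.H20.SC

open Cfsg.Agent.H64.Br

variable {V : Type*} [AddCommGroup V] {B : V →ₗ[ℤ] V →ₗ[ℤ] ℤ}

theorem unit_cases (h : Lat B) {x y : V} (hx : B x x = 1) (hy : B y y = 1) :
    B x y = 0 ∨ x = y ∨ x = -y := by
  have h1 := h.bessel [y] (by simp [hy]) (by simp) x
  have h2 := h.eq_of_bessel [y] (by simp [hy]) (by simp) x
  simp only [List.map_cons, List.map_nil, List.sum_cons, List.sum_nil, add_zero, hx] at h1 h2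
  have h3 : B x y = 0 ∨ B x y = 1 ∨ B x y = -1 := by
    have : B x y ≤ 1 := by nlinarith
    have : -1 ≤ B x y := by nlinarith
    omega
  rcases h3 with e | e | e
  · exact Or.inl e
  · rw [e] at h2; exact Or.inr (Or.inl (by simpa using h2))
  · rw [e] at h2; exact Or.inr (Or.inr (by simpa using h2))

/-- Splitting a vector of norm two according to a short vector `e`. -/
theorem split2 (h : Lat B) {v e : V} (hv : B v v = 2) (he : B e e ≤ 4) (hev : B e v = 1) :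
    ∃ x y, v = x + y ∧ B x x = 1 ∧ B y y = 1 ∧ B x y = 0 ∧ B e x = 1 ∧ B e y = 0 := by
  obtain ⟨x, hx, hvx⟩ := h.peel v hv
  obtain ⟨hy, hxy⟩ := h.sub_unit hv hx hvx
  have h1 := h.bessel [x, v - x] (by simp only [List.mem_cons]; rintro _ (rfl | rfl | h) <;> simp_all)
    (by simpa using hxy) e
  simp only [List.map_cons, List.map_nil, List.sum_cons, List.sum_nil, add_zero] at h1
  have h2 : B e (v - x) = 1 - B e x := by rw [map_sub, hev]
  have h3 : B e x = 1 ∨ B e x = 0 := by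
    rw [h2] at h1
    have : B e x ≤ 1 := by nlinarith
    have : 0 ≤ B e x := by nlinarith
    omega
  rcases h3 with h3 | h3
  · exact ⟨x, v - x, by abel, hx, hy, hxy, h3, by omega⟩
  · exact ⟨v - x, x, by abel, hy, hx, (h.symm _ _).trans hxy, by omega, h3⟩

theorem disj2 (h : Lat B) (d : V →+ ℤ) (hd : ∀ x, B x x = 1 → d x ≠ 0) {x y x' y' e : V}
    (hx : B x x = 1) (hy : B y y = 1) (hxy : B x y = 0) (hx' : B x' x' = 1) (hy' : B y' y' = 1)
    (ex : B e x = 1) (ey : B e y = 0) (ex' : B e x' = 1) (ey' : B e y' = 0)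
    (ho : B (x + y) (x' + y') = 0) (hdd : d (x + y) = d (x' + y')) :
    B x x' = 0 ∧ B x y' = 0 ∧ B y x' = 0 ∧ B y y' = 0 := by
  have h1 : B x y' = 0 := by
    rcases unit_cases h hx hy' with e | e | e
    exacts [e, by simp_all, by simp_all]
  have h2 : B y x' = 0 := by
    rcases unit_cases h hy hx' with e | e | e
    exacts [e, by simp_all, by simp_all]
  simp only [map_add, LinearMap.add_apply, h1, h2] at ho hdd
  have h3 : B x x' = 0 := by
    rcases unit_cases h hx hx' with e | e | e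
    · exact e
    · subst e
      rcases unit_cases h hy hy' with e | e | e
      · omega
      · subst e; omega
      · subst e
        have := hd _ hy'
        rw [map_neg] at hdd; omega
    · simp_all
  exact ⟨h3, h1, h2, by omega⟩

theorem perp_of (h : Lat B) {u x y w : V} (hu : B u u = 2) (hx : B x x = 1) (hy : B y y = 1)
    (hxy : B x y = 0) (h0 : B u (x + y) = 0) (hw : B w u = 0) (h1 : B w (x + y) = 1) :
    B u x = 0 ∧ B u y = 0 := by
  have h2 := h.bessel [x, y] (by simp [hx, hy]) (by simp [hxy]) u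
  have h3 := h.eq_of_bessel [x, y] (by simp [hx, hy]) (by simp [hxy]) u
  simp only [List.map_cons, List.map_nil, List.sum_cons, List.sum_nil, add_zero, hu, map_add] at *
  have h4 : B u y = -B u x := by omega
  rw [h4] at h2 h3 ⊢
  have h5 : B u x = 0 ∨ B u x = 1 ∨ B u x = -1 := by
    have : B u x ≤ 1 := by nlinarith
    have : -1 ≤ B u x := by nlinarith
    omega
  rcases h5 with e | e | e
  · simp [e]
  all_goals
    rw [e] at h3
    rw [h3 (by norm_num)] at hw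
    simp at hw; omega

theorem sq_le_three {a b c : ℤ} (h : a ^ 2 + ((1 - a) ^ 2 + (b ^ 2 + ((1 - b) ^ 2 +
    (c ^ 2 + (-c) ^ 2)))) ≤ 3) : c = 0 ∧ a ≤ 1 ∧ b ≤ 1 := by
  have h1 : 0 ≤ a * (a - 1) := by rcases le_or_gt a 0 with h | h <;> nlinarith
  have h2 : 0 ≤ b * (b - 1) := by rcases le_or_gt b 0 with h | h <;> nlinarith
  refine ⟨by nlinarith, by nlinarith, by nlinarith⟩

/-- The lattice lemma for `3³ : 2²`. -/
theorem lat27 (h : Lat B) (d : V →+ ℤ) (hd : ∀ x, B x x = 1 → d x ≠ 0) {a b c e u A' B' : V}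
    (aa : B a a = 2) (bb : B b b = 2) (cc : B c c = 2) (ab : B a b = 0) (ac : B a c = 0)
    (bc : B b c = 0) (da : d a = -1) (db : d b = -1) (dc : d c = -1) (ee : B e e = 4)
    (ea : B e a = 1) (eb : B e b = 1) (ec : B e c = 1) (uu : B u u = 2) (ue : B u e = 1)
    (ua : B u a = 0) (ub : B u b = 0) (uc : B u c = 0) (Au : B A' u = 0) (Bu : B B' u = 0)
    (AA : B A' A' = 3) (Aa : B A' a = 0) (Ab : B A' b = 1) (Ac : B A' c = 1) (Ae : B A' e = 2)
    (BB : B B' B' = 3) (Ba : B B' a = 1) (Bb : B B' b = 0) (Bc : B B' c = 1) (Be : B B' e = 2) :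
    ∃ α β γ, B α α = 1 ∧ B β β = 1 ∧ B γ γ = 1 ∧ B (a - α) (a - α) = 1 ∧ B (b - β) (b - β) = 1 ∧
      B (c - γ) (c - γ) = 1 ∧ B (e - α - β - γ) (e - α - β - γ) = 1 ∧
      B (A' - β - γ) (A' - β - γ) = 1 ∧ B (B' - α - γ) (B' - α - γ) = 1 := by
  obtain ⟨α, α', rfl, a1, a2, a3, a4, a5⟩ := split2 h aa ee.le ea
  obtain ⟨β, β', rfl, b1, b2, b3, b4, b5⟩ := split2 h bb ee.le eb
  obtain ⟨γ, γ', rfl, c1, c2, c3, c4, c5⟩ := split2 h cc ee.le ec
  obtain ⟨p1, p2, p3, p4⟩ := disj2 h d hd a1 a2 a3 b1 b2 a4 a5 b4 b5 ab (da.trans db.symm)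
  obtain ⟨q1, q2, q3, q4⟩ := disj2 h d hd a1 a2 a3 c1 c2 a4 a5 c4 c5 ac (da.trans dc.symm)
  obtain ⟨r1, r2, r3, r4⟩ := disj2 h d hd b1 b2 b3 c1 c2 b4 b5 c4 c5 bc (db.trans dc.symm)
  obtain ⟨u1, u2⟩ := perp_of h uu a1 a2 a3 ua Bu Ba
  obtain ⟨u3, u4⟩ := perp_of h uu b1 b2 b3 ub Au Ab
  obtain ⟨u5, u6⟩ := perp_of h uu c1 c2 c3 uc Au Ac
  obtain ⟨ε, rfl⟩ : ∃ ε, e = α + β + γ + ε := ⟨e - α - β - γ, by abel⟩
  have s := h.symm
  simp only [map_add, LinearMap.add_apply, a1, b1, c1, a3, b3, c3, p1, p2, p3, q1, q2, q3, r1, r2, r3,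
    s β α, s γ α, s γ β, s β α', s γ α', s γ β', s ε, u1, u3, u5] at a4 a5 b4 b5 c4 c5 ee ue
  have e1 : B ε ε = 1 := by omega
  have uε : B u ε = 1 := by omega
  obtain ⟨e2, e3⟩ := h.sub_unit uu e1 uε
  obtain ⟨η, rfl⟩ : ∃ η, u = ε + η := ⟨u - ε, by abel⟩
  simp only [add_sub_cancel_left, map_add, LinearMap.add_apply, s ε α, s ε α', s ε β, s ε β', s ε γ,
    s ε γ', s η α, s η α', s η β, s η β', s η γ, s η γ'] at e2 e3 u1 u2 u3 u4 u5 u6
  simp only [map_add] at Au Bu Aa Ab Ac Ae Ba Bb Bc Be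
  have k : ∀ {x y x' y' z z' t : V}, B x x = 1 → B y y = 1 → B x' x' = 1 → B y' y' = 1 →
      B z z = 1 → B z' z' = 1 → [x, x', y, y', z, z'].Pairwise (fun e f => B e f = 0) →
      B t t = 3 → B t x + B t x' = 1 → B t y + B t y' = 1 → B t z + B t z' = 0 →
      B t z = 0 ∧ B t x ≤ 1 ∧ B t y ≤ 1 := fun {x y x' y' z z' t} h1 h2 h3 h4 h5 h6 h7 h8 h9 h10 h11 => by
    have := h.bessel _ (by simp [h1, h2, h3, h4, h5, h6]) h7 t
    simp only [List.map_cons, List.map_nil, List.sum_cons, List.sum_nil, add_zero, h8,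
      show B t x' = 1 - B t x by omega, show B t y' = 1 - B t y by omega,
      show B t z' = -B t z by omega] at this
    exact sq_le_three this
  have k1 := k b1 c1 b2 c2 a1 a2 (by simp [s β α, s β α', s β' α, s β' α', s γ α, s γ α', s γ' α,
    s γ' α', *]) AA Ab Ac Aa
  have k2 := k b1 c1 b2 c2 e1 e2 (by simp [b3, c3, r1, r2, r3, r4, e3]; omega) AA Ab Ac Au
  have k3 := k a1 c1 a2 c2 b1 b2 (by simp [s γ β, s γ β', s γ' β, s γ' β', *]) BB Ba Bc Bb
  have k4 := k a1 c1 a2 c2 e1 e2 (by simp [a3, c3, q1, q2, q3, q4, e3]; omega) BB Ba Bc Bu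
  refine ⟨α, β, γ, a1, b1, c1, by simpa, by simpa, by simpa, by
    rw [show α + β + γ + ε - α - β - γ = ε by abel, e1], ?_, ?_⟩
  · simp only [map_sub, LinearMap.sub_apply, s β A', s γ A', s γ β, AA, b1, c1, r1]; omega
  · simp only [map_sub, LinearMap.sub_apply, s α B', s γ B', s γ α, BB, a1, c1, q1]; omega

theorem num27 {da db dc sa sb sc l : ℂ} (l0 : l ≠ 0) (a0 : da ≠ 0) (b0 : db ≠ 0) (c0 : dc ≠ 0)
    (a1 : -1 - da ≠ 0) (b1 : -1 - db ≠ 0) (c1 : -1 - dc ≠ 0) (bc : -db - dc ≠ 0)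
    (ac : -da - dc ≠ 0) (e0 : -1 - da - db - dc ≠ 0)
    (ha : 1 + sa * sa / da + (-1 - sa) * (-1 - sa) / (-1 - da) = l * 648)
    (hb : 1 + sb * sb / db + (-1 - sb) * (-1 - sb) / (-1 - db) = l * 648)
    (hc : 1 + sc * sc / dc + (-1 - sc) * (-1 - sc) / (-1 - dc) = l * 648)
    (hA : sb * sb / db + sc * sc / dc + (-sb - sc) * (-sb - sc) / (-db - dc) = 0)
    (hB : sa * sa / da + sc * sc / dc + (-sa - sc) * (-sa - sc) / (-da - dc) = 0)
    (he : 1 + sa * sa / da + sb * sb / db + sc * sc / dc +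
      (-1 - sa - sb - sc) * (-1 - sa - sb - sc) / (-1 - da - db - dc) = l * 972) :
    da = 1 ∧ sa ≠ 1 := by
  obtain ⟨r, rfl⟩ : ∃ r, sc = r * dc := ⟨sc / dc, by field_simp⟩
  have k : ∀ {d s : ℂ}, d ≠ 0 → -d - dc ≠ 0 →
      s * s / d + r * dc * (r * dc) / dc + (-s - r * dc) * (-s - r * dc) / (-d - dc) = 0 →
      s = r * d := fun {d s} h1 h2 h3 => by
    have : dc * (s - r * d) ^ 2 = 0 := by
      field_simp at h3
      linear_combination -h3
    exact sub_eq_zero.1 (pow_eq_zero_iff two_ne_zero |>.1 ((mul_eq_zero.1 this).resolve_left c0))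
  obtain rfl := k a0 ac hB
  obtain rfl := k b0 bc hA
  have k2 : ∀ {d : ℂ}, d ≠ 0 → -1 - d ≠ 0 →
      1 + r * d * (r * d) / d + (-1 - r * d) * (-1 - r * d) / (-1 - d) = l * 648 →
      d * ((1 - r) ^ 2 - l * 648) = l * 648 := fun {d} h1 h2 h3 => by
    field_simp at h3
    linear_combination -h3
  have ka := k2 a0 a1 ha
  have kb := k2 b0 b1 hb
  have kc := k2 c0 c1 hc
  have h0 : (1 - r) ^ 2 - l * 648 ≠ 0 := fun e => l0 (by
    rw [e] at ka; linear_combination (-1 / 648) * ka)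
  obtain rfl : db = da := mul_right_cancel₀ h0 (kb.trans ka.symm)
  obtain rfl : dc = db := mul_right_cancel₀ h0 (kc.trans ka.symm)
  have h1 : 3 * dc * (1 - r) ^ 2 = l * 972 * (1 + 3 * dc) := by
    field_simp at he
    linear_combination -he
  have h2 : dc = 1 := mul_left_cancel₀ l0 (by linear_combination (1 / 972) * (3 * ka - h1))
  subst h2
  refine ⟨rfl, fun e => l0 ?_⟩
  rw [mul_one] at e
  rw [e] at ka
  linear_combination (-1 / 1296) * ka

end Cfsg.Agent.H20.SC
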