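import Mathlib
import Cfsg.Agent.H20.SpCl
import Cfsg.Agent.H20.SpLat
import Cfsg.Agent.H4.CoprimeGen
import Cfsg.Agent.H8.Residual
import Cfsg.Agent.H63.QuoCore
import Cfsg.Agent.H11.PermChar
import Cfsg.Agent.S3347

/-!
# The group `3³ : 2²` and the generalized dihedral case
-/

set_option autoImplicit false
set_option synthInstance.maxSize 2048

namespace Cfsg.Agent.H20.T27

open Cfsg Subgroup Equiv Cfsg.Agent.H11

theorem dihedral_top {K : Type*} [Group K] [Finite K] (P : Sylow 3 K) {H : Subgroup K} {t : K}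
    (h3 : ∀ x ∈ (P : Subgroup K), x ^ 3 = 1) (hnc : ¬ IsCyclic (P : Subgroup K)) (ht : t * t = 1)
    (hi : ∀ x ∈ (P : Subgroup K), t * x * t = x⁻¹) (hP : (P : Subgroup K) ≤ H)
    (hH : ∀ h ∈ H, h ∈ (P : Subgroup K) ∨ h * t ∈ (P : Subgroup K))
    (hti : ∀ g, ∀ x ∈ (P : Subgroup K), x ≠ 1 → g * x * g⁻¹ ∈ H → g ∈ H) : H = ⊤ := by
  have : Fact (Nat.Prime 3) := ⟨Nat.prime_three⟩
  have ti : t⁻¹ = t := inv_eq_of_mul_eq_one_right ht
  have hc : ∀ x ∈ (P : Subgroup K), ∀ y ∈ (P : Subgroup K), x * y = y * x := fun x hx y hy => by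
    have := hi _ (mul_mem (inv_mem hx) (inv_mem hy))
    rw [show t * (x⁻¹ * y⁻¹) * t = (t * x⁻¹ * t) * (t * y⁻¹ * t) by
      simp only [mul_assoc]; rw [← mul_assoc t t, ht, one_mul], hi _ (inv_mem hx),
      hi _ (inv_mem hy)] at this
    simpa using this
  have hab : IsMulCommutative (P : Subgroup K) := ⟨⟨fun a b => Subtype.ext (hc a a.2 b b.2)⟩⟩
  obtain ⟨x, hx, x1⟩ : ∃ x ∈ (P : Subgroup K), x ≠ 1 := by
    by_contra! h
    exact hnc (by rw [(eq_bot_iff_forall _).2 h]; infer_instance)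
  have x2 : x * x ≠ 1 := fun e => x1 (by
    have := h3 x hx
    rwa [pow_succ, sq, e, one_mul] at this)
  have hN : normalizer (P : Set K) ≤ H := fun g hg =>
    hti g x hx x1 (hP ((mem_normalizer_iff.1 hg x).1 hx))
  have hC : (P : Subgroup K) ≤ centralizer (P : Set K) := fun y hy z hz => hc z hz y hy
  have tC : t ∉ centralizer (P : Set K) := fun h => x2 (by
    have := hi x hx
    rw [← h x hx, mul_assoc, ht, mul_one] at this
    exact mul_eq_one_iff_eq_inv.2 this)
  have tN : t ∈ normalizer (P : Set K) := mem_normalizer_iff.2 fun y =>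
    ⟨fun hy => by rw [ti, hi y hy]; exact inv_mem hy, fun hy => by
      have := hi _ hy
      rw [ti, ← mul_assoc, ← mul_assoc, ht, one_mul, mul_assoc, ht, mul_one] at this
      rw [ti] at hy; rw [this]; exact inv_mem hy⟩
  rcases S3347.result 3 (by norm_num) P hab hnc (index_eq_two_iff.2 ⟨⟨t, tN⟩, fun b => by
      rcases hH b (hN b.2) with h | h
      · exact Or.inr ⟨hC h, fun h' => tC ((mul_mem_cancel_left (hC h)).1 h')⟩
      · exact Or.inl ⟨hC h, fun h' => tC ((mul_mem_cancel_left (mem_subgroupOf.1 h')).1 (hC h))⟩⟩) with h | h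
  · have k : ∀ s : K, s * s = 1 → s ∈ pResidual 3 K := fun s hs => subset_closure
      (Nat.Coprime.coprime_dvd_left (orderOf_dvd_of_pow_eq_one (n := 2) (by rw [sq, hs]))
        (by norm_num))
    refine (h ?_).elim
    rw [← H8.sylow_sup_pResidual P, eq_comm, sup_eq_right]
    intro y hy
    rw [show y = y * t * t by rw [mul_assoc, ht, mul_one]]
    exact mul_mem (k _ (by rw [mul_assoc, ← mul_assoc t, hi y hy, mul_inv_cancel])) (k t ht)
  have hO := H3.not_dvd_card_pPrimeCore 3 K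
  have o1 : ∀ y ∈ (P : Subgroup K), y ∈ pPrimeCore 3 K → y = 1 := fun y hy h => by
    by_contra y1
    exact hO (orderOf_eq_prime (h3 y hy) y1 ▸ (pPrimeCore 3 K).orderOf_dvd_natCard h)
  have h1 : pPrimeCore 3 K ≤ H := H4.le_of_centralizer_singleton_le hnc
    (by rw [normalizer_eq_top]; exact le_top) (by
      obtain ⟨k, hk⟩ := P.isPGroup'.exists_card_eq
      rw [hk]; exact ((Nat.prime_three.coprime_iff_not_dvd).2 hO).pow_left k)
    fun a ha a1 g hg => hti g a ha a1 (by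
      rw [mem_centralizer_singleton_iff.1 hg.2, mul_inv_cancel_right]; exact hP ha)
  have h2 : pPrimeCore 3 K = ⊥ := (eq_bot_iff_forall _).2 fun y hy => by
    refine (hH y (h1 hy)).elim (o1 y · hy) fun h => (x2 (o1 _ (mul_mem hx hx) ?_)).elim
    have h4 := mul_mem (Normal.conj_mem inferInstance y hy x) (inv_mem hy)
    obtain ⟨z, rfl⟩ : ∃ z, y = z * t := ⟨y * t, by rw [mul_assoc, ht, mul_one]⟩
    rw [mul_assoc, ht, mul_one] at h
    rwa [show x * (z * t) * x⁻¹ * (z * t)⁻¹ = x * (z * (t * x⁻¹ * t⁻¹) * z⁻¹) by group, ti,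
      hi _ (inv_mem hx), inv_inv, hc z h x hx, mul_inv_cancel_right] at h4
  rw [H63.pLengthLE_one_iff Nat.prime_three, H3.pPrimePCore_eq_pCore h2] at h
  let Q := (H3.pCore_isPGroup 3 K).toSylow
    ((Nat.prime_three.coprime_iff_not_dvd).1 h.symm)
  have : (Q : Subgroup K).Normal := (inferInstance : (pCore 3 K).Normal)
  have := Sylow.unique_of_normal Q this
  rw [Subsingleton.elim P Q] at hN
  exact top_le_iff.1 ((normalizer_eq_top (H := (Q : Subgroup K))).ge.trans hN)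

/-- Triples of permutations of three points. -/
abbrev Q := Fin 3 → Perm (Fin 3)

/-- The product of the signs. -/
def sg : Q →* ℤˣ :=
  MonoidHom.mk' (fun w => Perm.sign (w 0) * Perm.sign (w 1) * Perm.sign (w 2)) fun a b => by
    simp only [Pi.mul_apply, map_mul]; ac_rfl

/-- The model of `3³ : 2²`. -/
abbrev W := sg.ker

/-- sign of a component -/
def sn (i : Fin 3) (w : W) : ℤ := Perm.sign (w.1 i)

/-- the character of degree two of a component -/
def ph (i : Fin 3) (w : W) : ℤ := (Finset.univ.filter fun j => w.1 i j = j).card - 1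

/-- `1 + σ - φ` -/
def A (i : Fin 3) (w : W) : ℤ := 1 + sn i w - ph i w

/-- `σ_j (1 + σ - φ)` -/
def A' (i j : Fin 3) (w : W) : ℤ := sn j w * A i w

/-- `reg - φ_i φ_j` -/
def E (i j : Fin 3) (w : W) : ℤ := 1 + sn 0 w + sn 1 w + sn 2 w - ph i w * ph j w

/-- Integer valued generalized characters. -/
abbrev IG (θ : W → ℤ) : Prop := IsGeneralizedCharacter W fun w => (θ w : ℂ)

/-- projection -/
def pr (i : Fin 3) : W →* Perm (Fin 3) := (Pi.evalMonoidHom _ i).comp W.subtype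

theorem ig_sn (i : Fin 3) : IG (sn i) :=
  isGen_of_irr (isIrrCharacter_monoidHom ((Units.map (Int.castRingHom ℂ).toMonoidHom).comp
    (Perm.sign.comp (pr i))))

theorem ig_ph (i : Fin 3) : IG (ph i) := by
  convert isGen_sub (isGen_comp (isGen_of_isCharacter (isCharacter_permChar (G := Perm (Fin 3))
    (Fin 3))) (pr i)) isGen_one using 2 with w
  simp only [ph, Pi.sub_apply, permChar_apply, Int.cast_sub, Int.cast_natCast, Int.cast_one,
    Nat.card_eq_fintype_card, Fintype.card_subtype]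
  rfl

theorem ig_A (i : Fin 3) : IG (A i) := by
  convert isGen_sub (isGen_add isGen_one (ig_sn i)) (ig_ph i) using 2; simp [A]

theorem ig_A' (i j : Fin 3) : IG (A' i j) := by
  convert isGen_mul (ig_sn j) (ig_A i) using 2; simp [A']

theorem ig_E (i j : Fin 3) : IG (E i j) := by
  convert isGen_sub (isGen_add (isGen_add (isGen_add isGen_one (ig_sn 0)) (ig_sn 1)) (ig_sn 2))
    (isGen_mul (ig_ph i) (ig_ph j)) using 2
  simp [E]

/-- The involution with trivial component `i`. -/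
def tt (i : Fin 3) : W := ⟨fun j => if j = i then 1 else swap 0 1, by revert i; decide +kernel⟩

theorem six : ∀ w : W, (w * w) ^ 3 = 1 := by decide +kernel
theorem tt_sq : ∀ i, tt i * tt i = 1 ∧ tt i ≠ 1 ∧ (tt i).1 i = 1 := by decide +kernel
theorem tt_mul : tt 0 * tt 1 = tt 2 := by decide +kernel
theorem conj_tt : ∀ a : W, a * a = 1 → a ≠ 1 → ∃ j, a.1 j = 1 ∧ ∃ w, w * tt j * w⁻¹ = a := by
  decide +kernel
theorem sup_A : ∀ i (w : W), w * w = 1 → A i w = 0 := by decide +kernel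
theorem sup_E : ∀ w : W, w * w = 1 → E 0 1 w = 0 ∧ E 1 2 w = 0 := by decide +kernel
theorem A_one : ∀ i (w : W), w.1 i = 1 → A i w = 0 := by decide +kernel
theorem card_W : Fintype.card W = 108 := by decide +kernel
theorem sum_A : ∀ i, ∑ w, A i w * 1 = 108 * 1 := by decide +kernel
theorem sum_AA : ∀ i j, ∑ w, A i w * A j w = 108 * if i = j then 3 else 1 := by decide +kernel
theorem A_ne : ∀ i (w : W), w.1 i ≠ 1 → ∃ x, A i (w * (x * w * x⁻¹)) ≠ 0 := by decide +kernel
theorem one_cases : ∀ i (w : W), w.1 i = 1 → (w ^ 3 = 1 ∧ tt i * w * tt i = w⁻¹ ∧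
    (∃ x, w = x * tt i * x⁻¹ * tt i)) ∨ ((w * tt i) ^ 3 = 1 ∧ w ^ 3 ≠ 1) := by
  decide +kernel
theorem three_mul : ∀ a b : W, a ^ 3 = 1 → b ^ 3 = 1 → (a * b) ^ 3 = 1 := by decide +kernel
theorem card_P : ∀ i, (Finset.univ.filter fun w : W => w.1 i = 1 ∧ w ^ 3 = 1).card = 9 := by
  decide +kernel

/-- The class sums over all pairs of involutions. -/
def nn (θ : W → ℤ) : ℤ :=
  ∑ a : W with a * a = 1 ∧ a ≠ 1, ∑ b : W with b * b = 1 ∧ b ≠ 1, θ (a * b)

theorem nn_A : ∀ i, nn (A i) = 648 := by decide +kernel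
theorem nn_A' : nn (A' 0 1) = 0 ∧ nn (A' 1 0) = 0 := by decide +kernel
theorem nn_E : nn (E 0 1) = 972 := by decide +kernel

/-- The six functions used in the fused case, and the constant function. -/
def fam : Fin 8 → W → ℤ := ![fun _ => 1, A 0, A 1, A 2, E 0 1, E 1 2, A' 0 1, A' 1 0]

theorem gram : ∀ i j, ∑ w, fam i w * fam j w = 108 * !![1, 1, 1, 1, 1, 1, 0, 0;
    1, 3, 1, 1, 2, 2, 0, 1; 1, 1, 3, 1, 2, 2, 1, 0; 1, 1, 1, 3, 2, 2, 1, 1;
    1, 2, 2, 2, 5, 4, 2, 2; 1, 2, 2, 2, 4, 5, 2, 2; 0, 0, 1, 1, 2, 2, 3, 1;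
    0, 1, 0, 1, 2, 2, 1, 3] i j := by decide +kernel

end Cfsg.Agent.H20.T27
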