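import Mathlib
import Cfsg.Agent.H20.T27A

/-!
# A strongly `3`-embedded subgroup `3³ : 2²` is the whole group
-/

set_option autoImplicit false
set_option synthInstance.maxSize 2048
set_option linter.unusedSectionVars false

namespace Cfsg.Agent.H20.T27

open Cfsg Subgroup Equiv Cfsg.Agent.H11 Cfsg.Agent.H20.SC Cfsg.Agent.H64.Br

variable {G : Type*} [Group G] [Fintype G] {f : W →* G}

theorem sgn_of {x : VC G} (h : BV G x x = 1) : H6.Sgn x.1 :=
  ⟨x.2, by simpa using (BV_eq_iff x x 1).1 h⟩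

theorem mem_ker_of {e : G → ℂ} (h : H6.Sgn e) {t : G} (ht : e t = e 1) : t ∈ charKer e := by
  obtain ⟨ε, χ, hε, rfl⟩ := h.exists_irr
  have h0 : ε ≠ 0 := by rcases hε with rfl | rfl <;> simp
  intro x
  rw [Pi.smul_apply, Pi.smul_apply, (mem_charKer_irr_iff χ.2).2 (mul_left_cancel₀ h0 ht) x]

theorem lin_of {e : G → ℂ} (h : H6.Sgn e) (h1 : e 1 = 1) : ∃ μ : G →* ℂˣ, e = fun g => (μ g : ℂ) :=
  exists_monoidHom_of_apply_one_eq_one
    (isCharacter_of_irr (isIrrCharacter_of_isGen h.1 h.2 (by simp [h1]))) h1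

/-- The constant function as a virtual character. -/
def one (G : Type*) [Group G] : VC G := ⟨fun _ => 1, isGen_one⟩

theorem one_one : BV G (one G) (one G) = 1 := (BV_eq_iff _ _ 1).2 (by simp [one, classInner_one_one])

/-- The embedding hypothesis. -/
structure Hyp {G : Type*} [Group G] (f : W →* G) : Prop where
  inj : Function.Injective f
  ti : ∀ g w, w ≠ 1 → w ^ 3 = 1 → g * f w * g⁻¹ ∈ f.range → g ∈ f.range

theorem sup {θ : W → ℤ} (h : IG θ) (h0 : ∀ w, w * w = 1 → θ w = 0) :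
    Sup (fun w => w * w ≠ 1) fun w => (θ w : ℂ) :=
  ⟨isClassFunction_of_isGen h, fun w hw => by rw [h0 w (not_not.1 hw), Int.cast_zero]⟩

namespace Hyp

variable (h : Hyp f)
include h

omit [Fintype G] in
theorem tis : TIS f fun w => w * w ≠ 1 :=
  ⟨h.inj, fun g x hx hg => h.ti g _ hx (six x) (by rw [map_mul, ← conj_mul]; exact mul_mem hg hg)⟩

omit [Fintype G] in
theorem top_of [Finite G] (i : Fin 3) (K : Subgroup G) [K.Normal] (ht : f (tt i) ∈ K)
    (hK : ∀ w, f w ∈ K → A i w = 0) : f.range = ⊤ := by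
  have : Fact (Nat.Prime 3) := ⟨Nat.prime_three⟩
  have k1 : ∀ w, f w ∈ K → w.1 i = 1 := fun w hw => by
    by_contra h1
    obtain ⟨x, hx⟩ := A_ne i w h1
    exact hx (hK _ (by
      rw [map_mul, map_mul, map_mul, map_inv]
      exact mul_mem hw (Normal.conj_mem inferInstance _ hw _)))
  have k2 : ∀ w : W, w.1 i = 1 → w ^ 3 = 1 → f w ∈ K := fun w h1 h3 => by
    obtain ⟨-, -, x, rfl⟩ := (one_cases i w h1).resolve_right fun h => h.2 h3
    rw [map_mul, map_mul, map_mul, map_inv]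
    exact mul_mem (Normal.conj_mem inferInstance _ ht _) ht
  let P0 : Subgroup W :=
    { carrier := {w | w.1 i = 1 ∧ w ^ 3 = 1}
      mul_mem' := fun {a b} ha hb => ⟨by simp [ha.1, hb.1], three_mul a b ha.2 hb.2⟩
      one_mem' := ⟨rfl, one_pow _⟩
      inv_mem' := fun {a} ha => ⟨by simp [ha.1], by rw [inv_pow, ha.2, inv_one]⟩ }
  have c9 : Nat.card P0 = 9 := by
    rw [← card_P i, ← Fintype.card_subtype, ← Nat.card_eq_fintype_card]; rfl
  let P1 : Subgroup K := (P0.map f).subgroupOf K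
  have c9' : Nat.card P1 = 9 := by
    rw [Nat.card_congr (subgroupOfEquivOfLe (by
      rintro _ ⟨w, hw, rfl⟩; exact k2 w hw.1 hw.2)).toEquiv, card_map_of_injective h.inj, c9]
  have h3 : ∀ x ∈ P1, x ^ 3 = 1 := by
    rintro x ⟨w, hw, e⟩
    exact Subtype.ext (by rw [coe_pow, show (x : G) = f w from e.symm, ← map_pow, hw.2, map_one]; rfl)
  have hti : ∀ g, ∀ x ∈ P1, x ≠ 1 → g * x * g⁻¹ ∈ f.range.subgroupOf K →
      g ∈ f.range.subgroupOf K := by
    rintro g x ⟨w, hw, e⟩ x1 hg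
    refine h.ti g w (fun e1 => x1 (Subtype.ext ?_)) hw.2 (by rw [e]; exact hg)
    rw [show (x : G) = f w from e.symm, e1, map_one]; rfl
  obtain ⟨b, hb, b1⟩ : ∃ b ∈ P1, b ≠ 1 := by
    by_contra! h
    rw [(eq_bot_iff_forall _).2 h, card_bot] at c9'; omega
  let P : Sylow 3 K := ⟨P1, IsPGroup.of_card (n := 2) c9', fun {R} hR hle => le_antisymm (by
    have : Nontrivial R := ⟨⟨b, hle hb⟩, 1, fun e => b1 (congrArg Subtype.val e)⟩
    have := hR.center_nontrivial
    obtain ⟨z, z1⟩ := exists_ne (1 : center R)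
    have m : ∀ y : R, (y : K) ∈ f.range.subgroupOf K → (y : K) ∈ P1 := by
      rintro y ⟨w, e⟩
      refine ⟨w, ⟨k1 w (e ▸ y.1.2), h.inj ?_⟩, e⟩
      obtain ⟨k, hk⟩ := hR.exists_orderOf_eq_pow y
      have h6 : f w ^ (2 * 3) = 1 := by rw [pow_mul, sq, ← map_mul, ← map_pow, six, map_one]
      have h7 : orderOf (f w) = 3 ^ k := by rw [e, ← hk, ← Subgroup.orderOf_coe y]; exact Subgroup.orderOf_coe _
      rw [map_pow, map_one, ← orderOf_dvd_iff_pow_eq_one]
      exact (h7 ▸ Nat.Coprime.pow_left k (by norm_num) :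
        (orderOf (f w)).Coprime 2).dvd_of_dvd_mul_left (orderOf_dvd_of_pow_eq_one h6)
    have c : ∀ y : R, (y : K) * z.1 * (y : K)⁻¹ = z.1 := fun y => by
      rw [show (y : K) * z.1 = z.1 * y from congrArg Subtype.val (mem_center_iff.1 z.2 y),
        mul_inv_cancel_right]
    have hz : (z.1 : K) ∈ P1 := m _ (hti _ b hb b1 (by
      rw [show (z.1 : K) * b = b * z.1 from
        congrArg Subtype.val (mem_center_iff.1 z.2 ⟨b, hle hb⟩).symm, mul_inv_cancel_right]
      obtain ⟨w, -, e⟩ := hb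
      exact ⟨w, e⟩))
    intro y hy
    refine m ⟨y, hy⟩ (hti _ _ hz (fun e => z1 (Subtype.ext (Subtype.ext e))) ?_)
    rw [c ⟨y, hy⟩]
    obtain ⟨w, -, e⟩ := hz
    exact ⟨w, e⟩) hle⟩
  have h1 := dihedral_top P (H := f.range.subgroupOf K) (t := ⟨_, ht⟩) h3 (fun hc => by
      have h4 := hc.exponent_eq_card
      have h5 : Monoid.exponent P1 ∣ 3 :=
        Monoid.exponent_dvd_of_forall_pow_eq_one fun x => Subtype.ext (h3 x x.2)
      rw [show Monoid.exponent P1 = 9 from h4.trans c9'] at h5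
      omega)
    (Subtype.ext (by rw [coe_mul, ← map_mul, (tt_sq i).1, map_one]; rfl)) (by
      rintro x ⟨w, hw, e⟩
      refine Subtype.ext ?_
      rw [coe_mul, coe_mul, coe_inv, show (x : G) = f w from e.symm, ← map_mul, ← map_mul, ← map_inv,
        ((one_cases i w hw.1).resolve_right fun h => h.2 hw.2).2.1])
    (fun x ⟨w, _, e⟩ => ⟨w, e⟩) (by
      rintro x ⟨w, e⟩
      have h1 := k1 w (e ▸ x.2)
      refine (one_cases i w h1).imp (fun h => ⟨w, ⟨h1, h.1⟩, e⟩) fun h =>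
        ⟨w * tt i, ⟨by simp [h1, (tt_sq i).2.2], h.1⟩, ?_⟩
      rw [map_mul, e]; rfl) hti
  obtain ⟨w, hw, e⟩ := hb
  refine eq_top_iff.2 fun g _ => h.ti g w (fun e1 => b1 (Subtype.ext ?_)) hw.2 ?_
  · rw [show (b : G) = f w from e.symm, e1, map_one]; rfl
  · exact (h1.ge (mem_top ⟨_, Normal.conj_mem inferInstance _ (k2 w hw.1 hw.2) g⟩) :)

/-- The induced virtual character. -/
noncomputable def V {θ : W → ℤ} (hθ : IG θ) : VC G := ⟨h.tis.ind fun w => θ w, h.tis.isGen hθ⟩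

theorem VV {θ η : W → ℤ} (hθ : IG θ) (hη : IG η) (h0 : ∀ w, w * w = 1 → θ w = 0) {n : ℤ}
    (e : ∑ w, θ w * η w = 108 * n) : BV G (h.V hθ) (h.V hη) = n :=
  (BV_eq_iff _ _ n).2 ((h.tis.inner (sup hθ h0) (isClassFunction_of_isGen hη)).trans
    (inner_int θ η n (by rw [e, card_W]; rfl)))

theorem V1 {θ : W → ℤ} (hθ : IG θ) {n : ℤ} (e : ∑ w, θ w * 1 = 108 * n) :
    BV G (h.V hθ) (one G) = n :=
  (BV_eq_iff _ _ n).2 ((h.tis.inner_one _).trans (by
    simpa using inner_int θ (fun _ => 1) n (by rw [e, card_W]; rfl)))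

theorem V0 {θ : W → ℤ} (hθ : IG θ) (h0 : ∀ w, w * w = 1 → θ w = 0) {g : G} (hg : g * g = 1) :
    (h.V hθ).1 g = 0 := h.tis.eq_zero_of_sq (sup hθ h0) (fun _ h => h) hg

omit [Fintype G] in
theorem tsq (i : Fin 3) : f (tt i) * f (tt i) = 1 := by rw [← map_mul, (tt_sq i).1, map_one]

omit [Fintype G] in
theorem of_conj {i : Fin 3} {a : W} (hc : IsConj (f (tt i)) (f a)) : a * a = 1 ∧ a ≠ 1 := by
  obtain ⟨x, hx⟩ := isConj_iff.1 hc
  refine ⟨h.inj (by rw [map_mul, ← hx, conj_mul, h.tsq]; simp), fun e => (tt_sq i).2.1 (h.inj ?_)⟩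
  rw [e, map_one, conj_eq_one_iff] at hx
  rw [hx, map_one]

theorem nonfused (i : Fin 3) (hn : ∀ j, j ≠ i → ¬ IsConj (f (tt i)) (f (tt j))) :
    f.range = ⊤ := by
  classical
  have h1 := h.V1 (ig_A i) (sum_A i)
  have h2 : BV G (h.V (ig_A i) - one G) (h.V (ig_A i) - one G) = 2 := by
    simp only [map_sub, LinearMap.sub_apply, h.VV (ig_A i) (ig_A i) (sup_A i) (sum_AA i i),
      lat_BV.symm (one G), h1, one_one]
    simp
  obtain ⟨α, ha, hα⟩ := lat_BV.peel _ h2
  have hb := sgn_of (lat_BV.sub_unit h2 ha hα).1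
  have ha := sgn_of ha
  set β := h.V (ig_A i) - one G - α
  have hβ : ∀ g, β.1 g = (h.V (ig_A i)).1 g - 1 - α.1 g := fun g => rfl
  have h3 := h.tis.eqn (sup (ig_A i) (sup_A i)) (h.tsq i) (h.tsq i) [fun _ => 1, α.1, β.1]
    (by simp [H6.sgn_one, ha, hb]) (by funext g; simp [hβ, V])
  have h4 : ∀ a, IsConj (f (tt i)) (f a) → a.1 i = 1 := fun a hc => by
    obtain ⟨j, hj, w, rfl⟩ := conj_tt a (h.of_conj hc).1 (h.of_conj hc).2
    by_cases e : j = i
    · exact e ▸ hj
    · exact (hn j e (hc.trans (f.map_isConj (isConj_iff.2 ⟨w, rfl⟩)).symm)).elim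
  rw [Finset.sum_eq_zero fun a ha => Finset.sum_eq_zero fun b hb => by
    rw [A_one i _ (by simp [h4 a (Finset.mem_filter.1 ha).2, h4 b (Finset.mem_filter.1 hb).2]),
      Int.cast_zero]] at h3
  have b1 := hβ 1
  have bt := hβ (f (tt i))
  rw [h.V0 _ (sup_A i) (mul_one 1)] at b1
  rw [h.V0 _ (sup_A i) (h.tsq i)] at bt
  have a0 := ha.apply_one_ne_zero
  have b0 := hb.apply_one_ne_zero
  have h5 : α.1 (f (tt i)) = α.1 1 := by
    simp only [List.map_cons, List.map_nil, List.sum_cons, List.sum_nil, bt] at h3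
    field_simp at h3
    rw [b1] at h3
    exact sub_eq_zero.1 (pow_eq_zero_iff two_ne_zero |>.1 (by linear_combination -h3))
  have := charKer_normal ha.isClassFunction
  have := charKer_normal hb.isClassFunction
  refine h.top_of i (charKer α.1 ⊓ charKer β.1) ⟨mem_ker_of ha h5, mem_ker_of hb (by
    rw [b1, bt, h5])⟩ fun w hw => ?_
  by_cases hw2 : w * w = 1
  · exact sup_A i w hw2
  have h6 := hβ (f w)
  rw [apply_eq_of_mem_charKer hw.1, apply_eq_of_mem_charKer hw.2, b1, show (h.V (ig_A i)).1 (f w) = _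
    from h.tis.apply (isClassFunction_of_isGen (ig_A i)) hw2] at h6
  exact_mod_cast (by linear_combination -h6 : (A i w : ℂ) = 0)

theorem fused (hf : ∀ j, IsConj (f (tt 0)) (f (tt j))) : False := by
  classical
  have ig : ∀ j, IG (fam j) := fun j => by
    fin_cases j
    exacts [by simpa [fam, IG] using isGen_one, ig_A 0, ig_A 1, ig_A 2, ig_E 0 1, ig_E 1 2, ig_A' 0 1,
      ig_A' 1 0]
  have sp : ∀ j, j ≠ 0 → ∀ w, w * w = 1 → fam j w = 0 := fun j hj w hw => by
    fin_cases j <;> simp [fam, A', sup_A _ w hw, sup_E w hw] at hj ⊢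
  let X : Fin 8 → VC G := fun j => h.V (ig j)
  have g1 := fun i j hi => h.VV (ig i) (ig j) (sp i hi) (gram i j)
  have g2 : ∀ i, BV G (X i) (one G) = _ := fun i => h.V1 (ig i) (gram i 0)
  have g3 : ∀ i, BV G (one G) (X i) = _ := fun i => (lat_BV.symm _ _).trans (g2 i)
  have g0 : ∀ i, i ≠ 0 → ∀ g, g * g = 1 → (X i).1 g = 0 := fun i hi g hg => h.V0 _ (sp i hi) hg
  have dd : ∀ i, i ≠ 0 → dV G (X i - one G) = -1 := fun i hi => (dV_eq_iff _ _).2 (by
    change (X i).1 1 - 1 = _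
    rw [g0 i hi 1 (mul_one 1)]; simp)
  change ∀ i j, i ≠ 0 → BV G (X i) (X j) = _ at g1
  obtain ⟨α, β, γ, s1, s2, s3, s4, s5, s6, s7, s8, s9⟩ := lat27 lat_BV (dV G)
    (fun x hx e => (sgn_of hx).apply_one_ne_zero (by simpa using (dV_eq_iff _ _).1 e))
    (a := X 1 - one G) (b := X 2 - one G) (c := X 3 - one G) (e := X 4 - one G) (u := X 4 - X 5)
    (A' := X 6) (B' := X 7) (by simp [g1, g2, g3, one_one]) (by simp [g1, g2, g3, one_one])
    (by simp [g1, g2, g3, one_one]) (by simp [g1, g2, g3, one_one]) (by simp [g1, g2, g3, one_one])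
    (by simp [g1, g2, g3, one_one]) (dd 1 (by simp)) (dd 2 (by simp)) (dd 3 (by simp))
    (by simp [g1, g2, g3, one_one]) (by simp [g1, g2, g3, one_one]) (by simp [g1, g2, g3, one_one])
    (by simp [g1, g2, g3, one_one]) (by simp [g1]) (by simp [g1, g2])
    (by simp [g1, g2]) (by simp [g1, g2]) (by simp [g1, g2]) (by simp [g1]) (by simp [g1])
    (by simp [g1]) (by simp [g1, g2]) (by simp [g1, g2]) (by simp [g1, g2]) (by simp [g1, g2])
    (by simp [g1]) (by simp [g1, g2]) (by simp [g1, g2]) (by simp [g1, g2]) (by simp [g1, g2])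
  have t2 := h.tsq 0
  have key : ∀ i, i ≠ 0 → ∀ L : List (VC G), (∀ e ∈ L, BV G e e = 1) → X i = L.sum →
      (L.map fun e => e.1 (f (tt 0)) * e.1 (f (tt 0)) / e.1 1).sum =
        lam W (f (tt 0)) (f (tt 0)) * nn (fam i) := fun i hi L h1 h2 => by
    have h3 := h.tis.eqn (sup (ig i) (sp i hi)) t2 t2 (L.map Subtype.val)
      (by simpa using fun e _ he => sgn_of (h1 _ he))
      ((congrArg Subtype.val h2).trans (map_list_sum (VC G).subtype L))
    have h4 : (Finset.univ.filter fun a => IsConj (f (tt 0)) (f a)) =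
        Finset.univ.filter fun a : W => a * a = 1 ∧ a ≠ 1 := by
      refine Finset.filter_congr fun a _ => ⟨h.of_conj, fun ha => ?_⟩
      obtain ⟨j, -, w, rfl⟩ := conj_tt a ha.1 ha.2
      exact (hf j).trans (f.map_isConj (isConj_iff.2 ⟨w, rfl⟩))
    rw [h4, List.map_map] at h3
    rw [nn]; push_cast; exact h3
  have k1 := key 1 (by simp) [one G, α, X 1 - one G - α] (by simp [one_one, -map_sub, *]) (by simp)
  have k2 := key 2 (by simp) [one G, β, X 2 - one G - β] (by simp [one_one, -map_sub, *]) (by simp)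
  have k3 := key 3 (by simp) [one G, γ, X 3 - one G - γ] (by simp [one_one, -map_sub, *]) (by simp)
  have k4 := key 4 (by simp) [one G, α, β, γ, X 4 - one G - α - β - γ]
    (by simp [one_one, -map_sub, *]) (by simp)
  have k6 := key 6 (by simp) [β, γ, X 6 - β - γ] (by simp [-map_sub, *]) (by simp)
  have k7 := key 7 (by simp) [α, γ, X 7 - α - γ] (by simp [-map_sub, *]) (by simp)
  have n4 := (sgn_of s4).apply_one_ne_zero
  have n5 := (sgn_of s5).apply_one_ne_zero
  have n6 := (sgn_of s6).apply_one_ne_zero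
  have n7 := (sgn_of s7).apply_one_ne_zero
  have n8 := (sgn_of s8).apply_one_ne_zero
  have n9 := (sgn_of s9).apply_one_ne_zero
  have o1 : ∀ g, (one G).1 g = 1 := fun _ => rfl
  simp only [List.map_cons, List.map_nil, List.sum_cons, List.sum_nil, AddSubgroup.coe_sub,
    Pi.sub_apply, o1, g0 _ _ _ t2, g0 _ _ _ (mul_one 1), ne_eq, Fin.reduceEq, not_false_eq_true,
    zero_sub, add_zero, ← add_assoc, mul_one, div_one, fam, Matrix.cons_val, nn_A, nn_A', nn_E,
    Int.cast_ofNat, Int.cast_zero, mul_zero] at k1 k2 k3 k4 k6 k7 n4 n5 n6 n7 n8 n9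
  obtain ⟨h1, h2⟩ := num27 (lam_ne_zero _ _) (sgn_of s1).apply_one_ne_zero
    (sgn_of s2).apply_one_ne_zero (sgn_of s3).apply_one_ne_zero n4 n5 n6 n8 n9 n7 k1 k2 k3 k6 k7 k4
  obtain ⟨μ, hμ⟩ := lin_of (sgn_of s1) h1
  have h3 : ∀ j, μ (f (tt j)) = μ (f (tt 0)) := fun j => (isConj_iff_eq.1 (μ.map_isConj (hf j))).symm
  have h4 := h3 2
  rw [← tt_mul, map_mul, map_mul, h3 1, mul_eq_left] at h4
  exact h2 (by rw [hμ]; simp [h4])

theorem top : f.range = ⊤ := by
  by_cases h1 : IsConj (f (tt 0)) (f (tt 1)) <;> by_cases h2 : IsConj (f (tt 0)) (f (tt 2))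
  · exact (h.fused fun j => by fin_cases j; exacts [IsConj.refl _, h1, h2]).elim
  · exact h.nonfused 2 fun j hj hc => by
      fin_cases j; exacts [h2 hc.symm, h2 (h1.trans hc.symm), hj rfl]
  · exact h.nonfused 1 fun j hj hc => by
      fin_cases j; exacts [h1 hc.symm, hj rfl, h1 (h2.trans hc.symm)]
  · exact h.nonfused 0 fun j hj hc => by
      fin_cases j; exacts [hj rfl, h1 hc, h2 hc]

end Hyp

/-- The embedding into the symmetric group of degree nine. -/
def F : Q →* Perm (Fin 9) :=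
  MonoidHom.mk' (fun w => (finProdFinEquiv (m := 3) (n := 3)).permCongr (Equiv.prodCongrRight w))
    fun a b => by
      ext x
      obtain ⟨⟨i, j⟩, rfl⟩ := (finProdFinEquiv (m := 3) (n := 3)).surjective x
      simp

theorem F_inj : Function.Injective F := fun a b e => by
  funext i; ext j
  have := congrArg (fun s : Perm (Fin 9) => s (finProdFinEquiv (m := 3) (n := 3) (i, j))) e
  simp only [F, MonoidHom.mk'_apply, Equiv.permCongr_apply, Equiv.symm_apply_apply,
    Equiv.prodCongrRight_apply, EmbeddingLike.apply_eq_iff_eq, Prod.mk.injEq, true_and] at this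
  rw [this]

/-- A three-cycle in component `i`. -/
def cc (i : Fin 3) : W :=
  ⟨fun j => if j = i then swap 0 1 * swap 1 2 else 1, by revert i; decide +kernel⟩

theorem gen_W : ∀ w : W, ∃ i j k : Fin 3, ∃ a b : Fin 2,
    w = cc 0 ^ i.1 * cc 1 ^ j.1 * cc 2 ^ k.1 * tt 2 ^ a.1 * tt 1 ^ b.1 := by decide +kernel

theorem range_F : (F.comp W.subtype).range = closure ({swap (0 : Fin 9) 1 * swap 1 2,
    swap (3 : Fin 9) 4 * swap 4 5, swap (6 : Fin 9) 7 * swap 7 8,
    swap (0 : Fin 9) 1 * swap 3 4, swap (0 : Fin 9) 1 * swap 6 7} : Set (Perm (Fin 9))) := by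
  have h0 : F.comp W.subtype (cc 0) = swap 0 1 * swap 1 2 := by decide +kernel
  have h1 : F.comp W.subtype (cc 1) = swap 3 4 * swap 4 5 := by decide +kernel
  have h2 : F.comp W.subtype (cc 2) = swap 6 7 * swap 7 8 := by decide +kernel
  have h3 : F.comp W.subtype (tt 2) = swap 0 1 * swap 3 4 := by decide +kernel
  have h4 : F.comp W.subtype (tt 1) = swap 0 1 * swap 6 7 := by decide +kernel
  refine le_antisymm ?_ ((closure_le _).2 ?_)
  · rintro _ ⟨w, rfl⟩
    obtain ⟨i, j, k, a, b, rfl⟩ := gen_W w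
    simp only [map_mul, map_pow, h0, h1, h2, h3, h4]
    refine mul_mem (mul_mem (mul_mem (mul_mem ?_ ?_) ?_) ?_) ?_ <;>
      exact pow_mem (subset_closure (by simp)) _
  · rintro _ (rfl | rfl | rfl | rfl | rfl)
    exacts [⟨_, h0⟩, ⟨_, h1⟩, ⟨_, h2⟩, ⟨_, h3⟩, ⟨_, h4⟩]

theorem card_T : (Finset.univ.filter fun w : W => w ^ 3 = 1).card = 27 := by decide +kernel

theorem three_comm : ∀ a b : W, a ^ 3 = 1 → b ^ 3 = 1 → a * b = b * a := by decide +kernel

theorem pow27 : ∀ a : W, a ^ 27 = 1 → a ^ 3 = 1 := by decide +kernel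

theorem exists_emb {G M X : Type*} [Group G] [Group M] [Group X] {H : Subgroup G} {φ : M →* X}
    (hφ : Function.Injective φ) (e : H ≃* φ.range) :
    ∃ f : M →* G, Function.Injective f ∧ f.range = H := by
  let e' := (MonoidHom.ofInjective hφ).trans e.symm
  refine ⟨H.subtype.comp e'.toMonoidHom, H.subtype_injective.comp e'.injective, ?_⟩
  rw [MonoidHom.range_comp, MonoidHom.range_eq_top.2 e'.surjective, ← MonoidHom.range_eq_map,
    range_subtype]

theorem hyp_of {G : Type*} [Group G] [Finite G] {f : W →* G} (hf : Function.Injective f)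
    {T : Subgroup G} (hTH : T ≤ f.range) (hT : Nat.card T = 27)
    (hN : normalizer (T : Set G) = f.range)
    (hC : ∀ t ∈ T, t ≠ 1 → centralizer ({t} : Set G) ≤ f.range) : Hyp f := by
  have h1 : ∀ w, f w ∈ T ↔ w ^ 3 = 1 := by
    have h2 : ∀ w, f w ∈ T → w ^ 3 = 1 := fun w hw => pow27 w (hf (by
      rw [map_pow, map_one, ← hT]; exact congrArg Subtype.val (pow_card_eq_one' (x := (⟨_, hw⟩ : T)))))
    have h3 : ((T.comap f : Subgroup W) : Set W) = {w | w ^ 3 = 1} :=
      Set.eq_of_subset_of_ncard_le h2 (by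
        rw [show ((T.comap f : Subgroup W) : Set W).ncard = 27 from by
          rw [← hT]
          exact (card_map_of_injective hf).symm.trans (by rw [map_comap_eq_self hTH]), ← card_T,
          ← Set.ncard_coe_finset]
        simp)
    exact fun w => Set.ext_iff.1 h3 w
  refine ⟨hf, fun g w w1 w3 ⟨v, hv⟩ => hN.le (mem_normalizer_fintype fun x hx => ?_)⟩
  obtain ⟨y, rfl⟩ := hTH hx
  have k : ∀ a b : W, f a = g * f b * g⁻¹ → b ^ 3 = 1 → a ^ 3 = 1 := fun a b e hb =>
    hf (by rw [map_pow, e, conj_pow, ← map_pow, hb]; simp)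
  obtain ⟨z, hz⟩ := hC (f v) ((h1 v).2 (k v w hv w3)) (fun e => w1 (hf (by
    rw [hv, conj_eq_one_iff] at e; rw [e, map_one]))) (mem_centralizer_singleton_iff.2 (by
      rw [hv, conj_mul, conj_mul, ← map_mul, ← map_mul, three_comm y w ((h1 y).1 hx) w3]) :
        g * f y * g⁻¹ ∈ _)
  exact hz ▸ (h1 z).2 (k z y hz ((h1 y).1 hx))

end Cfsg.Agent.H20.T27
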