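import Mathlib
import Cfsg.Agent.Lead.T3Defs
import Cfsg.Agent.H62.T3Ba1
import Cfsg.Agent.H7.T3Cx
import Cfsg.Agent.H77.T3Rt

/-!
# T3: restriction to a smaller residue, and renumbering by a diagram automorphism
-/

set_option autoImplicit false

namespace Cfsg.Agent.H20.T3

open Cfsg.Agent.Lead.T3 Cfsg.Agent.H35 Equiv Cfsg.Agent.H62 Cfsg.Agent.H7

universe u

section Res

variable {I W : Type} [Group W] {X : Cox I W} {C : Type u} (B : Bld X C)

theorem res_mono {J K : Set I} (h : J ⊆ K) (c : C) : B.res J c ⊆ B.res K c :=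
  fun _ hx => T3Cx.WJ_mono X h hx

theorem aut_mem {K : Set I} {c : C} {g : Perm C} (hg : g ∈ B.Aut K c) {x : C} :
    g x ∈ B.res K c ↔ x ∈ B.res K c := by
  constructor
  · intro h
    by_contra hn
    rw [hg.1 x hn] at h
    exact hn h
  · intro h
    by_contra hn
    exact hn ((g.injective (hg.1 _ hn)).symm ▸ h)

theorem apt_mem {σ : W → C} (hσ : B.Apt σ) {J : Set I} {v : W} (hv : v ∈ X.WJ J) :
    σ v ∈ B.res J (σ 1) := by
  show B.δ _ _ ∈ X.WJ J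
  rw [hσ, inv_one, one_mul]
  exact hv

theorem pan_mem {J : Set I} {c x y : C} {j : I} (hj : j ∈ J) (hx : x ∈ B.res J c)
    (hy : y ∈ B.pan x j) : y ∈ B.res J c := by
  refine T3B.res_trans B hx ?_
  show B.δ _ _ ∈ X.WJ J
  rw [show B.δ x y = X.s j from hy]
  exact T3Cx.s_mem X hj

theorem apt_pan {σ : W → C} (hσ : B.Apt σ) (v : W) (i : I) : σ (v * X.s i) ∈ B.pan (σ v) i := by
  show B.δ _ _ = _
  rw [hσ, inv_mul_cancel_left]

theorem stab_iff {J K : Set I} (h : J ⊆ K) {c : C} {g : Perm C} (hg : g ∈ B.Aut K c)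
    (hc : g c ∈ B.res J c) (x : C) : g x ∈ B.res J c ↔ x ∈ B.res J c := by
  have hcc := T3B.mem_res B K c
  constructor
  · intro hx
    have hxK : x ∈ B.res K c := (aut_mem B hg).1 (res_mono B h c hx)
    show B.δ _ _ ∈ X.WJ J
    rw [← hg.2 c hcc x hxK]
    exact T3B.res_trans B (T3B.res_symm B hc) hx
  · intro hx
    refine T3B.res_trans B hc ?_
    show B.δ _ _ ∈ X.WJ J
    rw [hg.2 c hcc x (res_mono B h c hx)]
    exact hx

/-- The stabiliser of the smaller residue. -/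
def stab {J K : Set I} (h : J ⊆ K) (c : C) : Subgroup (Perm C) where
  carrier := {g | g ∈ B.Aut K c ∧ g c ∈ B.res J c}
  one_mem' := ⟨one_mem _, T3B.mem_res B J c⟩
  mul_mem' := by
    rintro g g' ⟨g1, g2⟩ ⟨h1, h2⟩
    exact ⟨mul_mem g1 h1, (stab_iff B h g1 g2 _).2 h2⟩
  inv_mem' := by
    rintro g ⟨g1, g2⟩
    refine ⟨inv_mem g1, (stab_iff B h g1 g2 _).1 ?_⟩
    rw [show g (g⁻¹ c) = c from g.apply_symm_apply c]
    exact T3B.mem_res B J c

/-- The action of the stabiliser on the smaller residue. -/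
def rsub {J K : Set I} (h : J ⊆ K) (c : C) : stab B h c →* Perm {x // x ∈ B.res J c} where
  toFun g := g.1.subtypePerm (stab_iff B h g.2.1 g.2.2)
  map_one' := by ext x; rfl
  map_mul' g g' := by ext x; rfl

open Classical in
/-- Restriction, extended by the identity. -/
noncomputable def rr {J K : Set I} (h : J ⊆ K) (c : C) : stab B h c →* Perm C :=
  (Perm.ofSubtype (p := fun x => x ∈ B.res J c)).comp (rsub B h c)

theorem rr_mem {J K : Set I} (h : J ⊆ K) (c : C) (g : stab B h c) {x : C} (hx : x ∈ B.res J c) :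
    rr B h c g x = g.1 x := by
  classical
  unfold rr
  rw [MonoidHom.comp_apply]
  convert Perm.ofSubtype_apply_of_mem (p := fun x => x ∈ B.res J c) (rsub B h c g) hx
  rfl

theorem rr_not {J K : Set I} (h : J ⊆ K) (c : C) (g : stab B h c) {x : C} (hx : x ∉ B.res J c) :
    rr B h c g x = x := by
  classical
  unfold rr
  rw [MonoidHom.comp_apply]
  convert Perm.ofSubtype_apply_of_not_mem (p := fun x => x ∈ B.res J c) (rsub B h c g) hx

theorem rr_aut {J K : Set I} (h : J ⊆ K) (c : C) (g : stab B h c) : rr B h c g ∈ B.Aut J c := by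
  refine ⟨fun x hx => rr_not B h c g hx, fun x hx y hy => ?_⟩
  rw [rr_mem B h c g hx, rr_mem B h c g hy]
  exact g.2.1.2 x (res_mono B h c hx) y (res_mono B h c hy)

theorem self_mem_rt (v : W) (i : I) : v ∈ X.rt v i := by
  show X.len _ < X.len _
  rw [inv_mul_cancel, mul_one, T3Cx.len_s, (X.len_eq_zero_iff).2 rfl]
  exact one_pos

theorem R_le_stab {σ : W → C} (hσ : B.Apt σ) {J K : Set I} (h : J ⊆ K) {v : W} (hv : v ∈ X.WJ J)
    (i : I) : B.R σ K v i ≤ stab B h (σ 1) := by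
  intro g hg
  refine ⟨hg.1, ?_⟩
  have e : g (σ v) = σ v := hg.2.1 v (T3Cx.WJ_mono X h hv) (self_mem_rt v i)
  have hv1 := apt_mem B hσ hv
  refine T3B.res_trans B hv1 ?_
  show B.δ _ _ ∈ X.WJ J
  rw [← e, hg.1.2 _ (res_mono B h _ hv1) _ (T3B.mem_res B K _)]
  exact T3B.res_symm B hv1

theorem rr_R {σ : W → C} (hσ : B.Apt σ) {J K : Set I} (h : J ⊆ K) {α : Set W}
    (g : stab B h (σ 1)) (hg : g.1 ∈ B.U σ K α) : rr B h (σ 1) g ∈ B.U σ J α := by
  refine ⟨rr_aut B h _ g, fun w hw ha => ?_, fun w hw j hj ha hb x hx => ?_⟩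
  · rw [rr_mem B h _ g (apt_mem B hσ hw)]
    exact hg.2.1 w (T3Cx.WJ_mono X h hw) ha
  · rw [rr_mem B h _ g (pan_mem B hj (apt_mem B hσ hw) hx)]
    exact hg.2.2 w (T3Cx.WJ_mono X h hw) j (h hj) ha hb x hx

theorem mou_mono {J K : Set I} (c : C) (h : J ⊆ K) (hK : B.Mou K c) : B.Mou J c := by
  intro σ hσ h1 v hv i hi x hx y hy
  obtain ⟨g, hg, e⟩ := hK σ hσ (res_mono B h c h1) v (T3Cx.WJ_mono X h hv) i (h hi) x hx y hy
  refine ⟨rr B h (σ 1) ⟨g, R_le_stab B hσ h hv i hg⟩, rr_R B hσ h _ hg, ?_⟩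
  rw [rr_mem B h _ _ (pan_mem B hi (apt_mem B hσ hv) hx)]
  exact e

theorem R_pan {σ : W → C} (hσ : B.Apt σ) {K : Set I} {v : W} (hv : v ∈ X.WJ K) {i : I} (hi : i ∈ K)
    {g : Perm C} (hg : g ∈ B.R σ K v i) {x : C} (hx : x ∈ B.pan (σ v) i) :
    g x ∈ B.pan (σ v) i := by
  have e : g (σ v) = σ v := hg.2.1 v hv (self_mem_rt v i)
  show B.δ _ _ = _
  rw [← e, hg.1.2 _ (apt_mem B hσ hv) _ (pan_mem B hi (apt_mem B hσ hv) hx)]
  exact hx

end Res

theorem resStmt (fr : FreeStmt.{u}) : ResStmt.{u} := by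
  intro I W _ _ X C _ B
  refine ⟨fun J K c h hK => mou_mono B c h hK, fun σ J K hσ h => ?_⟩
  refine ⟨stab B h (σ 1), rr B h (σ 1), fun g => Iff.rfl,
    fun g => ⟨rr_aut B h _ g, fun x hx => rr_mem B h _ g hx⟩, fun v hv i hi => ?_⟩
  refine ⟨R_le_stab B hσ h hv i, fun g hg => rr_R B hσ h g hg, fun hM hj => ⟨?_, ?_⟩⟩
  · intro g hg e
    obtain ⟨j, hj, h3⟩ := hj
    apply Subtype.ext
    refine (fr B σ K hσ).1 v (T3Cx.WJ_mono X h hv) i (h hi) ⟨j, h hj, h3⟩ g.1 hg _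
      (apt_pan B hσ v i) ?_
    rw [← rr_mem B h _ g (pan_mem B hi (apt_mem B hσ hv) (apt_pan B hσ v i)), e]
    rfl
  · intro g' hg'
    obtain ⟨g, hg, e⟩ := hM σ hσ (T3B.mem_res B K _) v (T3Cx.WJ_mono X h hv) i (h hi) _
      (apt_pan B hσ v i) _ (R_pan B hσ hv hi hg' (apt_pan B hσ v i))
    refine ⟨⟨g, R_le_stab B hσ h hv i hg⟩, hg, ?_⟩
    have hr := rr_R B hσ h ⟨g, R_le_stab B hσ h hv i hg⟩ hg
    have := (fr B σ J hσ).1 v hv i hi hj _ (mul_mem (inv_mem hg') hr) _ (apt_pan B hσ v i) (by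
      rw [Perm.mul_apply, rr_mem B h _ _ (pan_mem B hi (apt_mem B hσ hv) (apt_pan B hσ v i))]
      show g'⁻¹ (g _) = _
      rw [e]
      exact g'.symm_apply_apply _)
    exact (inv_mul_eq_one.1 this).symm

section Trans

variable {I W : Type} [Group W] {X : Cox I W} {C : Type u} (B B₂ : Bld X C) (π : I ≃ I)
  (ω : W ≃* W)

theorem map_WJ (hs : ∀ i, ω (X.s i) = X.s (π i)) (J : Set I) (w : W) :
    ω w ∈ X.WJ (π '' J) ↔ w ∈ X.WJ J := by
  have : (X.WJ J).map ω.toMonoidHom = X.WJ (π '' J) := by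
    unfold Cox.WJ
    rw [MonoidHom.map_closure]
    congr 1
    ext y
    simp only [Set.mem_image]
    constructor
    · rintro ⟨_, ⟨i, hi, rfl⟩, rfl⟩
      exact ⟨π i, ⟨i, hi, rfl⟩, (hs i).symm⟩
    · rintro ⟨_, ⟨i, hi, rfl⟩, rfl⟩
      exact ⟨X.s i, ⟨i, hi, rfl⟩, hs i⟩
  rw [← this]
  exact Subgroup.mem_map_iff_mem (f := ω.toMonoidHom) ω.injective

theorem map_rt (hs : ∀ i, ω (X.s i) = X.s (π i)) (hl : ∀ w, X.len (ω w) = X.len w) (v : W) (i : I)
    (w : W) : ω w ∈ X.rt (ω v) (π i) ↔ w ∈ X.rt v i := by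
  show X.len _ < X.len _ ↔ X.len _ < X.len _
  rw [← hs, ← map_inv, ← map_mul, ← map_mul, hl, hl]

theorem map_res (hs : ∀ i, ω (X.s i) = X.s (π i)) (hd : ∀ x y, ω (B₂.δ x y) = B.δ x y)
    (J : Set I) (c : C) : B₂.res J c = B.res (π '' J) c := by
  ext y
  show B₂.δ _ _ ∈ X.WJ J ↔ B.δ _ _ ∈ X.WJ (π '' J)
  rw [← hd, map_WJ π ω hs]

theorem map_pan (hs : ∀ i, ω (X.s i) = X.s (π i)) (hd : ∀ x y, ω (B₂.δ x y) = B.δ x y)
    (c : C) (i : I) : B₂.pan c i = B.pan c (π i) := by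
  ext y
  show B₂.δ _ _ = _ ↔ B.δ _ _ = _
  rw [← hd, ← hs, ω.apply_eq_iff_eq]

theorem map_aut (hs : ∀ i, ω (X.s i) = X.s (π i)) (hd : ∀ x y, ω (B₂.δ x y) = B.δ x y)
    (J : Set I) (c : C) (g : Perm C) : g ∈ B₂.Aut J c ↔ g ∈ B.Aut (π '' J) c := by
  show (_ ∧ _) ↔ (_ ∧ _)
  rw [map_res B B₂ π ω hs hd]
  refine and_congr Iff.rfl (forall₂_congr fun x _ => forall₂_congr fun y _ => ?_)
  rw [← hd, ← hd, ω.apply_eq_iff_eq]

theorem map_R (hs : ∀ i, ω (X.s i) = X.s (π i)) (hl : ∀ w, X.len (ω w) = X.len w)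
    (hd : ∀ x y, ω (B₂.δ x y) = B.δ x y) (σ : W → C) (J : Set I) (v : W) (i : I) (g : Perm C) :
    g ∈ B₂.R (σ ∘ ω) J v i ↔ g ∈ B.R σ (π '' J) (ω v) (π i) := by
  show (_ ∧ _ ∧ _) ↔ (_ ∧ _ ∧ _)
  rw [map_aut B B₂ π ω hs hd, Function.comp_apply, map_one]
  refine and_congr Iff.rfl (and_congr ?_ ?_)
  · constructor
    · intro h w hw ha
      obtain ⟨w, rfl⟩ := ω.surjective w
      exact h w ((map_WJ π ω hs J w).1 hw) ((map_rt π ω hs hl v i w).1 ha)
    · intro h w hw ha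
      exact h (ω w) ((map_WJ π ω hs J w).2 hw) ((map_rt π ω hs hl v i w).2 ha)
  · constructor
    · rintro h w hw _ ⟨j, hj, rfl⟩ ha hb x hx
      obtain ⟨w, rfl⟩ := ω.surjective w
      rw [← hs, ← map_mul] at hb
      refine h w ((map_WJ π ω hs J w).1 hw) j hj ((map_rt π ω hs hl v i w).1 ha)
        ((map_rt π ω hs hl v i _).1 hb) x ?_
      rw [map_pan B B₂ π ω hs hd]
      exact hx
    · intro h w hw j hj ha hb x hx
      rw [map_pan B B₂ π ω hs hd] at hx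
      refine h (ω w) ((map_WJ π ω hs J w).2 hw) (π j) ⟨j, hj, rfl⟩ ((map_rt π ω hs hl v i w).2 ha)
        ?_ x hx
      rw [← hs, ← map_mul]
      exact (map_rt π ω hs hl v i _).2 hb

end Trans

theorem transStmt : TransStmt.{u} := by
  intro I W _ _ X C _ B B₂ π ω hs hl hd σ hσ
  refine ⟨fun u w => ?_, fun i => ?_, fun j k => ?_⟩
  · apply ω.injective
    rw [hd, Function.comp_apply, Function.comp_apply, hσ, map_mul, map_inv]
  · unfold Bld.q
    rw [map_pan B B₂ π ω hs hd]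
  · unfold Bld.Kind
    simp only [map_R B B₂ π ω hs hl hd, map_one, map_mul, hs, Set.image_pair]

end Cfsg.Agent.H20.T3
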