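import Cfsg.Agent.H17.KnDef2

/-! Project KN, piece M1B: normalisation of the homomorphism on the Sylow subgroup. -/

set_option autoImplicit false
set_option maxRecDepth 100000

namespace Cfsg.Agent.H20.KnM1b

open Equiv Subgroup Cfsg.Agent.H11.A16 Cfsg.Agent.H17.Kn

universe u

theorem conj_dl (m : N2) (p q : P) : (m * dl p * m⁻¹).f q = if m.σ⁻¹ q = p then 1 else 0 := by
  change m.f (m.σ⁻¹ q) + ((if m.σ⁻¹ q = p then 1 else 0) + m.f (m.σ⁻¹ q)) = _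
  rw [add_comm, add_assoc, z2add, add_zero]

theorem conj_fix {m v : N2} (hm : m.σ 0 = 0) (hv : v.σ 0 = 0) : (m * v * m⁻¹).f 0 = v.f 0 := by
  have k : m.σ⁻¹ 0 = 0 := by rw [Perm.inv_eq_iff_eq, hm]
  change m.f (m.σ⁻¹ 0) + (v.f (m.σ⁻¹ 0) + m.f (v.σ (m.σ⁻¹ 0))) = _
  rw [k, hv, add_comm, add_assoc, z2add, add_zero]

theorem PP_le : PP ≤ S2 := fun e he => by
  change e.σ ∈ T'
  rw [show e.σ = 1 from he]
  exact one_mem _

theorem PP_sq {e : N2} (h : e ∈ PP) : e * e = 1 := by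
  have k : e.σ = 1 := h
  exact N2.ext (by rw [N2.mul_σ, k]; rfl) (funext fun p => by rw [N2.mul_f, k]; exact z2add _)

theorem stab0 : ∀ a b c : P, a.1 / 4 = 0 → ∀ G : P → P,
    G = ![0, 1, a, x 1 a, b, x 1 b, c, x 1 c] → Function.Injective G → ∃ i j k l : Fin 2,
      ∀ p, G p = (tp 2 3 ^ i.1 * tp 4 5 ^ j.1 * tp 6 7 ^ k.1 * xe 2 3 ^ l.1).σ p ∧
        0 = (tp 2 3 ^ i.1 * tp 4 5 ^ j.1 * tp 6 7 ^ k.1 * xe 2 3 ^ l.1).f p := by
  simp only [forall_eq]; decide +kernel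

theorem stab {σ : Perm P} (h : σ ∈ T') (h0 : σ 0 = 0) : ∃ i j k l : Fin 2,
    sec2 σ = tp 2 3 ^ i.1 * tp 4 5 ^ j.1 * tp 6 7 ^ k.1 * xe 2 3 ^ l.1 := by
  obtain ⟨i, j, k, l, e⟩ := stab0 (σ 2) (σ 4) (σ 6) (by rw [h.2 2 0 rfl, h0]; rfl) σ
    (funext fun i => by
      fin_cases i
      exacts [h0, (h.1 0).trans (by rw [h0]; rfl), rfl, h.1 2, rfl, h.1 4, rfl, h.1 6]) σ.injective
  exact ⟨i, j, k, l, N2.ext (Equiv.ext fun p => (e p).1) (funext fun p => (e p).2)⟩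

theorem x_mem : ∀ p : P, sec2 (x p) ∈ S2 ∧ x p 0 = p ∧ x p p = 0 ∧ sec2 (x p) * sec2 (x p) = 1 := by
  decide +kernel

/-- a cocycle that vanishes on the stabiliser is a coboundary -/
theorem cob (ψ : N2 → N2) (hm : ∀ a ∈ S2, ∀ b ∈ S2, ψ (a * b) = ψ a * ψ b)
    (hσ : ∀ a ∈ S2, (ψ a).σ = a.σ) (hP : ∀ e ∈ PP, ψ e = e) (g1 : (ψ (tp 2 3)).f 0 = 0)
    (g2 : (ψ (tp 4 5)).f 0 = 0) (g3 : (ψ (tp 6 7)).f 0 = 0) (g4 : (ψ (xe 2 3)).f 0 = 0) :
    ∃ y : N2, ∀ a ∈ S2, y * ψ a * y⁻¹ = a := by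
  let Z : Submonoid N2 :=
    { carrier := {a | a ∈ S2 ∧ a.σ 0 = 0 ∧ (ψ a).f 0 = a.f 0}
      one_mem' := ⟨one_mem _, rfl, by rw [hP 1 (one_mem _)]⟩
      mul_mem' := fun {a b} ha hb => ⟨mul_mem ha.1 hb.1, by
        rw [N2.mul_σ, Perm.mul_apply, hb.2.1, ha.2.1], by
        rw [hm a ha.1 b hb.1, N2.mul_f, N2.mul_f, hσ b hb.1, hb.2.1, hb.2.2, ha.2.2]⟩ }
  have hZ : ∀ a ∈ S2, a.σ 0 = 0 → (ψ a).f 0 = a.f 0 := fun a ha h0 => by
    obtain ⟨i, j, k, l, e⟩ := stab (σ := a.σ) ha h0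
    have m1 : sec2 a.σ ∈ Z := by
      have z1 : tp 2 3 ∈ Z := ⟨by decide +kernel, by decide +kernel, g1⟩
      have z2 : tp 4 5 ∈ Z := ⟨by decide +kernel, by decide +kernel, g2⟩
      have z3 : tp 6 7 ∈ Z := ⟨by decide +kernel, by decide +kernel, g3⟩
      have z4 : xe 2 3 ∈ Z := ⟨by decide +kernel, by decide +kernel, g4⟩
      rw [e]
      exact mul_mem (mul_mem (mul_mem (pow_mem z1 _) (pow_mem z2 _)) (pow_mem z3 _)) (pow_mem z4 _)
    have m2 : (⟨1, a.f⟩ : N2) ∈ Z := ⟨PP_le rfl, rfl, by rw [hP _ rfl]⟩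
    have := (mul_mem m1 m2).2.2
    rwa [show sec2 a.σ * ⟨1, a.f⟩ = a from N2.ext (mul_one _) (funext fun p => add_zero _)] at this
  refine ⟨⟨1, fun p => (ψ (sec2 (x p))).f 0⟩, fun a ha => N2.ext ?_ (funext fun p => ?_)⟩
  · change 1 * (ψ a).σ * 1⁻¹ = _
    rw [hσ a ha, one_mul, inv_one, mul_one]
  · obtain ⟨p1, p2, -, -⟩ := x_mem p
    obtain ⟨q1, q2, q3, q4⟩ := x_mem (a.σ p)
    have k1 := congrArg (N2.f · 0) (hm _ q1 _ q1)
    have k2 := hZ _ (mul_mem (mul_mem q1 ha) p1) (by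
      change x (a.σ p) (a.σ (x p 0)) = 0
      rw [p2, q3])
    rw [hm _ (mul_mem q1 ha) _ p1, hm _ q1 _ ha, N2.mul_f, N2.mul_f, hσ _ p1, hσ _ ha] at k2
    rw [q4, hP 1 (one_mem _), N2.mul_f, hσ _ q1] at k1
    change (ψ (sec2 (x p))).f 0 + ((ψ a).f (x p 0) + (ψ (sec2 (x (a.σ p)))).f (a.σ (x p 0))) =
      0 + (a.f (x p 0) + 0) at k2
    change 0 = (ψ (sec2 (x (a.σ p)))).f 0 + (ψ (sec2 (x (a.σ p)))).f (x (a.σ p) 0) at k1
    change (ψ (sec2 (x p))).f 0 + ((ψ a).f p + (ψ (sec2 (x ((ψ a).σ p)))).f 0) = _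
    rw [p2] at k2
    rw [q2] at k1
    rw [hσ a ha]
    revert k1 k2
    generalize (ψ (sec2 (x p))).f 0 = c1
    generalize (ψ a).f p = c2
    generalize (ψ (sec2 (x (a.σ p)))).f 0 = c3
    generalize (ψ (sec2 (x (a.σ p)))).f (a.σ p) = c4
    generalize a.f p = c5
    revert c1 c2 c3 c4 c5
    decide

/-- the sign, additively -/
def sg (σ : Perm P) : ZMod 2 := if Perm.sign σ = 1 then 0 else 1

theorem sg_mul (σ τ : Perm P) : sg (σ * τ) = sg σ + sg τ := by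
  unfold sg
  rw [map_mul]
  rcases Int.units_eq_one_or (Perm.sign σ) with h | h <;>
    rcases Int.units_eq_one_or (Perm.sign τ) with k | k <;> rw [h, k] <;> decide

theorem sg_one : sg 1 = 0 := if_pos (map_one _)

/-- the twist by the sign -/
def tw (c : ZMod 2) (m : N2) : N2 := ⟨m.σ, fun p => m.f p + c * sg m.σ⟩

theorem tw_mul (c : ZMod 2) (m n : N2) : tw c (m * n) = tw c m * tw c n :=
  N2.ext rfl (funext fun p => by
    change n.f p + m.f (n.σ p) + c * sg (m.σ * n.σ) =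
      n.f p + c * sg n.σ + (m.f (n.σ p) + c * sg m.σ)
    rw [sg_mul]; ring)

theorem tw_tw (c : ZMod 2) (m : N2) : tw c (tw c m) = m :=
  N2.ext rfl (funext fun p => by
    change m.f p + c * sg m.σ + c * sg m.σ = _
    rw [add_assoc, z2add, add_zero])

theorem tw_P (c : ZMod 2) {e : N2} (h : e ∈ PP) : tw c e = e :=
  N2.ext rfl (funext fun p => by
    change e.f p + c * sg e.σ = _
    rw [show e.σ = 1 from h, sg_one, mul_zero, add_zero])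

theorem m1b (hB : Base.{u}) : M1bStmt.{u} := by
  intro G _ _ J φ s H ρ h mo hH
  have ki : Ki J φ := h.toKi
  have kit := hB.kit J φ ki
  let r : H →* N2 := MonoidHom.mk' (fun g => ρ g) fun a b => mo.mul a a.2 b b.2
  have cj : ∀ g ∈ H, ∀ a ∈ H, ρ (g * a * g⁻¹) = ρ g * ρ a * (ρ g)⁻¹ := fun g hg a ha => by
    have : r (⟨g, hg⟩ * ⟨a, ha⟩ * ⟨g, hg⟩⁻¹) = r ⟨g, hg⟩ * r ⟨a, ha⟩ * (r ⟨g, hg⟩)⁻¹ := by
      rw [map_mul, map_mul, map_inv]
    exact this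
  have sig : ∀ g m, Ex J g m PP → (ρ g).σ = m.σ := fun g m e => Equiv.ext fun p => by
    have dP : dl p ∈ PP := rfl
    have k := cj g ((hH g).2 ⟨m, e⟩) _ (mo.le _ (PP_le dP))
    rw [e _ dP, mo.res _ dP, mo.res _ ((MonoidHom.normal_ker π2).conj_mem _ dP m)] at k
    have k' := congrArg (N2.f · (m.σ p)) k
    simp only [conj_dl, inv_app, if_true] at k'
    by_contra ne
    rw [if_neg fun e => ne (by rw [← e, app_inv, e])] at k'
    exact absurd k' (by decide)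
  have exS : ∀ a ∈ S2, Ex J (J a) a PP := fun a ha e he => h.em2.self ha (PP_le he)
  have hσ : ∀ a ∈ S2, (ρ (J a)).σ = a.σ := fun a ha => sig _ _ (exS a ha)
  have hm : ∀ a ∈ S2, ∀ b ∈ S2, ρ (J (a * b)) = ρ (J a) * ρ (J b) := fun a ha b hb => by
    rw [h.em2.mul a ha b hb, mo.mul _ (mo.le a ha) _ (mo.le b hb)]
  have tr : ∀ g m, Ex J g m PP → m.σ 0 = 0 → ∀ a ∈ S2, a.σ 0 = 0 →
      (ρ (g * J a * g⁻¹)).f 0 = (ρ (J a)).f 0 := fun g m e m0 a ha a0 => by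
    rw [cj g ((hH g).2 ⟨m, e⟩) _ (mo.le a ha)]
    exact conj_fix (by rw [sig g m e, m0]) (by rw [hσ a ha, a0])
  have s23 : tp 2 3 ∈ S2 := by decide +kernel
  have s45 : tp 4 5 ∈ S2 := by decide +kernel
  have s67 : tp 6 7 ∈ S2 := by decide +kernel
  have t23 : xe 2 3 ∈ T0 := by decide +kernel
  have t13 : xe 1 3 ∈ T0 := by decide +kernel
  have e1 : (ρ (J (tp 2 3))).f 0 = (ρ (J (tp 6 7))).f 0 := by
    obtain ⟨g, hg⟩ := h.sg
    rw [← tr g _ (fun e he => hg e (hB.m2.le.2.2.2.2.2.2.2.2.2.2.1 he)) (by decide +kernel) _ s23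
      (by decide +kernel), hg _ (by decide +kernel),
      show xe 3 2 * tp 2 3 * (xe 3 2)⁻¹ = tp 6 7 by decide +kernel]
  have e2 : (ρ (J (tp 4 5))).f 0 = (ρ (J (tp 6 7))).f 0 := by
    rw [← tr _ _ (exS _ t23.2) (by decide +kernel) _ s45 (by decide +kernel),
      h.em2.self t23.2 s45, show xe 2 3 * tp 4 5 * (xe 2 3)⁻¹ = tp 6 7 by decide +kernel]
  have e3 : (ρ (J (xe 1 3))).f 0 = 0 := by
    rw [show xe 1 3 = tp 4 5 * tp 6 7 by decide +kernel, hm _ s45 _ s67, N2.mul_f, hσ _ s67,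
      show (tp 6 7).σ 0 = 0 by decide +kernel, e2, z2add]
  have e4 : (ρ (J (xe 2 3))).f 0 = 0 := by
    obtain ⟨g, g1, g2, g3⟩ := h.exP (xe 1 2 * xe 2 1 * xe 1 2) (by decide +kernel)
    have gH := (hH g).2 ⟨_, g3⟩
    have aN := mul_mem g1 (kit.le _ t23)
    have aH := mul_mem (mul_mem gH (mo.le _ t23.2)) (inv_mem gH)
    have od := ki.ker _ (mul_mem (mul_mem aN (inv_mem g1)) (kit.le _ t13)) (by
      rw [ki.mul _ (mul_mem aN (inv_mem g1)) _ (kit.le _ t13), ki.mul _ aN _ (inv_mem g1),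
        ki.mul _ g1 _ (kit.le _ t23), kit.inv g g1, g2, ki.res _ t23, ki.res _ t13, ← map_inv,
        ← map_mul, ← map_mul, ← map_mul, ← map_one pm2]
      exact congrArg pm2 (by decide +kernel))
    have mP : ρ (g * J (xe 2 3) * g⁻¹ * J (xe 1 3)) ∈ PP := by
      change N2.σ _ = 1
      rw [mo.mul _ aH _ (mo.le _ t13.2), cj g gH _ (mo.le _ t23.2), N2.mul_σ, N2.mul_σ, N2.mul_σ,
        N2.inv_σ, sig _ _ g3, hσ _ t23.2, hσ _ t13.2]
      decide +kernel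
    obtain ⟨n, hn⟩ := od
    have k := map_pow r ⟨_, mul_mem aH (mo.le _ t13.2)⟩ (2 * n + 1)
    rw [show (⟨_, mul_mem aH (mo.le _ t13.2)⟩ : H) ^ (2 * n + 1) = 1 from Subtype.ext (by
      rw [coe_pow, ← hn]; exact pow_orderOf_eq_one _), map_one, pow_succ, pow_mul, pow_two] at k
    change 1 = (ρ _ * ρ _) ^ n * ρ _ at k
    rw [PP_sq mP, one_pow, one_mul, mo.mul _ aH _ (mo.le _ t13.2)] at k
    have k' := congrArg (N2.f · 0) k
    simp only [N2.mul_f, N2.one_f] at k'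
    rw [hσ _ t13.2, show (xe 1 3).σ 0 = 0 by decide +kernel, e3, zero_add,
      tr g _ g3 (by decide +kernel) _ t23.2 (by decide +kernel)] at k'
    exact k'.symm
  obtain ⟨c, hc⟩ : ∃ c, c = (ρ (J (tp 6 7))).f 0 := ⟨_, rfl⟩
  have od : ∀ a ∈ S2, sg a.σ = 1 → (ρ (J a)).f 0 = c → (tw c (ρ (J a))).f 0 = 0 := fun a ha k e => by
    change (ρ (J a)).f 0 + c * sg (ρ (J a)).σ = 0
    rw [hσ a ha, k, e, mul_one, z2add]
  obtain ⟨y, hy⟩ := cob (fun a => tw c (ρ (J a))) (fun a ha b hb => by rw [hm a ha b hb, tw_mul])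
    hσ (fun e he => by rw [mo.res e he, tw_P c he])
    (od _ s23 (by decide +kernel) (e1.trans hc.symm)) (od _ s45 (by decide +kernel) (e2.trans hc.symm))
    (od _ s67 (by decide +kernel) hc.symm) (by
      change (ρ (J (xe 2 3))).f 0 + c * sg (ρ (J (xe 2 3))).σ = 0
      rw [hσ _ t23.2, e4, show sg (xe 2 3).σ = 0 by decide +kernel, mul_zero, add_zero])
  refine ⟨fun g => y * tw c (ρ g) * y⁻¹, fun a ha b hb => ?_, mo.le, hy, fun m => ?_,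
    fun g hg e => mo.ker g hg ?_⟩
  · rw [mo.mul a ha b hb, tw_mul]; group
  · obtain ⟨g, hg, e⟩ := mo.sur (tw c (y⁻¹ * m * y))
    exact ⟨g, hg, by rw [e, tw_tw]; group⟩
  · rw [← tw_tw c (ρ g), conj_eq_one_iff.1 e, tw_P c (one_mem _)]

end Cfsg.Agent.H20.KnM1b
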