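import Cfsg.Agent.H73.BdDefs

/-! Project BD: the lattice lemma. -/

set_option autoImplicit false

namespace Cfsg.Agent.H20.BdLat

open Finset

universe u

theorem key {ι : Type u} [Fintype ι] (k : ℕ) (hk : Fintype.card ι ≤ k) (i0 : ι)
    (Λ : AddSubgroup (ι → ℝ)) (h : ∀ x ∈ Λ, |x i0| ≤ ∑ i, x i ^ 2) (r r2 : ℝ) (hr : 0 < r)
    (hr2 : 0 < r2) (y : ι → ℝ) (hy : ∀ i, |y i| ≤ r)
    (hs : y ∈ Submodule.span ℝ {x | x ∈ Λ ∧ ∀ i, |x i| ≤ r2}) :
    |y i0| ≤ (k * (k + 1) ^ 2 + k ^ 2) * r * r2 := by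
  have hk' : (Fintype.card ι : ℝ) ≤ k := by exact_mod_cast hk
  have sm : ∀ x ∈ Λ, ∀ t : ℝ, (∀ i, |x i| ≤ t) → |x i0| ≤ k * t ^ 2 := by
    intro x hx t ht
    refine (h x hx).trans ?_
    have : ∑ i, x i ^ 2 ≤ (univ : Finset ι).card • t ^ 2 :=
      sum_le_card_nsmul _ _ _ fun i _ => by
        rw [← sq_abs]; exact pow_le_pow_left₀ (abs_nonneg _) (ht i) 2
    rw [card_univ, nsmul_eq_mul] at this
    exact this.trans (mul_le_mul_of_nonneg_right hk' (sq_nonneg _))
  obtain ⟨b, hb, hsp, hli⟩ := exists_linearIndependent ℝ {x | x ∈ Λ ∧ ∀ i, |x i| ≤ r2}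
  have : Finite b := hli.finite
  have := Fintype.ofFinite b
  have cb : (Fintype.card b : ℝ) ≤ k := by
    have := hli.fintype_card_le_finrank
    rw [Module.finrank_fintype_fun_eq_card] at this
    exact_mod_cast this.trans hk
  rw [← hsp, ← Subtype.range_coe (s := b)] at hs
  obtain ⟨c, hc⟩ := (Submodule.mem_span_range_iff_exists_fun ℝ).mp hs
  set s := r2 / r with hs'
  have s0 : 0 < s := div_pos hr2 hr
  let z : ι → ℝ := ∑ j : b, ⌊s * c j⌋ • (j : ι → ℝ)
  have zΛ : z ∈ Λ := sum_mem fun j _ => zsmul_mem (hb j.2).1 _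
  have ez : ∀ i, s * y i = z i + ∑ j : b, Int.fract (s * c j) * (j : ι → ℝ) i := by
    intro i
    rw [← hc]
    simp only [z, Finset.sum_apply, Pi.smul_apply, smul_eq_mul, mul_sum,
      ← sum_add_distrib]
    refine sum_congr rfl fun j _ => ?_
    rw [zsmul_eq_mul, ← add_mul, Int.floor_add_fract, mul_assoc]
  have bd : ∀ i (t : ℝ), 0 ≤ t → (∀ j : b, |(j : ι → ℝ) i| ≤ t) →
      |∑ j : b, Int.fract (s * c j) * (j : ι → ℝ) i| ≤ k * t := by
    intro i t t0 ht
    refine (abs_sum_le_sum_abs _ _).trans ?_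
    have : ∑ j : b, |Int.fract (s * c j) * (j : ι → ℝ) i| ≤ (univ : Finset b).card • t :=
      sum_le_card_nsmul _ _ _ fun j _ => by
        rw [abs_mul, abs_of_nonneg (Int.fract_nonneg _)]
        exact (mul_le_of_le_one_left (abs_nonneg _) (Int.fract_lt_one _).le).trans (ht j)
    rw [card_univ, nsmul_eq_mul] at this
    exact this.trans (mul_le_mul_of_nonneg_right cb t0)
  have zb : ∀ i, |z i| ≤ (k + 1) * r2 := by
    intro i
    have h1 := bd i r2 hr2.le fun j => (hb j.2).2 i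
    have h2 : |s * y i| ≤ r2 := by
      rw [abs_mul, abs_of_pos s0]
      calc s * |y i| ≤ s * r := mul_le_mul_of_nonneg_left (hy i) s0.le
        _ = r2 := by rw [hs']; field_simp
    have h3 := ez i
    rw [abs_le] at h1 h2 ⊢
    constructor <;> linarith [h1.1, h1.2, h2.1, h2.2]
  have h1 := sm z zΛ _ zb
  have h2 := bd i0 (k * r2 ^ 2) (by positivity) fun j => sm j (hb j.2).1 r2 (hb j.2).2
  have h3 : s * |y i0| ≤ k * ((k + 1) * r2) ^ 2 + k * (k * r2 ^ 2) := by
    rw [← abs_of_pos s0, ← abs_mul, ez i0]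
    exact (abs_add_le _ _).trans (add_le_add h1 h2)
  have h4 : |y i0| = (s * |y i0|) * (r / r2) := by rw [hs']; field_simp
  rw [h4]
  calc s * |y i0| * (r / r2) ≤ (k * ((k + 1) * r2) ^ 2 + k * (k * r2 ^ 2)) * (r / r2) :=
        mul_le_mul_of_nonneg_right h3 (by positivity)
    _ = _ := by field_simp

/-- the scales -/
def sc (k : ℕ) : ℕ → ℕ
  | 0 => 1
  | j + 1 => sc k j + 2 * (k * (k + 1) ^ 2 + k ^ 2) * (sc k j ^ k + 1) + 1

theorem sc_mono (k : ℕ) : Monotone (sc k) := monotone_nat_of_le_succ fun j => by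
  simp only [sc]; omega

theorem sc_pos (k j : ℕ) : 0 < sc k j := sc_mono k (Nat.zero_le j)

theorem lat : H73.Bd.LatStmt.{u} := by
  intro k
  refine ⟨sc k k ^ k + 1, fun ι _ hk i0 d q q0 d0 h => ?_⟩
  classical
  by_contra hq
  push Not at hq
  have qR : (0 : ℝ) < q := by exact_mod_cast q0
  let Λ : AddSubgroup (ι → ℝ) :=
    { carrier := {x | ∃ (u : ℤ) (n : ι → ℤ), (∀ i, (q : ℤ) ∣ n i - u * d i) ∧ ∀ i, x i = n i / q}
      zero_mem' := ⟨0, 0, by simp, by simp⟩
      add_mem' := by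
        rintro a b ⟨u, n, h1, h2⟩ ⟨u', n', h1', h2'⟩
        refine ⟨u + u', n + n', fun i => ?_, fun i => ?_⟩
        · have e : (n + n') i - (u + u') * d i = (n i - u * d i) + (n' i - u' * d i) := by
            rw [Pi.add_apply]; ring
          rw [e]; exact dvd_add (h1 i) (h1' i)
        · simp only [Pi.add_apply, h2, h2']; push_cast; ring
      neg_mem' := by
        rintro a ⟨u, n, h1, h2⟩
        refine ⟨-u, -n, fun i => ?_, fun i => ?_⟩
        · have e : (-n) i - (-u) * d i = -(n i - u * d i) := by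
            rw [Pi.neg_apply]; ring
          rw [e]; exact (h1 i).neg_right
        · simp only [Pi.neg_apply, h2]; push_cast; ring }
  have h0 : ∀ x ∈ Λ, x i0 ≤ ∑ i, x i ^ 2 := by
    rintro x ⟨u, n, h1, h2⟩
    have h3 : (q : ℝ) * n i0 ≤ ∑ i, (n i : ℝ) ^ 2 := by exact_mod_cast h u n h1
    simp only [h2, div_pow, ← sum_div]
    rw [div_le_div_iff₀ qR (by positivity)]
    nlinarith
  have hΛ : ∀ x ∈ Λ, |x i0| ≤ ∑ i, x i ^ 2 := fun x hx => by
    have h1 := h0 _ (neg_mem hx)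
    simp only [Pi.neg_apply, neg_sq] at h1
    exact abs_le.mpr ⟨by linarith, h0 x hx⟩
  let V : ℕ → Submodule ℝ (ι → ℝ) := fun j =>
    Submodule.span ℝ {x | x ∈ Λ ∧ ∀ i, |x i| ≤ 1 / (sc k j : ℝ)}
  have Vm : ∀ j, V (j + 1) ≤ V j := fun j => Submodule.span_mono fun x hx =>
    ⟨hx.1, fun i => (hx.2 i).trans (one_div_le_one_div_of_le (by exact_mod_cast sc_pos k j)
      (by exact_mod_cast sc_mono k (Nat.le_succ j)))⟩
  obtain ⟨j, jk, hj⟩ : ∃ j ≤ k, V j ≤ V (j + 1) := by
    by_contra hn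
    push Not at hn
    have : ∀ j ≤ k + 1, Module.finrank ℝ (V j) + j ≤ k := by
      intro j
      induction j with
      | zero =>
        intro _
        have := Submodule.finrank_le (V 0)
        rw [Module.finrank_fintype_fun_eq_card] at this
        omega
      | succ j ih =>
        intro hj
        have h1 := Submodule.finrank_lt_finrank_of_lt
          (lt_of_le_of_ne (Vm j) fun e => hn j (by omega) e.ge)
        have := ih (by omega)
        omega
    have := this (k + 1) le_rfl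
    omega
  set N := sc k j with hN
  have N0 : 0 < N := sc_pos k j
  have NR : (0 : ℝ) < N := by exact_mod_cast N0
  set M := N ^ k + 1 with hM
  have Mq : M < q := lt_of_le_of_lt
    (Nat.succ_le_succ (Nat.pow_le_pow_left (sc_mono k jk) k)) hq
  set s := q / M with hs
  have s1 : 1 ≤ s := (Nat.one_le_div_iff (by omega)).mpr Mq.le
  have sM : M * s ≤ q := Nat.mul_div_le q M
  have qs : q < 2 * (M * s) := by
    have := Nat.lt_mul_div_succ q (show 0 < M by omega)
    rw [← hs] at this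
    nlinarith
  let x : Fin M → ι → ℝ := fun a i => (((a * s : ℕ) * d i) % q : ℤ) / q
  have xΛ : ∀ a, x a ∈ Λ := fun a => ⟨(a * s : ℕ), fun i => ((a * s : ℕ) * d i) % q,
    fun i => (Int.mod_modEq _ _).symm.dvd, fun i => rfl⟩
  have qZ : (0 : ℤ) < q := by exact_mod_cast q0
  have x0 : ∀ a i, 0 ≤ x a i := fun a i =>
    div_nonneg (by exact_mod_cast Int.emod_nonneg _ qZ.ne') qR.le
  have x1 : ∀ a i, x a i < 1 := fun a i =>
    (div_lt_one qR).mpr (by exact_mod_cast Int.emod_lt_of_pos _ qZ)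
  have xi : ∀ a : Fin M, x a i0 = (a : ℕ) * s / q := fun a => by
    have : (a : ℕ) * s < q := lt_of_lt_of_le (Nat.mul_lt_mul_of_pos_right a.2 (by omega)) sM
    simp only [x, d0, mul_one]
    rw [Int.emod_eq_of_lt (by positivity) (by exact_mod_cast this)]
    push_cast; rfl
  let f : Fin M → ι → Fin N := fun a i => ⟨⌊N * x a i⌋₊,
    (Nat.floor_lt (mul_nonneg NR.le (x0 a i))).mpr (by nlinarith [x1 a i])⟩
  obtain ⟨a, a', ne, e⟩ := Fintype.exists_ne_map_eq_of_card_lt f (by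
    rw [Fintype.card_fun, Fintype.card_fin, Fintype.card_fin]
    exact Nat.lt_succ_of_le (Nat.pow_le_pow_right N0 hk))
  have yb : ∀ i, |(x a - x a') i| ≤ 1 / (N : ℝ) := fun i => by
    have e1 : (⌊N * x a i⌋₊ : ℝ) = ⌊N * x a' i⌋₊ := by
      exact_mod_cast congrArg Fin.val (congrFun e i)
    have h1 := Nat.floor_le (mul_nonneg NR.le (x0 a i))
    have h2 := Nat.lt_floor_add_one (N * x a i)
    have h3 := Nat.floor_le (mul_nonneg NR.le (x0 a' i))
    have h4 := Nat.lt_floor_add_one (N * x a' i)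
    rw [Pi.sub_apply, le_div_iff₀ NR, ← abs_of_pos NR, ← abs_mul, abs_le]
    constructor <;> nlinarith
  have N2 : (0 : ℝ) < sc k (j + 1) := by exact_mod_cast sc_pos k (j + 1)
  have kk := key k hk i0 Λ hΛ _ _ (by positivity) (by positivity) _ yb
    (hj (Submodule.subset_span ⟨sub_mem (xΛ a) (xΛ a'), yb⟩))
  have lo : (s : ℝ) / q ≤ |(x a - x a') i0| := by
    rw [Pi.sub_apply, xi, xi, ← sub_div, ← sub_mul, abs_div, abs_of_pos qR, abs_mul,
      abs_of_nonneg (Nat.cast_nonneg s : (0 : ℝ) ≤ s)]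
    refine div_le_div_of_nonneg_right (le_mul_of_one_le_left (Nat.cast_nonneg s) ?_) qR.le
    have : ((a : ℕ) : ℤ) - (a' : ℕ) ≠ 0 := fun h => ne (Fin.ext (by omega))
    exact_mod_cast Int.one_le_abs this
  set C : ℝ := k * (k + 1) ^ 2 + k ^ 2 with hC
  have C0 : 0 ≤ C := by positivity
  have big : 2 * C * M < sc k (j + 1) := by
    simp only [sc, ← hN, ← hM, hC]; push_cast; linarith
  have N1 : (1 : ℝ) ≤ N := by exact_mod_cast N0
  have h5 : (s : ℝ) / q ≤ C / sc k (j + 1) := by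
    refine (lo.trans kk).trans ?_
    rw [mul_one_div, mul_one_div]
    exact div_le_div_of_nonneg_right (div_le_self C0 N1) N2.le
  rw [div_le_div_iff₀ qR N2] at h5
  have qs' : (q : ℝ) ≤ 2 * (M * s) := by exact_mod_cast qs.le
  have sR : (0 : ℝ) < s := by exact_mod_cast s1
  nlinarith [mul_le_mul_of_nonneg_left qs' C0, mul_lt_mul_of_pos_left big sR]

end Cfsg.Agent.H20.BdLat
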