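import Mathlib
import Cfsg.Agent.H73.CVKit
import Cfsg.Agent.H92.C6Geo

/-! # Project CV: overgroups of the normaliser of `11^{1+2}` are almost simple -/

set_option autoImplicit false

namespace Cfsg.Agent.H20.CVGeo

open Matrix Cfsg.Geo
open Cfsg.Agent.H25 Cfsg.Agent.H73.CV
open Cfsg.Agent.H25.CU (qF hf subSU qF_eq hf_eq)
open Cfsg.Agent.H25.C6 hiding Fld Mod Bc Low Ar Tri StdStmt NrmStmt EsStmt GeoStmt TpStmt TvStmt
  OddStmt ZsStmt H3bStmt H3cStmt H3dStmt H3Stmt A1Stmt K0Stmt SwStmt PrimStmt RealStmt BigStmt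
  SmallStmt ClsStmt A2Stmt CopStmt Tv5Stmt LiftStmt KbStmt KoddStmt UqStmt One
open Cfsg.Agent.H92.C6Geo (Cm no_hom cm_XY X_pow Y_pow W_X W_Y)
open scoped MatrixGroups commutatorElement

universe u

theorem sq11 : ∀ k : ZMod 11, 1 + k * k ≠ 0 := by decide

theorem geo (es : EsStmt.{u}) : GeoStmt.{u} := by
  intro F _ _ r n p _ ω h G hG
  have hr : r.Prime := Fact.out
  have h1 : ω ^ r = 1 := h.pow_r
  have cm := cm_XY h1
  have h3 := h.seven_le
  have hk : ∀ k : ℕ, ¬ r ∣ 1 + k * k := fun k e => by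
    have e' : (1 + (k : ZMod r) * k) = 0 := by exact_mod_cast (ZMod.natCast_eq_zero_iff _ r).2 e
    obtain rfl := h.r11
    exact sq11 _ e'
  have n2 : 2 ≤ Fintype.card (ZMod r) := by rw [ZMod.card]; omega
  have ht : galg G = ⊤ := eq_top_iff.2 (h.galg_R0.ge.trans (galg_mono
    ((Subgroup.closure_le _).2 (by rintro _ (rfl | rfl); exacts [hG.x, hG.y]))))
  have hI := irr_of_galg_eq_top ht
  have hP : Prim G := by
    by_contra hP
    obtain ⟨N, -, hN, k1, k2⟩ := exists_of_not_prim hP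
    by_cases hc : IsScal (H25.ctr (galg N))
    · obtain ⟨a, b, -, ha, hb, hab, -⟩ := exists_proper_tensor hI (nrm_galg hN) hc k1 k2
      rw [ZMod.card] at hab
      exact Nat.not_prime_mul (by omega) (by omega) (hab ▸ hr)
    rcases linear_comm_cases hI (nrm_galg hN).ctr (ctr_comm _) hc with
      ⟨t, m, D, hD, hle⟩ | ⟨s, K, hs, hK, hle⟩
    · have h4 := IsMDecomposition.mul_eq_card hD
      rw [ZMod.card] at h4
      have h5 := hD.two_le
      obtain ⟨-, rfl⟩ := (Nat.prime_mul_iff.1 (h4 ▸ hr)).resolve_right fun e => by omega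
      obtain ⟨ψ, hψ⟩ := exists_mon_hom hD hle
      refine no_hom hr hk h.ord hG.z hG.x hG.y hG.w cm (X_pow h1) Y_pow (W_X h.ord) (W_Y h.ord) ?_ ψ
        (fun g hg => (hψ g).2 fun i => scalars_le_stab _ hg)
        fun a b ha hb => comm_of_stab hD ((hψ a).1 ha) ((hψ b).1 hb)
      rw [Nat.card_perm, Nat.card_eq_fintype_card, Fintype.card_fin, ← mul_one t, h4]
      obtain rfl := h.r11
      decide
    · have h4 := IsFieldSubalgebra.dvd_card hK
      rw [ZMod.card, Nat.prime_dvd_prime_iff_eq hs hr] at h4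
      subst h4
      letI := (isField_of_fieldSubalgebra hK.comm hK.inv).toField
      have hn := nrm_of_le hle
      let φ : G →* (K ≃ₐ[F] K) := MonoidHom.mk' (fun g => hn.equiv g.2) fun a b =>
        AlgEquiv.ext fun x => Subtype.ext (cj_mul _ _ _)
      have hm : ∀ g : G, φ g = 1 → g.1.1 ∈ K := fun g hg =>
        IsFieldSubalgebra.mem_of_commute (by rwa [ZMod.card]) fun k hk => (cj_eq_self_iff _ _).1
          (congrArg (fun e : K ≃ₐ[F] K => ((e ⟨k, hk⟩ : K) : Matrix (ZMod s) (ZMod s) F)) hg)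
      refine no_hom hr hk h.ord hG.z hG.x hG.y hG.w cm (X_pow h1) Y_pow (W_X h.ord) (W_Y h.ord) ?_ φ
        (fun g hg => AlgEquiv.ext fun k => Subtype.ext ((cj_eq_self_iff _ _).2 ?_))
        fun a b ha hb => Units.ext (hK.comm _ (hm a ha) _ (hm b hb))
      · rw [IsGalois.card_aut_eq_finrank, hK.finrank_eq]
        intro e
        have := Nat.le_of_dvd hr.pos e
        nlinarith
      · obtain ⟨c, hc⟩ := mem_scalars_iff_scal.1 hg
        rw [← hc, coe_scal, smul_mul_assoc, one_mul, mul_smul_comm, mul_one]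
  rcases core n2 hG.z (not_le_scalars_of_galg n2 ht) hP with
    ⟨s, R, hR, -, hN, -⟩ | ⟨P, hA⟩ | ⟨t, m, N, L, T, hT⟩
  · exact .inl (es F r n p ω h G hG s R hR hN)
  · refine .inr ⟨P, hA, fun F₀ h0 hre => ?_⟩
    obtain ⟨B, hB⟩ := realisableOver_iff.1 hre
    have hle := le_subfieldSubgroup hA.galg_top hA.nb hB
    exact h.not_mem_subfield h0 (cm.mem_subfield (hle hG.x) (hle hG.y))
  · have h4 := hT.card_eq
    have := hT.two_le_t
    rw [ZMod.card] at h4
    have := (hr.pow_eq_iff.1 h4.symm).2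
    omega

end Cfsg.Agent.H20.CVGeo
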