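import Mathlib
import Cfsg.Agent.H11.Basic
import Cfsg.Agent.H14.Constituent
import Cfsg.Agent.H24.Deg

/-!
Dade's embedding of solvable groups into M-groups.
-/

set_option autoImplicit false

namespace Cfsg.Agent.H20.DM

open Cfsg
open scoped ComplexConjugate

universe u

/-- M-groups -/
def Mon (M : Type*) [Group M] [Fintype M] : Prop :=
  ∀ χ : M → ℂ, IsIrrCharacter M χ →
    ∃ (H : Subgroup M) (lam : H →* ℂˣ), χ = indFun H (fun h => (lam h : ℂ))

theorem inner_ind_hom {G Y : Type*} [Group G] [Fintype G] [Group Y] [Fintype Y] (f : Y →* G)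
    (hf : Function.Injective f) (μ : Y → ℂ) {χ : G → ℂ} (hχ : IsClassFunction G χ) :
    classInner χ (indFun f.range (fun l => μ ((MonoidHom.ofInjective hf).symm l))) =
      classInner (fun y => χ (f y)) μ := by
  classical
  rw [H14.classInner_indFun_right _ _ hχ,
    ← H11.classInner_comp_mulEquiv (MonoidHom.ofInjective hf)]
  simp only [MulEquiv.symm_apply_apply]
  rfl

theorem mon_of_hom {G Y : Type*} [Group G] [Fintype G] [Group Y] [Fintype Y] (f : Y →* G)
    (hf : Function.Injective f) (μ : Y →* ℂˣ) {χ : G → ℂ} (hχ : IsIrrCharacter G χ)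
    (h : classInner (fun y => χ (f y)) (fun y => (μ y : ℂ)) ≠ 0) {n : ℕ} (hn : χ 1 = n)
    (hc : Nat.card G ≤ n * Nat.card Y) :
    ∃ (H : Subgroup G) (lam : H →* ℂˣ), χ = indFun H (fun h => (lam h : ℂ)) := by
  classical
  let lam : f.range →* ℂˣ := μ.comp (MonoidHom.ofInjective hf).symm.toMonoidHom
  refine ⟨f.range, lam, ?_⟩
  have hch : IsCharacter G (indFun f.range (fun h => (lam h : ℂ))) :=
    H14.IsCharacter.indFun _ (H11.isCharacter_monoidHom lam)
  have h1 : classInner (indFun f.range (fun h => (lam h : ℂ))) χ ≠ 0 := by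
    rw [H11.classInner_ne_zero_comm]
    have := inner_ind_hom f hf (fun y => (μ y : ℂ)) (H13.isClassFunction_of_irr hχ)
    exact fun h0 => h (this.symm.trans h0)
  have h2 : indFun f.range (fun h => (lam h : ℂ)) 1 = (f.range.index : ℕ) := by
    rw [H14.indFun_one]; simp
  have h3 := H14.degree_le_of_inner_ne_zero hch hχ h1 hn h2
  have h4 : f.range.index ≤ n := by
    have h5 := f.range.index_mul_card
    rw [← Nat.card_congr (MonoidHom.ofInjective hf).toEquiv] at h5
    rw [← h5] at hc
    exact Nat.le_of_mul_le_mul_right hc Nat.card_pos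
  refine (H14.eq_of_inner_ne_zero_of_degree_eq hch hχ h1 ?_).symm
  rw [h2, hn, le_antisymm h3 h4]

theorem card_mul_degree_le {G ι : Type*} [Group G] [Fintype G] (η : ι → G → ℂ)
    (hη : ∀ i, IsIrrCharacter G (η i)) (hinj : Function.Injective η) (m : ℕ)
    (hm : ∀ i, η i 1 = m) (s : Finset ι) : ∀ (ψ : G → ℂ) (n : ℕ), IsCharacter G ψ → ψ 1 = n →
      (∀ i ∈ s, classInner ψ (η i) ≠ 0) → s.card * m ≤ n := by
  classical
  induction s using Finset.induction_on with
  | empty => intros; simp
  | insert i s hi ih =>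
    intro ψ n hψ hn h
    have h1 := H14.isCharacter_sub_of_inner_ne_zero hψ (hη i) (h i (Finset.mem_insert_self _ _))
    obtain ⟨k, hk⟩ := H13.exists_nat_degree h1
    have h2 := ih _ k h1 hk (by
      intro j hj
      have hij : η i ≠ η j := fun e => hi (hinj e ▸ hj)
      rw [H11.classInner_sub_left, H11.classInner_irr_of_ne (hη i) (hη j) hij, sub_zero]
      exact h j (Finset.mem_insert_of_mem hj))
    have h3 : n = k + m := by
      have : (n : ℂ) = k + m := by rw [← hk, ← hn, ← hm i]; simp
      exact_mod_cast this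
    rw [Finset.card_insert_of_notMem hi, h3]
    nlinarith

section tens

variable {M Q : Type*} [Group M] [Fintype M] [Fintype Q] [DecidableEq Q]

/-- outer tensor product -/
noncomputable def tens (θ : Q → M → ℂ) : (Q → M) → ℂ := fun a => ∏ q, θ q (a q)

theorem inner_tens (θ η : Q → M → ℂ) :
    classInner (tens θ) (tens η) = ∏ q, classInner (θ q) (η q) := by
  simp only [classInner, tens]
  rw [Finset.prod_mul_distrib, Fintype.prod_sum (fun q m => θ q m * conj (η q m)), Nat.card_fun,
    Finset.prod_const, Finset.card_univ, Nat.card_eq_fintype_card (α := Q)]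
  congr 1
  · push_cast; rw [inv_pow]
  · refine Finset.sum_congr rfl fun a _ => ?_
    rw [map_prod, Finset.prod_mul_distrib]

/-- inclusion of a product of subgroups -/
def incl (H : Q → Subgroup M) : (∀ q, H q) →* (Q → M) :=
  MonoidHom.mk' (fun y q => (y q : M)) (fun _ _ => rfl)

omit [Fintype M] [Fintype Q] [DecidableEq Q] in
theorem incl_inj (H : Q → Subgroup M) : Function.Injective (incl H) := fun _ _ h =>
  funext fun q => Subtype.ext (congrFun h q)

/-- product of linear characters -/
noncomputable def plam (H : Q → Subgroup M) (lam : ∀ q, H q →* ℂˣ) : (∀ q, H q) →* ℂˣ :=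
  MonoidHom.mk' (fun y => ∏ q, lam q (y q)) (fun a b => by
    simp only [Pi.mul_apply, map_mul, Finset.prod_mul_distrib])

theorem ind_tens (H : Q → Subgroup M) (lam : ∀ q, H q →* ℂˣ) :
    indFun (incl H).range (fun l => (plam H lam ((MonoidHom.ofInjective (incl_inj H)).symm l) : ℂ)) =
      tens (fun q => indFun (H q) (fun h => (lam q h : ℂ))) := by
  classical
  have key : ∀ a : Q → M, extendByZero (incl H).range
      (fun l => (plam H lam ((MonoidHom.ofInjective (incl_inj H)).symm l) : ℂ)) a =
      ∏ q, extendByZero (H q) (fun h => (lam q h : ℂ)) (a q) := by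
    intro a
    by_cases ha : ∀ q, a q ∈ H q
    · have h1 : a ∈ (incl H).range := ⟨fun q => ⟨a q, ha q⟩, rfl⟩
      rw [H14.extendByZero_of_mem _ _ h1]
      have h2 : (MonoidHom.ofInjective (incl_inj H)).symm ⟨a, h1⟩ = fun q => ⟨a q, ha q⟩ := by
        rw [MulEquiv.symm_apply_eq]; rfl
      rw [h2]
      show ((∏ q, lam q ⟨a q, ha q⟩ : ℂˣ) : ℂ) = _
      rw [Units.coe_prod]
      exact Finset.prod_congr rfl fun q _ =>
        (H14.extendByZero_of_mem (H q) (fun h => (lam q h : ℂ)) (ha q)).symm
    · have h1 : a ∉ (incl H).range := by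
        rintro ⟨y, rfl⟩
        exact ha fun q => (y q).2
      rw [H14.extendByZero_of_not_mem _ _ h1]
      push Not at ha
      obtain ⟨q, hq⟩ := ha
      symm
      refine Finset.prod_eq_zero (Finset.mem_univ q) ?_
      exact H14.extendByZero_of_not_mem (H q) _ hq
  funext g
  simp only [H14.indFun_apply, tens, key]
  rw [Finset.prod_mul_distrib, ← Nat.card_congr (MonoidHom.ofInjective (incl_inj H)).toEquiv,
    Nat.card_pi, Fintype.prod_sum
      (fun q x => extendByZero (H q) (fun h => (lam q h : ℂ)) (x⁻¹ * g q * x))]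
  congr 1
  push_cast
  rw [Finset.prod_inv_distrib]

theorem exists_tuple {ψ : (Q → M) → ℂ} (h : ψ 1 ≠ 0) :
    ∃ θ : Q → IrrCharacter M, classInner ψ (tens (fun q => (θ q : M → ℂ))) ≠ 0 := by
  classical
  have := Fintype.ofFinite (IrrCharacter M)
  by_contra hne
  push Not at hne
  have h1 : (∑ θ : Q → IrrCharacter M, (∏ q, (θ q : M → ℂ) 1) • tens (fun q => (θ q : M → ℂ))) =
      fun a => if a = 1 then (Nat.card M : ℂ) ^ Fintype.card Q else 0 := by
    funext a
    simp only [Finset.sum_apply, Pi.smul_apply, smul_eq_mul, tens, ← Finset.prod_mul_distrib]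
    rw [← Fintype.prod_sum (fun q (χ : IrrCharacter M) => (χ : M → ℂ) 1 * (χ : M → ℂ) (a q))]
    simp only [H13.sum_degree_mul]
    split_ifs with ha
    · subst ha; simp
    · obtain ⟨q, hq⟩ := Function.ne_iff.1 ha
      exact Finset.prod_eq_zero (Finset.mem_univ q) (if_neg hq)
  have h2 : classInner ψ (∑ θ : Q → IrrCharacter M,
      (∏ q, (θ q : M → ℂ) 1) • tens (fun q => (θ q : M → ℂ))) = 0 := by
    rw [H11.classInner_sum_right]
    refine Finset.sum_eq_zero fun θ _ => ?_
    rw [H11.classInner_smul_right, hne θ, mul_zero]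
  rw [h1, classInner, Finset.sum_eq_single 1 (fun a _ ha => by simp [ha]) (by simp)] at h2
  have h3 := H14.card_group_ne_zero (Q → M)
  have h4 := H14.card_group_ne_zero M
  simp only [if_true, map_pow, map_natCast, mul_eq_zero, inv_eq_zero, pow_eq_zero_iff'] at h2
  rcases h2 with h2 | h2 | h2
  · exact h3 h2
  · exact h h2
  · exact h4 h2.1

end tens

section wr

variable {M Q : Type*} [Group M] [Group Q]

/-- the base group -/
def base : (Q → M) →* M ≀ᵣ Q := MonoidHom.mk' (fun a => ⟨a, 1⟩) (fun a b => by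
  ext q <;> simp)

theorem base_inj : Function.Injective (base : (Q → M) →* M ≀ᵣ Q) := fun _ _ h =>
  congrArg RegularWreathProduct.left h

/-- functoriality in the bottom group -/
def wmap {N : Type*} [Group N] (f : N →* M) : N ≀ᵣ Q →* M ≀ᵣ Q :=
  MonoidHom.mk' (fun w => ⟨fun q => f (w.left q), w.right⟩) (fun a b => by
    ext q <;> simp)

theorem wmap_inj {N : Type*} [Group N] (f : N →* M) (hf : Function.Injective f) :
    Function.Injective (wmap f : N ≀ᵣ Q →* M ≀ᵣ Q) := by
  intro a b h
  have h1 := congrArg RegularWreathProduct.left h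
  have h2 := congrArg RegularWreathProduct.right h
  exact RegularWreathProduct.ext (funext fun q => hf (congrFun h1 q)) h2

/-- linear characters of a wreath product -/
noncomputable def wlam [Fintype Q] (lam : M →* ℂˣ) (β : Q →* ℂˣ) : M ≀ᵣ Q →* ℂˣ :=
  MonoidHom.mk' (fun w => (∏ q, lam (w.left q)) * β w.right) (fun a b => by
    simp only [RegularWreathProduct.mul_left, RegularWreathProduct.mul_right, Pi.mul_apply,
      map_mul, Finset.prod_mul_distrib]
    rw [Equiv.prod_comp (Equiv.mulLeft a.right⁻¹) (fun q => lam (b.left q)) |>.symm]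
    simp only [Equiv.coe_mulLeft]
    rw [mul_mul_mul_comm])

/-- shift of coordinates -/
def shift (c : Q) : (Q → M) ≃ (Q → M) where
  toFun a := fun x => a (c⁻¹ * x)
  invFun a := fun x => a (c * x)
  left_inv a := by funext x; simp
  right_inv a := by funext x; simp

theorem base_shift (c : Q) (a : Q → M) :
    (base (shift c a) : M ≀ᵣ Q) = RegularWreathProduct.inl c * base a *
      (RegularWreathProduct.inl c)⁻¹ := by
  ext q <;> simp [base, shift]

theorem mon_wr [Fintype M] [Fintype Q] [Fintype (M ≀ᵣ Q)] (hQ : (Nat.card Q).Prime) (hM : Mon M) :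
    Mon (M ≀ᵣ Q) := by
  classical
  intro χ hχ
  have hχc := H13.isClassFunction_of_irr hχ
  have hψ : IsCharacter (Q → M) (fun a => χ (base a)) :=
    H13.isCharacter_comp (H13.isCharacter_of_irr hχ) base
  obtain ⟨n, hn⟩ := H13.exists_nat_degree (H13.isCharacter_of_irr hχ)
  have hψ1 : (fun a : Q → M => χ (base a)) 1 = n := by simp only [map_one, hn]
  obtain ⟨θ, hθ⟩ := exists_tuple (ψ := fun a : Q → M => χ (base a))
    (by simp only [map_one]; exact H13.irr_one_ne_zero hχ)
  choose H lam hH using fun η : IrrCharacter M => hM η η.2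
  have hind : ∀ θ : Q → IrrCharacter M, tens (fun q => (θ q : M → ℂ)) =
      indFun (incl fun q => H (θ q)).range (fun l => (plam _ (fun q => lam (θ q))
        ((MonoidHom.ofInjective (incl_inj fun q => H (θ q))).symm l) : ℂ)) := by
    intro θ
    rw [ind_tens]
    congr 1
    funext q
    exact hH (θ q)
  have hirr : ∀ θ : Q → IrrCharacter M, IsIrrCharacter (Q → M) (tens fun q => (θ q : M → ℂ)) := by
    intro θ
    refine H14.isIrr_of_inner_self_eq_one ?_ ?_
    · rw [hind]
      exact H14.IsCharacter.indFun _ (H11.isCharacter_monoidHom ((plam _ (fun q => lam (θ q))).comp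
        (MonoidHom.ofInjective (incl_inj fun q => H (θ q))).symm.toMonoidHom))
    · rw [inner_tens]
      exact Finset.prod_eq_one fun q _ => H11.classInner_irr_self (θ q).2
  have hdeg : tens (fun q => (θ q : M → ℂ)) 1 = ((incl fun q => H (θ q)).range.index : ℕ) := by
    rw [hind, H14.indFun_one]; simp
  have hcard : (incl fun q => H (θ q)).range.index * Nat.card (∀ q, H (θ q)) =
      Nat.card M ^ Nat.card Q := by
    rw [Nat.card_congr (MonoidHom.ofInjective (incl_inj fun q => H (θ q))).toEquiv,
      Subgroup.index_mul_card, Nat.card_fun]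
  have hin : classInner (fun y : ∀ q, H (θ q) => χ (base (incl (fun q => H (θ q)) y)))
      (fun y => (plam _ (fun q => lam (θ q)) y : ℂ)) ≠ 0 := by
    rw [hind, inner_ind_hom (incl fun q => H (θ q)) (incl_inj fun q => H (θ q)) (fun y => (plam _ (fun q => lam (θ q)) y : ℂ))
      (H13.isClassFunction_of_isCharacter hψ)] at hθ
    exact hθ
  by_cases hc : ∀ q, θ q = θ 1
  · obtain ⟨θ0, rfl⟩ : ∃ θ0, θ = fun _ => θ0 := ⟨θ 1, funext hc⟩
    have hcyc : IsCyclic Q := isCyclic_of_prime_card (p := Nat.card Q) (hp := ⟨hQ⟩) rfl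
    have hcomm : ∀ a b : Q, a * b = b * a := fun a b => by
      let := IsCyclic.commGroup (α := Q)
      exact mul_comm a b
    let F : Q → ℂ := fun c => ∑ a : Q → H θ0,
      χ (wmap (H θ0).subtype ⟨a, c⟩) * conj ((∏ q, lam θ0 (a q) : ℂˣ) : ℂ)
    have hF : F ≠ 0 := by
      intro h0
      apply hin
      have h1 : F 1 = 0 := congrFun h0 1
      rw [classInner]
      refine mul_eq_zero_of_right _ ?_
      exact h1
    obtain ⟨β, hβ, hFβ⟩ := H14.exists_irr_inner_ne_zero (H11.isClassFunction_of_comm hcomm F) hF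
    obtain ⟨b, rfl⟩ := H11.exists_monoidHom_of_apply_one_eq_one (H13.isCharacter_of_irr hβ)
      (H11.irr_apply_one_of_comm hcomm hβ)
    have := Fintype.ofFinite (↥(H θ0) ≀ᵣ Q)
    have hle := H14.degree_le_of_inner_ne_zero hψ (hirr fun _ => θ0) hθ hdeg hψ1
    refine mon_of_hom (wmap (H θ0).subtype) (wmap_inj _ (H θ0).subtype_injective)
      (wlam (lam θ0) b) hχ ?_ hn ?_
    · intro h0
      apply hFβ
      rw [classInner] at h0 ⊢
      refine mul_eq_zero_of_right _ ?_
      have h1 := (mul_eq_zero.1 h0).resolve_left (inv_ne_zero (H14.card_group_ne_zero _))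
      rw [← (RegularWreathProduct.equivProd (H θ0) Q).symm.sum_comp, Fintype.sum_prod_type_right]
        at h1
      rw [← h1]
      refine Finset.sum_congr rfl fun c _ => ?_
      rw [Finset.sum_mul]
      refine Finset.sum_congr rfl fun a _ => ?_
      rw [mul_assoc, ← map_mul, ← Units.val_mul]
      rfl
    · rw [RegularWreathProduct.card, RegularWreathProduct.card, ← hcard, Nat.card_fun, ← mul_assoc]
      exact Nat.mul_le_mul_right _ (Nat.mul_le_mul_right _ hle)
  · have hsh : ∀ c : Q, (fun a => tens (fun q => (θ q : M → ℂ)) (shift c a)) =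
        tens (fun q => (θ (c * q) : M → ℂ)) := by
      intro c
      funext a
      simp only [tens]
      rw [← Equiv.prod_comp (Equiv.mulLeft c)]
      simp [shift]
    have hinj : Function.Injective fun c : Q => tens (fun q => (θ (c * q) : M → ℂ)) := by
      intro c c' h
      by_contra hne
      have h1 := H11.classInner_irr_self (hirr fun q => θ (c * q))
      have h' : tens (fun q => (θ (c * q) : M → ℂ)) = tens (fun q => (θ (c' * q) : M → ℂ)) := h
      nth_rewrite 2 [h'] at h1
      rw [inner_tens] at h1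
      have h2 : ∀ q, θ (c * q) = θ (c' * q) := fun q => Subtype.ext
        (H11.irr_eq_of_classInner_ne_zero (θ _).2 (θ _).2 (fun h0 => by
          rw [Finset.prod_eq_zero (Finset.mem_univ q) h0] at h1
          exact zero_ne_one h1))
      have h3 : ∀ q, θ (c' * c⁻¹ * q) = θ q := fun q => by
        have := h2 (c⁻¹ * q)
        rw [mul_inv_cancel_left, ← mul_assoc] at this
        exact this.symm
      have h4 : ∀ k : ℕ, θ ((c' * c⁻¹) ^ k) = θ 1 := by
        intro k
        induction k with
        | zero => rw [pow_zero]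
        | succ k ih => rw [pow_succ', h3, ih]
      apply hc
      intro q
      have h5 : c' * c⁻¹ ≠ 1 := fun e => hne (mul_inv_eq_one.1 e).symm
      have : Fact (Nat.card Q).Prime := ⟨hQ⟩
      obtain ⟨k, rfl⟩ := mem_powers_of_prime_card (p := Nat.card Q) rfl (g' := q) h5
      exact h4 k
    have hle := card_mul_degree_le (fun c : Q => tens (fun q => (θ (c * q) : M → ℂ)))
      (fun c => hirr fun q => θ (c * q)) hinj _ (fun c => by
        rw [← hdeg, ← hsh]
        congr 1) Finset.univ _ n hψ hψ1 (fun c _ => by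
        rw [← hsh]
        have h1 := H11.classInner_comp_equiv (shift c : (Q → M) ≃ (Q → M))
          (fun a : Q → M => χ (base a)) (tens fun q => (θ q : M → ℂ))
        have h2 : (fun a : Q → M => χ (base (shift c a))) = fun a => χ (base a) := by
          funext a
          rw [base_shift, hχc]
        rw [h2] at h1
        rw [h1]
        exact hθ)
    refine mon_of_hom (base.comp (incl fun q => H (θ q))) (base_inj.comp (incl_inj _))
      (plam _ (fun q => lam (θ q))) hχ hin hn ?_
    rw [RegularWreathProduct.card, ← hcard, Finset.card_univ, ← Nat.card_eq_fintype_card] at *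
    calc _ = Nat.card Q * (incl fun q => H (θ q)).range.index * Nat.card (∀ q, H (θ q)) := by ring
      _ ≤ _ := Nat.mul_le_mul_right _ hle

end wr

/-- The Kaloujnine–Krasner embedding. -/
theorem exists_emb {G : Type*} [Group G] (N : Subgroup G) [hN : N.Normal] :
    ∃ f : G →* N ≀ᵣ (G ⧸ N), Function.Injective f := by
  have hmem : ∀ (g : G) (q : G ⧸ N), q.out⁻¹ * g * ((g : G ⧸ N)⁻¹ * q).out ∈ N := by
    intro g q
    rw [← QuotientGroup.eq_one_iff]
    simp
  refine ⟨MonoidHom.mk' (fun g => ⟨fun q => ⟨_, hmem g q⟩, (g : G ⧸ N)⟩) ?_, ?_⟩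
  · intro a b
    ext q
    · simp [mul_assoc]
    · simp
  · refine (injective_iff_map_eq_one _).2 fun g hg => ?_
    have h1 : (g : G ⧸ N) = 1 := congrArg RegularWreathProduct.right hg
    have h2 : (1 : G ⧸ N).out⁻¹ * g * ((g : G ⧸ N)⁻¹ * 1).out = 1 :=
      congrArg (fun w : N ≀ᵣ (G ⧸ N) => ((w.left 1 : N) : G)) hg
    rw [h1, inv_one, mul_one] at h2
    calc g = (1 : G ⧸ N).out * ((1 : G ⧸ N).out⁻¹ * g * (1 : G ⧸ N).out) * (1 : G ⧸ N).out⁻¹ := by
          group
      _ = 1 := by rw [h2]; group

theorem dade : ∀ (n : ℕ) (G : Type u) [Group G] [Finite G], Nat.card G = n → Group.IsSolvable G →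
    ∃ (M : Type u) (_ : Group M) (_ : Fintype M), Mon M ∧ ∃ f : G →* M, Function.Injective f := by
  intro n
  induction n using Nat.strong_induction_on with
  | _ n ih =>
  intro G _ _ hn hs
  by_cases h : (⊥ : Subgroup G) = ⊤
  · have := Fintype.ofFinite G
    refine ⟨G, inferInstance, this, fun χ hχ => ?_, MonoidHom.id G, fun _ _ h => h⟩
    have hcomm : ∀ a b : G, a * b = b * a := fun a b => by
      have ha : a = 1 := Subgroup.mem_bot.1 (h ▸ Subgroup.mem_top a)
      rw [ha, one_mul, mul_one]
    obtain ⟨b, rfl⟩ := H11.exists_monoidHom_of_apply_one_eq_one (H13.isCharacter_of_irr hχ)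
      (H11.irr_apply_one_of_comm hcomm hχ)
    exact ⟨⊤, b.comp (⊤ : Subgroup G).subtype,
      (H14.indFun_top (H13.isClassFunction_of_irr hχ)).symm⟩
  · obtain ⟨N, hN, -, -, hp⟩ := H24.exists_normal_index_prime_of_isSolvable (⊥ : Subgroup G) h
    have hlt : Nat.card N < n := by
      have h1 := N.card_mul_index
      have h2 := hp.two_le
      have h3 : 0 < Nat.card N := Nat.card_pos
      nlinarith
    obtain ⟨M, _, _, hM, f, hf⟩ := ih _ hlt N rfl inferInstance
    obtain ⟨e, he⟩ := exists_emb N
    have := Fintype.ofFinite (G ⧸ N)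
    have i2 := Fintype.ofFinite (M ≀ᵣ (G ⧸ N))
    exact ⟨M ≀ᵣ (G ⧸ N), inferInstance, i2, mon_wr hp hM, (wmap f).comp e,
      (wmap_inj f hf).comp he⟩

end Cfsg.Agent.H20.DM
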