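import Cfsg.Agent.H50.DerDefs
import Cfsg.Agent.H8.SylowIn

/-! The Sylow step for the index of the derangement subgroup. -/

set_option autoImplicit false

namespace Cfsg.Agent.H20.Der

open MulAction Subgroup Cfsg.Agent.H50.Der Cfsg.Agent.H8

universe u v

variable {G : Type u} {Ω : Type v} [Group G]

theorem cov_mono {D U V : Subgroup G} (h : Cov D U) (l : U ≤ V) : Cov D V := fun g =>
  let ⟨u, hu, e⟩ := h g; ⟨u, l hu, e⟩

theorem cov_frat [Finite G] {q : ℕ} [Fact q.Prime] {D L S : Subgroup G} (hD : D.Normal)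
    (h : Cov D L) (hS : IsSylowIn q S (L ⊓ D)) : Cov D (L ⊓ normalizer (S : Set G)) := by
  intro g
  obtain ⟨u, hu, e⟩ := h g
  have : u ∈ normalizer ((L ⊓ D : Subgroup G) : Set G) :=
    mem_normalizer_of_conj_smul_le fun x hx => by
      have hx := mem_conj_smul.1 hx
      have e : x = u * (u⁻¹ * x * u) * u⁻¹ := by group
      rw [e]
      exact ⟨L.mul_mem (L.mul_mem hu hx.1) (L.inv_mem hu), hD.conj_mem _ hx.2 u⟩
  obtain ⟨n, hn, m, hm, rfl⟩ := hS.frattini this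
  refine ⟨m, ⟨(L.mul_mem_cancel_left hn.1).1 hu, hm⟩, ?_⟩
  have : m⁻¹ * g = m⁻¹ * n * m⁻¹⁻¹ * ((n * m)⁻¹ * g) := by group
  rw [this]
  exact D.mul_mem (hD.conj_mem _ hn.2 _) e

variable [MulAction G Ω]

theorem card_orb (K : Subgroup G) (a : Ω) :
    Nat.card K = (orbit K a).ncard * Nat.card (K ⊓ stabilizer G a : Subgroup G) := by
  rw [← index_stabilizer, ← (stabilizer K a).index_mul_card]
  congr 1
  have : (stabilizer K a).map K.subtype = K ⊓ stabilizer G a := by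
    ext g
    exact ⟨by rintro ⟨x, hx, rfl⟩; exact ⟨x.2, hx⟩, fun h => ⟨⟨g, h.1⟩, h.2, rfl⟩⟩
  rw [← this, card_map_of_injective K.subtype_injective]

theorem fix_smul {Q : Subgroup G} {a : Ω} (h : Q ≤ stabilizer G a) {w : G}
    (hw : w ∈ normalizer (Q : Set G)) : Q ≤ stabilizer G (w • a) := by
  intro z hz
  have : (w⁻¹ * z * w⁻¹⁻¹) • a = a := h ((mem_normalizer_iff.1 (inv_mem hw) z).1 hz)
  rw [mem_stabilizer_iff, ← mul_smul]
  conv_rhs => rw [← this, ← mul_smul]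
  congr 1; group

theorem s1 (f : FixStmt.{u,v}) (l : L1Stmt.{u,v}) (fo : FOStmt.{u,v}) : S1Stmt.{u,v} := by
  intro G Ω _ _ _ _ _ D c h2 hn
  obtain ⟨q, hq, hqn⟩ := Nat.exists_prime_and_dvd (n := Nat.card Ω) (by omega)
  have : Fact q.Prime := ⟨hq⟩
  obtain ⟨α⟩ : Nonempty Ω := (Nat.card_pos_iff.1 (by omega)).1
  have cD (a : Ω) : Nat.card D = Nat.card Ω * Nat.card (D ⊓ stabilizer G a : Subgroup G) := by
    have : orbit D a = Set.univ :=
      Set.eq_univ_of_forall fun b => let ⟨d, hd, e⟩ := c.tr a b; ⟨⟨d, hd⟩, e⟩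
    rw [card_orb D a, this, Set.ncard_univ]
  have cDa (a : Ω) : Nat.card (D ⊓ stabilizer G a : Subgroup G) =
      Nat.card (stabilizer G α ⊓ D : Subgroup G) := by
    rw [inf_comm (stabilizer G α)]
    exact Nat.eq_of_mul_eq_mul_left (by omega) ((cD a).symm.trans (cD α))
  have cA : Cov D (stabilizer G α) := fun g => by
    obtain ⟨d, hd, e⟩ := c.tr α (g⁻¹ • α)
    exact ⟨g * d, by rw [mem_stabilizer_iff, mul_smul, e, smul_inv_smul],
      by simpa using hd⟩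
  obtain ⟨Q0, h0⟩ := exists_isSylowIn q (stabilizer G α ⊓ D)
  have c0 := cov_frat c.nrm cA h0
  set U := normalizer (Q0 : Set G) with hU
  obtain ⟨Q1, h1, l01⟩ := exists_isSylowIn_ge h0.isPGroup
    (le_inf le_normalizer (h0.le.trans inf_le_right) : Q0 ≤ U ⊓ D)
  have l1D : Q1 ≤ D := h1.le.trans inf_le_right
  obtain ⟨ω, cM⟩ := fo G Ω D _ c h2 (cov_frat c.nrm (cov_mono c0 inf_le_right) h1)
  set M := U ⊓ normalizer (Q1 : Set G) ⊓ stabilizer G ω with hM
  have lt : Nat.card Q0 < Nat.card Q1 := by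
    obtain ⟨S, hS, l0S⟩ := exists_isSylowIn_ge h0.isPGroup (h0.le.trans inf_le_right)
    have : Q0 < S := l0S.lt_of_ne fun e => hS.not_dvd (by
      have e1 := card_eq_card_mul_relIndex hS.le
      rw [cD α, cDa, card_eq_card_mul_relIndex h0.le, ← e, mul_left_comm] at e1
      rw [← e, ← Nat.eq_of_mul_eq_mul_left Nat.card_pos e1]
      exact hqn.mul_right _)
    have := lt_inf_normalizer_of_lt hS.isPGroup this
    exact (Set.ncard_lt_ncard (SetLike.coe_ssubset_coe.2 this)).trans_le (h1.card_le (hS.isPGroup.to_le inf_le_left)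
      (le_inf inf_le_right (inf_le_left.trans hS.le)))
  have f0 : Q0 ≤ stabilizer G ω := by
    obtain ⟨g, hg⟩ : ∃ g, g ∉ D := by
      by_contra! a
      rw [(eq_top_iff' D).2 a, index_top] at h2
      omega
    obtain ⟨x, hx, e⟩ := cM g
    have xD : x ∉ D := fun a => hg ((D.mul_mem_cancel_left (D.inv_mem a)).1 e)
    obtain ⟨u, hu, e'⟩ := c0 x
    obtain ⟨b, ⟨w, rfl⟩, hb⟩ := f G Ω D (U ⊓ D) α x c inf_le_right xD (by
      rintro _ ⟨w, rfl⟩
      refine ⟨⟨x * w * u⁻¹, U.mul_mem (U.mul_mem hx.1.1 w.2.1) (U.inv_mem hu.2), ?_⟩, ?_⟩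
      · have : x * w * u⁻¹ = u * (u⁻¹ * x * w) * u⁻¹ := by group
        exact this ▸ c.nrm.conj_mem _ (D.mul_mem e' w.2.2) u
      · have : u⁻¹ • α = α := (stabilizer G α).inv_mem hu.1
        show (x * w * u⁻¹) • α = x • (w : G) • α
        rw [mul_smul, this, mul_smul])
    rw [c.uq x xD _ _ hx.2 hb]
    exact fix_smul (h0.le.trans inf_le_left) w.2.1
  have le0 (a : Ω) : Nat.card (Q1 ⊓ stabilizer G a : Subgroup G) ≤ Nat.card Q0 := by
    obtain ⟨S, hS⟩ := exists_isSylowIn q (D ⊓ stabilizer G a)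
    refine (hS.card_le (h1.isPGroup.to_le inf_le_left) (inf_le_inf_right _ l1D)).trans ?_
    rw [hS.card_eq, h0.card_eq, cDa]
  have ge0 : Nat.card Q0 ≤ Nat.card (Q1 ⊓ stabilizer G ω : Subgroup G) :=
    card_le_of_le (le_inf l01 f0)
  have nm : Nm M Q1 := fun m hm z hz => (mem_normalizer_iff.1 hm.1.2 z).1 hz
  by_cases t1 : orbit Q1 ω = Set.univ
  swap
  · refine Or.inl (l G Ω D M Q1 ω c cM (fun m hm => hm.2) l1D nm ?_ t1 fun a => ?_)
    · by_contra a
      have := card_orb Q1 ω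
      have := le0 ω
      nlinarith
    · have e := (card_orb Q1 ω).symm.trans (card_orb Q1 a)
      have := (le0 a).trans ge0
      have p : 0 < Nat.card (Q1 ⊓ stabilizer G ω : Subgroup G) := Nat.card_pos
      by_contra a
      nlinarith
  have tr (a : Ω) : ∃ z ∈ Q1, z • ω = a :=
    let ⟨z, e⟩ := (t1 ▸ Set.mem_univ a : a ∈ orbit Q1 ω); ⟨z, z.2, e⟩
  have b0 : Q0 = ⊥ := (Subgroup.eq_bot_iff_forall _).2 fun y hy =>
    eq_of_smul_eq_smul (α := Ω) fun a => by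
      obtain ⟨z, hz, rfl⟩ := tr a
      rw [one_smul]
      exact fix_smul f0 (h1.le hz).1 hy
  have sr (a : Ω) : Q1 ⊓ stabilizer G a = ⊥ := by
    have := le0 a
    rw [b0, card_bot] at this
    exact card_le_one_iff_eq_bot _ |>.1 this
  have fr : ∀ z ∈ Q1, ∀ a : Ω, z • a = a → z = 1 := fun z hz a e =>
    mem_bot.1 (sr a ▸ ⟨hz, e⟩)
  set Z := Q1 ⊓ centralizer (Q1 : Set G) with hZ
  have oZ (a : Ω) : (orbit Z a).ncard = Nat.card Z := by
    have : Z ⊓ stabilizer G a = ⊥ := le_bot_iff.1 (sr a ▸ inf_le_inf_right _ inf_le_left)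
    rw [card_orb Z a, this, card_bot, mul_one]
  by_cases t2 : orbit Z ω = Set.univ
  swap
  · refine Or.inl (l G Ω D M Z ω c cM (fun m hm => hm.2) (inf_le_left.trans l1D) ?_ ?_ t2
      fun a => by rw [oZ, oZ])
    · refine fun m hm z hz => ⟨nm m hm z hz.1, fun y hy => ?_⟩
      have := hz.2 _ (nm m⁻¹ (M.inv_mem hm) y hy)
      calc y * (m * z * m⁻¹) = m * (m⁻¹ * y * m⁻¹⁻¹ * z) * m⁻¹ := by group
        _ = _ := by rw [this]; group
    · have : Nontrivial Q1 := Finite.one_lt_card_iff_nontrivial.1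
        (lt_of_le_of_lt Nat.card_pos lt)
      obtain ⟨z, hz⟩ := (nontrivial_iff_exists_ne_one _).1 h1.isPGroup.center_nontrivial
      rw [oZ, one_lt_card_iff_ne_bot]
      refine fun e => hz.2 (Subtype.ext (mem_bot.1 (e ▸ ⟨z.2, fun y hy => ?_⟩)))
      exact congrArg Subtype.val (mem_center_iff.1 hz.1 ⟨y, hy⟩)
  refine Or.inr ⟨q, Q1, ω, hq, h1.isPGroup, l1D, ⟨fun a b => ?_, fr⟩, fun a ha b hb => ?_, ?_,
    cov_mono cM (inf_le_inf_right _ inf_le_right)⟩
  · obtain ⟨y, hy, rfl⟩ := tr a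
    obtain ⟨z, hz, rfl⟩ := tr b
    exact ⟨z * y⁻¹, Q1.mul_mem hz (Q1.inv_mem hy), by rw [mul_smul, inv_smul_smul]⟩
  · obtain ⟨z, e⟩ := (t2 ▸ Set.mem_univ _ : b • ω ∈ orbit Z ω)
    have e : (z : G) • ω = b • ω := e
    have := fr (b⁻¹ * z) (Q1.mul_mem (Q1.inv_mem hb) z.2.1) ω
      (by rw [mul_smul, e, inv_smul_smul])
    rw [inv_mul_eq_one.1 this]
    exact z.2.2 a ha
  · rw [cDa, card_eq_card_mul_relIndex h0.le]
    have := h0.not_dvd
    rw [b0] at this ⊢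
    rwa [card_bot, one_mul]

end Cfsg.Agent.H20.Der
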