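import Cfsg.Agent.H37.FkTF

/-!
# S5161: elements of odd order normalising the Sylow subgroup of a frame
-/

set_option autoImplicit false

namespace Cfsg.Agent.H20.FkFr

open Cfsg Subgroup Matrix Cfsg.Agent.H37.FK

universe u

variable {K : Type u} [Group K]

theorem pow_one_of {g c s : K} (h1 : g * c * g⁻¹ = c) (h2 : g * s * g⁻¹ = c * s) :
    c ^ orderOf g = 1 := by
  have hc : Commute g c := mul_inv_eq_iff_eq_mul.1 h1
  have : ∀ k : ℕ, g ^ k * s * (g ^ k)⁻¹ = c ^ k * s := fun k => by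
    induction k with
    | zero => simp
    | succ k ih =>
      calc _ = g * (g ^ k * s * (g ^ k)⁻¹) * g⁻¹ := by rw [pow_succ']; group
        _ = g * c ^ k * (g⁻¹ * (g * s * g⁻¹)) * 1 := by rw [ih]; group
        _ = _ := by rw [(hc.pow_right k).eq, h2]; group
  have h3 := this (orderOf g)
  rw [pow_orderOf_eq_one] at h3
  simpa using h3.symm

theorem one_of {c : K} {n k : ℕ} (hn : Odd n) (h1 : c ^ n = 1) (h2 : c ^ 2 ^ k = 1) : c = 1 := by
  have := pow_gcd_eq_one.2 ⟨h1, h2⟩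
  rwa [Nat.Coprime.gcd_eq_one (Nat.Coprime.pow_right k (Nat.coprime_two_right.2 hn)), pow_one]
    at this

theorem maps_mul {g g' : K} {A B C : Subgroup K} (h : Maps g B C) (h' : Maps g' A B) :
    Maps (g * g') A C := fun x => by
  rw [h' x, h]
  exact iff_of_eq (congrArg (· ∈ C) (by group))

theorem maps_inv {g : K} {A B : Subgroup K} (h : Maps g A B) : Maps g⁻¹ B A := fun x => by
  rw [h]
  exact iff_of_eq (congrArg (· ∈ B) (by group))

variable {Fr : Frame K}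

theorem ind_mul {g g' : K} {π π' : Equiv.Perm Fr.ι} (h : Fr.Ind g π) (h' : Fr.Ind g' π') :
    Fr.Ind (g * g') (π * π') := fun i => maps_mul (h (π' i)) (h' i)

theorem ind_inv {g : K} {π : Equiv.Perm Fr.ι} (h : Fr.Ind g π) : Fr.Ind g⁻¹ π⁻¹ := fun i => by
  have := maps_inv (h (π⁻¹ i))
  rwa [show π (π⁻¹ i) = i by simp] at this

theorem ind_one : Fr.Ind 1 1 := fun i x => by simp

theorem ind_pow {g : K} {π : Equiv.Perm Fr.ι} (h : Fr.Ind g π) (k : ℕ) :
    Fr.Ind (g ^ k) (π ^ k) := by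
  induction k with
  | zero => simpa using ind_one
  | succ k ih => rw [pow_succ, pow_succ]; exact ind_mul ih h

theorem J_inj (hq : SlqStmt) {i j : Fr.ι} (h : Fr.J i = Fr.J j) : i = j := by
  by_contra hij
  obtain ⟨Q⟩ : Nonempty (Sylow 2 (SL2 (Fr.F i))) := inferInstance
  obtain ⟨⟨a, -, b, -, hab⟩, -⟩ := hq _ (Fr.odd i) Q
  obtain ⟨b', hb⟩ : Fr.φ i b ∈ Fr.J j := h ▸ ⟨b, rfl⟩
  refine hab (Fr.inj i ?_)
  rw [map_mul, map_mul, ← hb]
  exact Fr.comm i j hij a b'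

theorem ind_uniq (hq : SlqStmt) {g : K} {π π' : Equiv.Perm Fr.ι} (h : Fr.Ind g π)
    (h' : Fr.Ind g π') : π = π' := by
  refine Equiv.ext fun i => J_inj hq (Subgroup.ext fun x => ?_)
  rw [maps_inv (h i) x, maps_inv (h' i) x]

theorem z_mem {S : Subgroup K} (hS : Fr.Syl S) (i : Fr.ι) : Fr.z i ∈ S ⊓ Fr.J i := by
  have hc : ∀ y ∈ Fr.J i, Commute y (Fr.z i) := by
    rintro _ ⟨a, rfl⟩
    exact Commute.map (by simp [Commute, SemiconjBy]) _
  have h2 : IsPGroup 2 (zpowers (Fr.z i)) := by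
    rintro ⟨_, k, rfl⟩
    refine ⟨1, Subtype.ext ?_⟩
    change (Fr.φ i (-1) ^ k) ^ 2 ^ 1 = 1
    rw [← zpow_natCast, ← _root_.zpow_mul, mul_comm, _root_.zpow_mul, zpow_natCast, ← map_pow]
    simp
  have h3 : zpowers (Fr.z i) ≤ Fr.J i := zpowers_le.2 ⟨-1, rfl⟩
  rw [← (hS.syl i).eq_of_le (sup_le inf_le_right h3)
    (IsPGroup.to_sup_of_normal_right' (hS.syl i).isPGroup h2 fun y hy => ?_) le_sup_left]
  · exact mem_sup_right (mem_zpowers _)
  · refine centralizer_le_normalizer _ ?_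
    rintro _ ⟨k, rfl⟩
    exact ((hc y hy.2).zpow_right k).symm

theorem fr5 (hq : SlqStmt) (h2 : Fr2Stmt.{u}) : Fr5Stmt.{u} := by
  intro K _ _ Fr S hS hS2 ok g hg ho
  have hgN : g ∈ normalizer ((S : Subgroup K) : Set K) := mem_normalizer_fintype hg
  obtain ⟨π, hπ⟩ := h2 K Fr S hS hS2 ok.ne ok.cases S le_rfl
    (fun s hs x hx => mul_mem (mul_mem hs hx) (inv_mem hs)) (fun i => inf_le_left) g hgN
  obtain rfl : π = 1 := by
    refine ok.f3 π (ho.of_dvd_nat (orderOf_dvd_of_pow_eq_one ?_)) fun x hx => ?_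
    · have := ind_pow hπ (orderOf g)
      rw [pow_orderOf_eq_one] at this
      exact ind_uniq hq this ind_one
    · obtain ⟨s, hs, h3⟩ := hS.onto x hx
      obtain ⟨π', h4, h5⟩ := hS.perm _ (hg s hs)
      rwa [ind_uniq hq (ind_mul (ind_mul hπ h3) (ind_inv hπ)) h5]
  refine ⟨hπ, fun hc => ?_, fun h7 i => ?_⟩
  · have hc' : ∀ i, ∀ y ∈ (S : Subgroup K) ⊓ Fr.J i, Commute g y := hc
    have hA : ∀ s ∈ (S : Subgroup K), Fr.Cen S (g * s * g⁻¹ * s⁻¹) := fun s hs i y hy => by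
      obtain ⟨σ, -, hσ⟩ := hS.perm _ (inv_mem hs)
      have h3 := hc' _ _ (mem_inf.2 ⟨mul_mem (mul_mem (inv_mem hs) (mem_inf.1 hy).1)
        (inv_mem (inv_mem hs)), (hσ i y).1 hy.2⟩)
      calc g * s * g⁻¹ * s⁻¹ * y = g * s * (g⁻¹ * (s⁻¹ * y * s⁻¹⁻¹)) * s⁻¹ := by group
        _ = g * y * (s * g⁻¹ * s⁻¹) := by rw [h3.inv_left.eq]; group
        _ = _ := by rw [(hc' i y hy).eq]; group
    have hz : ∀ b ∈ closure (Set.range Fr.z), g * b * g⁻¹ = b := fun b hb => by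
      have : closure (Set.range Fr.z) ≤ centralizer {g} := (closure_le _).2 (by
        rintro _ ⟨i, rfl⟩
        exact mem_centralizer_singleton_iff.2 (hc' i _ (z_mem hS i)).symm)
      rw [← mem_centralizer_singleton_iff.1 (this hb), mul_inv_cancel_right]
    have hA2 : ∀ k : ℕ, ∀ a ∈ (S : Subgroup K), Fr.Cen S a → a ^ 2 ^ k = 1 →
        g * a * g⁻¹ = a := by
      intro k
      induction k with
      | zero => intro a _ _ h; rw [pow_zero, pow_one] at h; simp [h]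
      | succ k ih =>
        intro a ha h3 h4
        have h5 := ih (a * a) (mul_mem ha ha)
          (fun i y hy => (Commute.mul_left (h3 i y hy) (h3 i y hy)).eq)
          (by rw [← sq, ← pow_mul, ← pow_succ', h4])
        have hb := mul_mem (hg a ha) (inv_mem ha)
        have h6 : Commute (g * a * g⁻¹ * a⁻¹) a := hS2.ab _ hb a ha (hA a ha) h3
        have h8 : g * a * g⁻¹ * a⁻¹ * (g * a * g⁻¹ * a⁻¹) = 1 := by
          calc _ = g * a * g⁻¹ * (a⁻¹ * (g * a * g⁻¹ * a⁻¹)) := by group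
            _ = g * (a * a) * g⁻¹ * (a * a)⁻¹ := by rw [← h6.inv_right.eq]; group
            _ = 1 := by rw [h5, mul_inv_cancel]
        exact mul_inv_eq_one.1 (one_of (k := 1) ho
          (pow_one_of (hz _ (hS2.om _ hb (hA a ha) h8)) (inv_mul_cancel_right _ a).symm)
          (by rw [pow_one, sq, h8]))
    intro s hs
    have hb := mul_mem (hg s hs) (inv_mem hs)
    obtain ⟨k, hk⟩ := S.isPGroup' ⟨_, hb⟩
    have hk' := congrArg Subtype.val hk
    exact mul_inv_eq_one.1 (one_of ho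
      (pow_one_of (hA2 k _ hb (hA s hs) hk') (inv_mul_cancel_right _ s).symm) hk')
  · let P : Subgroup K := (S : Subgroup K) ⊓ Fr.J i
    have hP : (P.comap (Fr.φ i)).map (Fr.φ i) = P := map_comap_eq_self inf_le_right
    obtain ⟨Q, hQ⟩ := (H98.SylIn.of_map_of_injective (H := ⊤) (Fr.φ i) (Fr.inj i)
      (by rw [hP, ← MonoidHom.range_eq_map]; exact hS.syl i)).exists_sylow_top
    let e : Q ≃* P := ((Q : Subgroup _).equivMapOfInjective _ (Fr.inj i)).trans
      (MulEquiv.subgroupCongr (by rw [hQ, hP]))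
    let ρ : normalizer (P : Set K) →* MulAut Q :=
      (MulAut.congr e.symm).toMonoidHom.comp P.normalizerMonoidHom
    have hρ : ∀ n x, ((e (ρ n x) : P) : K) = n * e x * (n : K)⁻¹ := fun n x => by
      change ((e (e.symm (P.normalizerMonoidHom n (e x))) : P) : K) = _
      rw [MulEquiv.apply_symm_apply]; rfl
    have hn : ∀ s, (∀ x ∈ (S : Subgroup K), s * x * s⁻¹ ∈ (S : Subgroup K)) →
        Maps s (Fr.J i) (Fr.J i) → s ∈ normalizer (P : Set K) := fun s h3 h4 =>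
      mem_normalizer_fintype fun x hx => ⟨h3 x hx.1, (h4 x).1 hx.2⟩
    have hgP := hn g hg (hπ i)
    obtain ⟨-, -, -, -, q5, q6⟩ := hq _ (Fr.odd i) Q
    have hodd : Odd (orderOf (ρ ⟨g, hgP⟩)) :=
      ho.of_dvd_nat ((orderOf_map_dvd ρ _).trans (by rw [orderOf_mk]))
    have h1 : ρ ⟨g, hgP⟩ = 1 := by
      rcases h7 with h7 | h7
      · obtain ⟨s, hs, h3, h4⟩ := hS2.out h7 i
        have hsP := hn s (fun x hx => mul_mem (mul_mem hs hx) (inv_mem hs)) h3
        refine q5 _ (((S : Subgroup K).subgroupOf _).map ρ) hodd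
          (S.isPGroup'.comap_subtype.map ρ) ?_ ⟨_, ⟨⟨s, hsP⟩, hs, rfl⟩, fun y hy => ?_⟩
        · rintro _ ⟨n, hn, rfl⟩
          exact ⟨⟨g, hgP⟩ * n * ⟨g, hgP⟩⁻¹, hg n hn, by rw [map_mul, map_mul, map_inv]⟩
        · obtain ⟨x, hx, h5⟩ := h4 (e y) (e y).2
          have h6 := hρ ⟨s, hsP⟩ (e.symm ⟨x, hx⟩)
          rw [hy, MulAut.conj_apply, map_mul, map_mul, map_inv, MulEquiv.apply_symm_apply] at h6
          exact h5 h6.symm
      · obtain ⟨k, hk⟩ := q6 (h7 i) (ρ ⟨g, hgP⟩)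
        exact one_of hodd (pow_orderOf_eq_one _) hk
    intro y hy
    have h6 := hρ ⟨g, hgP⟩ (e.symm ⟨y, hy⟩)
    rw [h1, MulAut.one_apply, MulEquiv.apply_symm_apply] at h6
    exact mul_inv_eq_iff_eq_mul.1 h6.symm

end Cfsg.Agent.H20.FkFr
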