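import Cfsg.Agent.H20.HE1
import Cfsg.Agent.H93.L34Cover
import Cfsg.Agent.H8.SylowIn
import Cfsg.Agent.S2690

/-! Coordinates in `2²·L₃(4)`. -/

set_option autoImplicit false

namespace Cfsg.Agent.H20.HE

open Cfsg Subgroup H28 Matrix H93.L34 H8
open scoped commutatorElement

def f4 (n : ℕ) : F4 := ⟨(n % 2 : ℕ), (n / 2 % 2 : ℕ)⟩

def ua (v : V) : F4 := f4 (v.v % 4)
def uc (v : V) : F4 := f4 (v.v / 4 % 4)
def ubb (v : V) : F4 := f4 (v.v / 16 % 4) + ua v * uc v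

def um (v : V) : SL4 := u (ua v) (ubb v) (uc v)

def uv : V →* PS4 := MonoidHom.mk' (fun v => ub (ua v) (ubb v) (uc v)) (mul_of_gens
  (f := fun v => ub (ua v) (ubb v) (uc v)) (by rw [← ub_zero, ub_inj]; decide +kernel) fun g hg y => by
    rw [ub_mul, ub_inj]
    revert g y
    decide +kernel)

theorem uv_def (v : V) : uv v = ub (ua v) (ubb v) (uc v) := rfl

theorem uv_um (v : V) : uv v = um v := rfl

theorem uv_eq_one {v : V} : uv v = 1 ↔ Mk 63 v := by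
  rw [uv_def, ← ub_zero, ub_inj]
  revert v
  decide +kernel

theorem uv_surj {g : PS4} (h : g ∈ U) : ∃ v, uv v = g := by
  obtain ⟨a, b, d, rfl⟩ := h
  simp only [uv_def, ub_inj]
  revert a b d
  decide +kernel

theorem uv_V1 {v : V} (h : Mk 12 v) : uv v ∈ V1 :=
  ⟨_, _, by rw [uv_def, show uc v = 0 by revert v; decide +kernel]⟩

theorem uv_V2 {v : V} (h : Mk 3 v) : uv v ∈ V2 :=
  ⟨_, _, by rw [uv_def, show ua v = 0 by revert v; decide +kernel]⟩

theorem cent_ub {g : PS4} {b : F4} (hb : b ≠ 0) (h : g * ub 0 b 0 = ub 0 b 0 * g) : g ∈ U := by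
  obtain ⟨g, rfl⟩ := QuotientGroup.mk_surjective g
  obtain ⟨r, hr⟩ := (mk_eq_iff (g * u 0 b 0) (u 0 b 0 * g)).1 h
  rw [Matrix.SpecialLinearGroup.coe_mul, Matrix.SpecialLinearGroup.coe_mul] at hr
  have e := fun i j => congrFun (congrFun hr i) j
  have h0 := e 0 0
  have h1 := e 0 1
  have h2 := e 0 2
  have h3 := e 1 0
  have h4 := e 1 1
  have h5 := e 1 2
  simp [u, Matrix.mul_apply, Fin.sum_univ_three] at h0 h1 h2 h3 h4 h5
  have hd := g.2
  rw [det_fin_three] at hd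
  have hr1 : r = 1 := by
    by_contra hne
    have k : ∀ x : F4, x = r * x → x = 0 := fun x hx =>
      (mul_eq_zero.1 (show (1 - r) * x = 0 by linear_combination hx)).resolve_left
        (sub_ne_zero.2 (Ne.symm hne))
    rw [k _ h3, zero_mul, zero_add] at h5
    rw [k _ h3, k _ h4, k _ h5] at hd
    simp at hd
  subst hr1
  have z1 : g.1 2 0 = 0 := (mul_eq_zero.1 (by linear_combination h0)).resolve_left hb
  have z2 : g.1 2 1 = 0 := (mul_eq_zero.1 (by linear_combination h1)).resolve_left hb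
  have z3 : g.1 1 0 = 0 := (mul_eq_zero.1 (by linear_combination -h5)).resolve_left hb
  have z4 : g.1 2 2 = g.1 0 0 := mul_left_cancel₀ hb (by linear_combination h2)
  rw [z1, z2, z3, z4] at hd
  have h3 : g.1 0 0 ^ 3 = 1 := by
    have : ∀ x : F4, x ≠ 0 → x ^ 3 = 1 := by decide
    exact this _ fun e => by simp [e] at hd
  have z5 : g.1 1 1 = g.1 0 0 := by linear_combination g.1 0 0 * hd - g.1 1 1 * h3
  refine ⟨g.1 0 0 ^ 2 * g.1 0 1, g.1 0 0 ^ 2 * g.1 0 2, g.1 0 0 ^ 2 * g.1 1 2,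
    (mk_eq_iff g (u _ _ _)).2 ⟨g.1 0 0 ^ 2, Matrix.ext fun i j => ?_⟩⟩
  fin_cases i <;> fin_cases j <;> simp [u, z1, z2, z3, z4, z5] <;> linear_combination -h3

def hm : SL4 := ⟨!![1, 0, 0; 0, w * w, 0; 0, 0, w], by rw [det_fin_three]; decide +kernel⟩
def hm' : SL4 := ⟨!![1, 0, 0; 0, w, 0; 0, 0, w * w], by rw [det_fin_three]; decide +kernel⟩
def lm1 : SL4 := ⟨!![1, 0, 0; 0, 0, 1; 0, 1, 0], by rw [det_fin_three]; decide +kernel⟩
def lm2 : SL4 := ⟨!![0, 1, 0; 1, 0, 0; 0, 0, 1], by rw [det_fin_three]; decide +kernel⟩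

theorem hm_inv : (hm : PS4)⁻¹ = hm' := by
  rw [← QuotientGroup.mk_inv, inv_eq_of_mul_eq_one_right (show hm * hm' = 1 by decide +kernel)]

theorem conj_mk {g x y : SL4} (h : ∃ r : F4, (y * g).1 = r • (g * x).1) :
    (g : PS4) * x * (g : PS4)⁻¹ = y := mul_inv_eq_iff_eq_mul.2 ((mk_eq_iff (g * x) (y * g)).2 h)

def dm (r : F4) : Matrix (Fin 3) (Fin 3) F4 := !![r, 0, 0; 0, 1, 0; 0, 0, 1]

def jm (s : Bool) : Matrix (Fin 3) (Fin 3) F4 := bif s then J.1 else 1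

def th (i : ℕ) (j s : Bool) (x : SL4) : Matrix (Fin 3) (Fin 3) F4 :=
  dm (w ^ i) * (jm s * ((bif s then graph0 x else x).1.map fun a => bif j then a * a else a) * jm s) *
    dm (w ^ i * w ^ i)

def kk (i : ℕ) (j s : Bool) : ℕ := i + (bif j then 27 else 0) + (bif s then 36 else 0)

theorem autP (β : MulAut PS4) : ∃ g : PS4, ∃ i < 3, ∃ j s : Bool, ∀ x y : SL4,
    (∃ r : F4, y.1 = r • th i j s x) → g⁻¹ * β x * g = y := by
  obtain ⟨δ, φ, γ, σ, ⟨A, hA⟩, hφ, hγ, rfl⟩ := S2690.result (p := 2) (f := 2) card_F4 (by norm_num)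
    (by norm_num) (by norm_num) β
  obtain ⟨j, hj⟩ : ∃ j : Bool, ∀ a, σ a = bif j then a * a else a := by
    have h1 : σ w * σ w = σ w + 1 := by
      rw [← map_mul, show w * w = w + 1 by decide, map_add, map_one]
    have h2 : ∀ t : F4, t * t = t + 1 → t = w ∨ t = w * w := by decide
    have h3 : ∀ a : F4, a = 0 ∨ a = 1 ∨ a = w ∨ a = w * w := by decide
    rcases h2 _ h1 with e | e
    · refine ⟨false, fun a => ?_⟩
      rcases h3 a with rfl | rfl | rfl | rfl <;> simp [e]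
    · refine ⟨true, fun a => ?_⟩
      rcases h3 a with rfl | rfl | rfl | rfl <;> simp [e]
  obtain ⟨s, hs⟩ : ∃ s : Bool, ∀ x : SL4, γ x = (bif s then graph0 x else x : SL4) := by
    rcases hγ with rfl | hγ
    · exact ⟨false, fun _ => rfl⟩
    · exact ⟨true, fun x => hγ x _ rfl⟩
  have jj : jm s * jm s = 1 := by cases s <;> decide +kernel
  have dj : (jm s).det = 1 := by
    cases s
    exacts [det_one, J.2]
  obtain ⟨i, hi, hr⟩ : ∃ i < 3, A.1.det = w ^ i := by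
    have : ∀ t : F4, t ≠ 0 → ∃ i < 3, t = w ^ i := by decide
    exact this _ A.det_ne_zero
  have dd : dm (w ^ i * w ^ i) * dm (w ^ i) = 1 := by interval_cases i <;> decide +kernel
  have d1 : w ^ i * (dm (w ^ i * w ^ i)).det = 1 := by
    rw [det_fin_three]
    interval_cases i <;> decide +kernel
  let g : SL4 := ⟨A.1 * jm s * dm (w ^ i * w ^ i), by rw [det_mul, det_mul, hr, dj, mul_one, d1]⟩
  refine ⟨g, i, hi, j, s, fun x y hy => ?_⟩
  let x2 : SL4 := SpecialLinearGroup.map (σ : F4 →+* F4) (bif s then graph0 x else x)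
  let x3 : SL4 := ⟨A.1 * x2.1 * (A⁻¹).1, by
    rw [det_mul, det_mul, x2.2, mul_one, ← det_mul, A.mul_inv, det_one]⟩
  have e : (δ * φ * γ) x = x3 := by
    rw [MulAut.mul_apply, MulAut.mul_apply, hs, hφ _ x2 rfl, hA _ x3 rfl]
  rw [e, ← QuotientGroup.mk_inv, ← QuotientGroup.mk_mul, ← QuotientGroup.mk_mul, mk_eq_iff]
  refine hy.imp fun r hr => hr.trans (congrArg _ ?_)
  have e2 : g.1 * th i j s x = (x3 * g).1 := by
    have : ((bif s then graph0 x else x).1.map fun a => bif j then a * a else a) = x2.1 := by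
      rw [← funext hj]
      rfl
    rw [th, this]
    change A.1 * jm s * dm (w ^ i * w ^ i) * _ = A.1 * x2.1 * (A⁻¹).1 * (A.1 * jm s * dm (w ^ i * w ^ i))
    simp only [Matrix.mul_assoc]
    rw [← Matrix.mul_assoc (dm _) (dm _), dd, Matrix.one_mul, ← Matrix.mul_assoc (jm s) (jm s), jj,
      Matrix.one_mul, ← Matrix.mul_assoc (A⁻¹).1, A.inv_mul, Matrix.one_mul]
  rw [mul_assoc, Matrix.SpecialLinearGroup.coe_mul, ← e2, ← Matrix.mul_assoc,
    ← Matrix.SpecialLinearGroup.coe_mul, inv_mul_cancel, Matrix.SpecialLinearGroup.coe_one,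
    Matrix.one_mul]

/-- The codes of the outer automorphisms. -/
def Θ : List ℕ := [0, 1, 2, 27, 28, 29, 36, 37, 38, 63, 64, 65]

theorem autP' (β : MulAut PS4) : ∃ g : PS4, ∃ k ∈ Θ,
    (∀ t ∈ [1, 2, 4, 8], g⁻¹ * β (uv (c t)) * g = uv (ps k (c t))) ∧
    (g⁻¹ * β hm * g = hm ∨ g⁻¹ * β hm * g = (hm : PS4)⁻¹) ∧ (k = 0 → ∀ x, g⁻¹ * β x * g = x) := by
  obtain ⟨g, i, hi, j, s, h⟩ := autP β
  have key : ∀ i < 3, ∀ j s : Bool, kk i j s ∈ Θ ∧
      (∀ t ∈ [1, 2, 4, 8], (um (ps (kk i j s) (c t))).1 = (1 : F4) • th i j s (um (c t))) ∧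
      ((∃ r : F4, hm.1 = r • th i j s hm) ∨ ∃ r : F4, hm'.1 = r • th i j s hm) ∧
      (kk i j s = 0 → i = 0 ∧ j = false ∧ s = false) := by decide +kernel
  obtain ⟨k1, k2, k3, k4⟩ := key i hi j s
  refine ⟨g, _, k1, fun t ht => h _ _ ⟨_, k2 t ht⟩, k3.imp (h _ _) fun e => hm_inv ▸ h _ _ e,
    fun e x => ?_⟩
  obtain ⟨rfl, rfl, rfl⟩ := k4 e
  obtain ⟨x, rfl⟩ := QuotientGroup.mk_surjective x
  refine h _ _ ⟨1, ?_⟩
  have : dm 1 = 1 := by decide +kernel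
  simp [th, jm, this, Matrix.map]
  rfl

variable {X : Type*} [Group X]

/-- Coordinates in `2²·L₃(4)`. -/
structure XD (e : V →* X) (h l₁ l₂ : X) : Prop where
  inj : Function.Injective e
  card : Nat.card X = 80640
  cen : ∀ x, x ∈ center X ↔ ∃ v, Mk 63 v ∧ e v = x
  h3 : h ^ 3 = 1
  ah : Ac e h (ps 4)
  a1 : ∀ v, Mk 12 v → R e l₁ v (sw1 v)
  a2 : ∀ v, Mk 3 v → R e l₂ v (sw2 v)
  ctr : ∀ x v w, Mk 15 v → ¬ Mk 63 v → Mk 63 (w * v⁻¹) → R e x v w → x ∈ e.range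
  syl : IsSylowIn 2 e.range ⊤
  aut : ∀ φ : X ≃* X, ∃ l, ∃ k ∈ Θ, (∀ v, l⁻¹ * φ (e v) * l = e (ps k v)) ∧
    (l⁻¹ * φ h * l = h ∨ l⁻¹ * φ h * l = h⁻¹) ∧ (k = 0 → ∀ x, l⁻¹ * φ x * l = x)

theorem comm_cen {x y z z' : X} (k : ∀ g, g * z = z * g) (k' : ∀ g, g * z' = z' * g) :
    ⁅x * z, y * z'⁆ = ⁅x, y⁆ := by
  simp only [commutatorElement_def]
  calc _ = x * (z * (y * z')) * z⁻¹ * (x⁻¹ * z'⁻¹) * y⁻¹ := by group
    _ = x * y * (z' * x⁻¹) * z'⁻¹ * y⁻¹ := by rw [← k]; group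
    _ = _ := by rw [← k']; group

variable {π : X →* PS4}

theorem uniq3 (hc : Cov π) {x y : X} (h : π x = π y) (hx : x ^ 3 = 1) (hy : y ^ 3 = 1) : x = y := by
  have hz : π (x⁻¹ * y) = 1 := by rw [map_mul, map_inv, h, inv_mul_cancel]
  have e : Commute x (x⁻¹ * y) := hc.cen _ hz x
  have := e.mul_pow 3
  rw [mul_inv_cancel_left, hy, hx, one_mul, pow_succ, sq, hc.sq _ hz, one_mul] at this
  exact inv_mul_eq_one.1 this.symm

theorem lift3 (hc : Cov π) {p : PS4} (hp : p ^ 3 = 1) : ∃ x, π x = p ∧ x ^ 3 = 1 := by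
  obtain ⟨x, rfl⟩ := hc.surj p
  refine ⟨x ^ 4, by rw [map_pow, pow_succ, hp, one_mul], ?_⟩
  rw [← pow_mul, show 4 * 3 = 3 * 2 * 2 from rfl, pow_mul, pow_mul, sq (x ^ 3),
    hc.sq _ ((map_pow π x 3).trans hp), one_pow]

theorem exists_XD [Finite X] (hc : Cov π) (hk : π.ker = center X) (h4 : Nat.card π.ker = 4)
    (hp : commutator X = ⊤) : ∃ e h l₁ l₂, XD (X := X) e h l₁ l₂ := by
  have p3 : ∀ x : SL4, x * x * x = 1 → (x : PS4) ^ 3 = 1 := fun x e => by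
    rw [← QuotientGroup.mk_pow, pow_succ, sq, e, QuotientGroup.mk_one]
  obtain ⟨h, hh, h3⟩ := lift3 hc (p3 hm (by decide +kernel))
  have la : ∀ t ∈ [1, 2, 4, 8], ∃ a, π a = uv (c t) ∧ (a * h) ^ 3 = 1 := fun t ht => by
    obtain ⟨y, h1, h2⟩ := lift3 hc (p3 (um (c t) * hm) (by revert t; decide +kernel))
    exact ⟨y * h⁻¹, by rw [map_mul, map_inv, h1, hh, QuotientGroup.mk_mul, mul_inv_cancel_right, uv_um],
      by rwa [inv_mul_cancel_right]⟩
  obtain ⟨a, ha, a3⟩ := la 1 (by simp)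
  obtain ⟨a', ha', a3'⟩ := la 2 (by simp)
  obtain ⟨b, hb, b3⟩ := la 4 (by simp)
  obtain ⟨b', hb', b3'⟩ := la 8 (by simp)
  have m1 : π a ∈ V1 := ha ▸ uv_V1 (by decide +kernel)
  have m2 : π a' ∈ V1 := ha' ▸ uv_V1 (by decide +kernel)
  have m3 : π b ∈ V2 := by rw [hb]; exact uv_V2 (by decide +kernel)
  have m4 : π b' ∈ V2 := by rw [hb']; exact uv_V2 (by decide +kernel)
  have rel : Rel a a' b b' := ⟨hc.sq1 m1, hc.sq1 m2, hc.sq2 m3, hc.sq2 m4, hc.comm1 m2 m1,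
    hc.comm2 m4 m3, fun x hx y hy g hg => by
      have k : ∀ z ∈ [a, a', b, b'], ∃ v, π z = uv v := by simp [ha, ha', hb, hb']
      obtain ⟨p, hp⟩ := k x (List.mem_append_left [b, b'] hx)
      obtain ⟨q, hq⟩ := k y (List.mem_append_right [a, a'] hy)
      obtain ⟨r, hr⟩ := k g hg
      have e : π (x * y * (x * y)) = uv (p * q * (p * q)) := by simp only [map_mul, hp, hq]
      have m : ∀ p : V, Mk 12 (p * p) ∧ Mk 3 (p * p) := by decide +kernel
      exact (hc.central (hr ▸ ⟨_, _, _, rfl⟩) (e ▸ uv_V1 (m _).1) (e ▸ uv_V2 (m _).2)).symm⟩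
  let e := rel.hom
  have e1 : e (c 1) = a := rel.hom_1
  have e2 : e (c 2) = a' := rel.hom_2
  have e4 : e (c 4) = b := rel.hom_4
  have e8 : e (c 8) = b' := rel.hom_8
  have pe : ∀ v, π (e v) = uv v := ind (by simp) (fun x y p q => by rw [map_mul, map_mul, p, q, map_mul])
    (e1 ▸ ha) (e2 ▸ ha') (e4 ▸ hb) (e8 ▸ hb')
  have dec : ∀ {x}, π x ∈ U → ∃ v z, π z = 1 ∧ x = e v * z := fun {x} hx => by
    obtain ⟨v, hv⟩ := uv_surj hx
    exact ⟨v, (e v)⁻¹ * x, by rw [map_mul, map_inv, pe, hv, inv_mul_cancel], by group⟩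
  have kr : ∀ z, π z = 1 → z ∈ e.range := fun z hz => by
    refine ((H8.center_inf_commutator_inf_sylow_le hc.sylow).trans (commutator_le.2 ?_))
      ⟨⟨mem_center_iff.2 (hc.cen z hz), hp ▸ mem_top z⟩, ⟨0, 0, 0, hz.trans ub_zero.symm⟩⟩
    intro x hx y hy
    obtain ⟨p, z, hz, rfl⟩ := dec hx
    obtain ⟨q, z', hz', rfl⟩ := dec hy
    exact ⟨p * q * p⁻¹ * q⁻¹, by
      rw [comm_cen (hc.cen z hz) (hc.cen z' hz')]; simp [commutatorElement_def]⟩
  have rg : e.range = U.comap π := le_antisymm (by rintro _ ⟨v, rfl⟩; exact ⟨_, _, _, pe v⟩)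
    fun x hx => by
      obtain ⟨v, z, hz, rfl⟩ := dec hx
      exact mul_mem ⟨v, rfl⟩ (kr z hz)
  have card : Nat.card X = 80640 := by
    rw [← π.ker.card_mul_index, index_ker, MonoidHom.range_eq_top.2 hc.surj, card_top, h4,
      H61.card_PSL34 card_F4]
  have inj : Function.Injective e := by
    have h1 := (U.comap π).card_mul_index
    rw [U.index_comap_of_surjective hc.surj, index_U, card, ← rg] at h1
    exact fun x y hxy => (e.rangeRestrict_surjective.bijective_of_nat_card_le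
      (by rw [card_V]; omega)).1 (Subtype.ext hxy)
  have cen : ∀ x, x ∈ center X ↔ ∃ v, Mk 63 v ∧ e v = x := fun x => by
    rw [← hk]
    refine ⟨fun hx => ?_, fun ⟨v, hv, hx⟩ => hx ▸ (pe v).trans (uv_eq_one.2 hv)⟩
    obtain ⟨v, rfl⟩ := kr x hx
    exact ⟨v, uv_eq_one.1 ((pe v).symm.trans hx), rfl⟩
  have st : ∀ {x x' : X} {p q : V}, π x = uv p → π x' = uv q → (x * h) ^ 3 = 1 → (x' * h) ^ 3 = 1 →
      x * x = 1 → x' * x' = 1 → (um q * hm).1 = (hm * um p).1 →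
      h * x * h⁻¹ = x' ∧ h * x' * h⁻¹ = x' * x := fun {x x' p q} h1 h2 h3' h4 h5 h6 h7 => by
    have k1 : h * x * h⁻¹ = x' := mul_right_cancel (uniq3 hc (by
      rw [map_mul, map_mul, map_mul, map_mul, map_inv, hh, h1, h2, uv_um, uv_um,
        conj_mk ⟨1, by rw [one_smul, h7]⟩]) (by
      rw [show h * x * h⁻¹ * h = h * (x * h) * h⁻¹ by group, conj_pow, h3']; group) h4)
    refine ⟨k1, mul_left_cancel (a := x * x') ?_⟩
    calc _ = x * (h * x * h⁻¹) * (h * (h * x * h⁻¹) * h⁻¹) * h ^ 3 := by rw [k1, h3, mul_one]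
      _ = (x * h) ^ 3 := by simp only [pow_succ]; group
      _ = _ := by rw [h3', mul_assoc, ← mul_assoc x', h6, one_mul, h5]
  obtain ⟨s1, s2⟩ := st ha ha' a3 a3' rel.aa rel.aa' (by decide +kernel)
  obtain ⟨s3, s4⟩ := st hb hb' b3 b3' rel.bb rel.bb' (by decide +kernel)
  have ah : Ac e h (ps 4) := ac_ps (by decide)
    (by rw [R, e1, s1, show ps 4 (c 1) = c 2 by decide +kernel, e2])
    (by rw [R, e2, s2, show ps 4 (c 2) = c 2 * c 1 by decide +kernel, map_mul, e1, e2])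
    (by rw [R, e4, s3, show ps 4 (c 4) = c 8 by decide +kernel, e8])
    (by rw [R, e8, s4, show ps 4 (c 8) = c 8 * c 4 by decide +kernel, map_mul, e4, e8])
  have can : ∀ v, v * ps 4 v * ps 4 (ps 4 v) = 1 → (e v * h) ^ 3 = 1 := fun v hv => by
    have := congrArg e hv
    rw [map_mul, map_mul, map_one, ← ah (ps 4 v), ← ah v] at this
    calc _ = e v * (h * e v * h⁻¹) * (h * (h * e v * h⁻¹) * h⁻¹) * h ^ 3 := by
          simp only [pow_succ]; group
      _ = 1 := by rw [this, h3, one_mul]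
  have ident : ∀ (φ : X →* X) (v w : V), (φ h = h ∨ φ h = h⁻¹) → π (φ (e v)) = uv w →
      v * ps 4 v * ps 4 (ps 4 v) = 1 → w * ps 4 w * ps 4 (ps 4 w) = 1 → w * w = 1 →
      φ (e v) = e w := fun φ v w h1 h2 h3 h4 h5 => by
    have k := congrArg φ (can v h3)
    rw [map_pow, map_mul, map_one] at k
    rcases h1 with h1 | h1 <;> rw [h1] at k
    · exact mul_right_cancel (uniq3 hc (by rw [map_mul, map_mul, h2, pe]) k (can w h4))
    · refine mul_right_cancel (uniq3 hc (by rw [map_mul, map_mul, h2, pe]) k ?_)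
      rw [show e w * h⁻¹ = h * (e w * h)⁻¹ * h⁻¹ by
        rw [_root_.mul_inv_rev, ← map_inv e w, inv_eq_of_mul_eq_one_right h5]; group, conj_pow,
        inv_pow, can w h4]
      group
  have sw : ∀ (lm : SL4) (m : ℕ) [Fact (Ok m)] (f : V → V), (∃ r : F4, (hm' * lm).1 = r • (lm * hm).1) →
      f 1 = 1 → (∀ x, Mk m x → ∀ y, Mk m y → f (x * y) = f x * f y) →
      (∀ k < 8, Mk m (c (2 ^ k)) → (Mk 63 (c (2 ^ k)) ∧ f (c (2 ^ k)) = c (2 ^ k)) ∨
        ((um (f (c (2 ^ k))) * lm).1 = (lm * um (c (2 ^ k))).1 ∧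
        c (2 ^ k) * ps 4 (c (2 ^ k)) * ps 4 (ps 4 (c (2 ^ k))) = 1 ∧
        f (c (2 ^ k)) * ps 4 (f (c (2 ^ k))) * ps 4 (ps 4 (f (c (2 ^ k)))) = 1 ∧
        f (c (2 ^ k)) * f (c (2 ^ k)) = 1)) → ∃ l, ∀ v, Mk m v → R e l v (f v) := by
    intro lm m _ f k1 k2 k3 k4
    obtain ⟨l, hl⟩ := hc.surj lm
    have hi : l * h * l⁻¹ = h⁻¹ := uniq3 hc
      (by rw [map_mul, map_mul, map_inv, map_inv, hl, hh, conj_mk k1, hm_inv])
      (by rw [conj_pow, h3]; group) (by rw [inv_pow, h3, inv_one])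
    refine ⟨l, fun v hv => (indM (P := fun v => Mk m v ∧ R e l v (f v)) ⟨mk_one m, k2.symm ▸ R.one⟩
      (fun x y p q => ⟨p.1.mul q.1, (p.2.mul q.2).cast rfl (k3 _ p.1 _ q.1).symm⟩)
      (fun k hk hm => ⟨hm, ?_⟩) v hv).2⟩
    rcases k4 k hk hm with ⟨q1, q2⟩ | ⟨q1, q2, q3, q4⟩
    · rw [q2, R_self]
      exact mem_center_iff.1 ((cen _).2 ⟨_, q1, rfl⟩) l
    · exact ident (MulAut.conj l).toMonoidHom _ _ (Or.inr hi) (by
        show π (l * _ * l⁻¹) = _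
        rw [map_mul, map_mul, map_inv, hl, pe, uv_um, uv_um, conj_mk ⟨1, by rw [one_smul, q1]⟩])
        q2 q3 q4
  obtain ⟨l₁, a1⟩ := sw lm1 12 sw1 (by decide +kernel) (by decide +kernel) (by decide +kernel)
    (by decide +kernel)
  obtain ⟨l₂, a2⟩ := sw lm2 3 sw2 (by decide +kernel) (by decide +kernel) (by decide +kernel)
    (by decide +kernel)
  refine ⟨e, h, l₁, l₂, inj, card, cen, h3, ah, a1, a2, fun x v w h1 h2 h3 h4 => ?_,
    rg ▸ isSylowIn_top hc.sylow, fun φ => ?_⟩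
  · have k : ∀ v, Mk 15 v → ¬ Mk 63 v → ua v = 0 ∧ uc v = 0 ∧ ubb v ≠ 0 := by decide +kernel
    obtain ⟨k1, k2, k3⟩ := k v h1 h2
    have := congrArg π h4
    rw [map_mul, map_mul, map_inv, pe, pe, ← mul_inv_eq_one.1 (show uv w * (uv v)⁻¹ = 1 by
      rw [← map_inv, ← map_mul, uv_eq_one.2 h3]), mul_inv_eq_iff_eq_mul,
      mul_inv_eq_one.1 (show uv w * (uv v)⁻¹ = 1 by rw [← map_inv, ← map_mul, uv_eq_one.2 h3]),
      uv_def, k1, k2] at this
    exact rg ▸ cent_ub k3 this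
  · let q : X ⧸ center X ≃* PS4 := (QuotientGroup.quotientMulEquivOfEq hk.symm).trans
      (QuotientGroup.quotientKerEquivOfSurjective π hc.surj)
    let β : MulAut PS4 := q.symm.trans ((centerQuotEquiv φ).trans q)
    have hβ : ∀ x, β (π x) = π (φ x) := fun x => by
      show q (centerQuotEquiv φ (q.symm (q x))) = _
      rw [q.symm_apply_apply]
      rfl
    obtain ⟨g, k, hk', q1, q2, q3⟩ := autP' β
    obtain ⟨l, rfl⟩ := hc.surj g
    let ψ : X →* X := (MulAut.conj l⁻¹).toMonoidHom.comp φ.toMonoidHom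
    have hψ : ∀ x, ψ x = l⁻¹ * φ x * l := fun x => by simp [ψ]
    have pψ : ∀ x, π (ψ x) = (π l)⁻¹ * β (π x) * π l := fun x => by
      rw [hψ, map_mul, map_mul, map_inv, hβ]
    have p3 : ψ h ^ 3 = 1 := by rw [← map_pow, h3, map_one]
    have q4 : ψ h = h ∨ ψ h = h⁻¹ := q2.imp (fun q => uniq3 hc (by rw [pψ, hh, q]) p3 h3)
      fun q => uniq3 hc (by rw [pψ, map_inv π h, hh, q]) p3 (by rw [inv_pow, h3, inv_one])
    have key : ∀ k ∈ Θ, k < 72 ∧ ∀ t ∈ [1, 2, 4, 8], c t * ps 4 (c t) * ps 4 (ps 4 (c t)) = 1 ∧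
        ps k (c t) * ps 4 (ps k (c t)) * ps 4 (ps 4 (ps k (c t))) = 1 ∧
        ps k (c t) * ps k (c t) = 1 := by decide +kernel
    obtain ⟨k72, key⟩ := key k hk'
    have q5 : ∀ t ∈ [1, 2, 4, 8], ψ (e (c t)) = e (ps k (c t)) := fun t ht =>
      ident ψ _ _ q4 (by rw [pψ, pe, q1 t ht]) (key t ht).1 (key t ht).2.1 (key t ht).2.2
    refine ⟨l, k, hk', fun v => (hψ _).symm.trans ?_, by simpa only [hψ] using q4, fun k0 x => ?_⟩
    · exact ind (P := fun v => ψ (e v) = e (ps k v))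
        (by have := ps_mul k72 1 1; rw [show ps k 1 = 1 by simpa using this]; simp)
        (fun x y p q => by rw [map_mul, map_mul, p, q, ps_mul k72, map_mul]) (q5 1 (by simp))
        (q5 2 (by simp)) (q5 4 (by simp)) (q5 8 (by simp)) v
    · have hz : ∀ x, π (x⁻¹ * ψ x) = 1 := fun x => by
        rw [map_mul, map_inv, pψ, q3 k0, inv_mul_cancel]
      have : commutator X ≤ ψ.eqLocus (MonoidHom.id X) := commutator_le.2 fun x _ y _ => by
        show ψ _ = _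
        rw [map_commutatorElement, MonoidHom.id_apply, ← mul_inv_cancel_left x (ψ x),
          ← mul_inv_cancel_left y (ψ y), comm_cen (hc.cen _ (hz x)) (hc.cen _ (hz y))]
      exact (hψ x).symm.trans (this (hp ▸ mem_top x))

end Cfsg.Agent.H20.HE
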