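import Cfsg.Agent.H20.HE2
import Cfsg.Agent.H10.Std1

/-! A standard subgroup `2²·L₃(4)`: the normalizer. -/

set_option autoImplicit false
set_option synthInstance.maxSize 4096
set_option linter.unusedSectionVars false

namespace Cfsg.Agent.H20.HE

open Cfsg Subgroup H8
open scoped commutatorElement Pointwise

theorem v4 : ∀ v : V, v ^ 2 ^ 2 = 1 := by
  have : ∀ v : V, v * v * (v * v) = 1 := by decide +kernel
  exact fun v => by rw [← this v, ← sq, ← sq, ← pow_mul]; rfl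

theorem mk15_of : ∀ w : V, (∀ t ∈ [1, 2, 4, 8], w * c t = c t * w) → Mk 15 w := by decide +kernel

theorem comm15 : ∀ w : V, Mk 15 w → ∀ v, v * w = w * v := by decide +kernel

theorem mk63 : ∀ w : V, Mk 63 w → Mk 15 w := by decide +kernel

theorem mk15 : ∀ w : V, Mk 15 w → Mk 12 w ∧ Mk 3 w ∧ w * w = 1 := by decide +kernel

theorem ps_surj : ∀ k < 72, ∃ k' < 72, ∀ v, ps k (ps k' v) = v := by decide +kernel

/-- The monomial automorphisms that normalize `Z₀`. -/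
def Lk (k : ℕ) : Prop := k / 9 % 4 = 0 ∨ k / 9 % 4 = 3

instance (k : ℕ) : Decidable (Lk k) := by
  unfold Lk
  infer_instance

variable {X G : Type*} [Group X] [Group G]

theorem cj_pow (g s : G) (n : ℕ) : (g⁻¹ * s * g) ^ n = g⁻¹ * s ^ n * g := by
  simpa using conj_pow (a := g⁻¹) (b := s) (i := n)

theorem cj_ne (g : G) {s : G} (h : s ≠ 1) : g⁻¹ * s * g ≠ 1 := fun e => h (by
  rw [show s = g * (g⁻¹ * s * g) * g⁻¹ by group, e]; group)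

theorem cj_sq (g : G) {s : G} (h : s * s = 1) : g⁻¹ * s * g * (g⁻¹ * s * g) = 1 := by
  calc _ = g⁻¹ * (s * s) * g := by group
    _ = 1 := by rw [h]; group

theorem cj_comm (g : G) {x s : G} (h : Commute x s) : Commute (g⁻¹ * x * g) (g⁻¹ * s * g) := by
  simpa using h.map (MulAut.conj g⁻¹)

theorem cj_ne' (g : G) {s : G} (h : s ≠ 1) : g * s * g⁻¹ ≠ 1 := by simpa using h

theorem cj_sq' (g : G) {s : G} (h : s * s = 1) : g * s * g⁻¹ * (g * s * g⁻¹) = 1 := by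
  simpa using cj_sq g⁻¹ h

theorem cj_comm' (g : G) {x s : G} (h : Commute x s) : Commute (g * x * g⁻¹) (g * s * g⁻¹) :=
  h.map (MulAut.conj g)

/-- `x` is a `2`-element. -/
def T2 (x : G) : Prop := ∃ m, x ^ 2 ^ m = 1

theorem T2.conj {x : G} (h : T2 x) (g : G) : T2 (g * x * g⁻¹) :=
  h.imp fun m e => by rw [conj_pow, e]; group

theorem T2.of_sq {x : G} (h : x * x = 1) : T2 x := ⟨1, by rw [pow_one, sq, h]⟩

theorem T2.of_mem {P : Subgroup G} (hP : IsPGroup 2 P) {x : G} (h : x ∈ P) : T2 x :=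
  (hP ⟨x, h⟩).imp fun _ e => congrArg Subtype.val e

theorem T2.pg {x : G} (h : T2 x) : IsPGroup 2 (zpowers x) :=
  h.elim fun _ e => H10.isPGroup_zpowers_of_pow e

theorem T2.e (E : V →* G) (v : V) : T2 (E v) := ⟨2, by rw [← map_pow, v4, map_one]⟩

theorem T2.mul {x y : G} (h : T2 x) (h' : T2 y) (e : Commute x y) : T2 (x * y) := by
  obtain ⟨m, hm⟩ := h
  obtain ⟨n, hn⟩ := h'
  exact ⟨m + n, by rw [e.mul_pow, pow_add, pow_mul, hm, one_pow, mul_comm, pow_mul, hn, one_pow,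
    one_mul]⟩

theorem T2.inv {x : G} (h : T2 x) : T2 x⁻¹ := h.imp fun m e => by rw [inv_pow, e, inv_one]

theorem T2.eq_one {x : G} (h : T2 x) (ho : Odd (orderOf x)) : x = 1 := by
  obtain ⟨m, hm⟩ := h
  exact orderOf_eq_one_iff.1 (Nat.eq_one_of_self_dvd_of_coprime_aux ho hm)
where
  Nat.eq_one_of_self_dvd_of_coprime_aux {x : G} {m : ℕ} (ho : Odd (orderOf x)) (hm : x ^ 2 ^ m = 1) :
      orderOf x = 1 :=
    Nat.Coprime.eq_one_of_dvd ((Nat.coprime_two_right.2 ho).pow_right m) (orderOf_dvd_of_pow_eq_one hm)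

theorem T2.exists_inv {x : G} (h : T2 x) (h1 : x ≠ 1) : ∃ n, x ^ n ≠ 1 ∧ x ^ n * x ^ n = 1 := by
  obtain ⟨m, hm⟩ := h
  induction m with
  | zero => exact absurd (by simpa using hm) h1
  | succ m ih =>
    by_cases e : x ^ 2 ^ m = 1
    · exact ih e
    · exact ⟨_, e, by rw [← pow_add, ← two_mul, ← pow_succ', hm]⟩

theorem pgE (E : V →* G) : IsPGroup 2 E.range := fun ⟨_, v, rfl⟩ =>
  (T2.e E v).imp fun _ e => Subtype.ext e

abbrev NJ (E : V →* G) : Subgroup G := normalizer (E.range : Set G)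

theorem NJ_ex {E : V →* G} {n : G} (hn : n ∈ NJ E) (v : V) : ∃ w, R E n v w :=
  ((mem_normalizer_iff.1 hn _).1 ⟨v, rfl⟩).imp fun _ e => e.symm

theorem NJ_of [Finite G] {E : V →* G} {n : G} (hn : ∀ v, ∃ w, R E n v w) : n ∈ NJ E :=
  H10.mem_normalizer_of_conj_mem (by
    rintro _ ⟨v, rfl⟩
    exact (hn v).imp fun _ e => Eq.symm e)

theorem Ac.nj [Finite G] {E : V →* G} {n : G} {f : V → V} (h : Ac E n f) : n ∈ NJ E :=
  NJ_of fun v => ⟨_, h v⟩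

theorem E_NJ (E : V →* G) (v : V) : E v ∈ NJ E := le_normalizer (⟨v, rfl⟩ : E v ∈ E.range)

theorem R15 {E : V →* G} (hE : Function.Injective E) {n : G} (hn : n ∈ NJ E) {v w : V}
    (h : R E n v w) (hv : Mk 15 v) : Mk 15 w := mk15_of w fun t _ => by
  obtain ⟨u, hu⟩ := NJ_ex (inv_mem hn) (c t)
  have hu' : R E n u (c t) := inv_inv n ▸ hu.symm
  exact (h.mul hu').uniq hE ((hu'.mul h).cast (comm15 v hv u) rfl)

abbrev NN (ι : X →* G) : Subgroup G := normalizer (ι.range : Set G)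

abbrev KK (ι : X →* G) : Subgroup G := centralizer (ι.range : Set G)

theorem memK {ι : X →* G} {k : G} : k ∈ KK ι ↔ ∀ p, Commute (ι p) k :=
  ⟨fun h p => h _ ⟨p, rfl⟩, fun h _ ⟨p, e⟩ => e ▸ h p⟩

/-- The elements that induce inner automorphisms. -/
def II (ι : X →* G) : Subgroup G where
  carrier := {x | ∃ l, ∃ k ∈ KK ι, x = ι l * k}
  one_mem' := ⟨1, 1, one_mem _, by simp⟩
  mul_mem' := by
    rintro _ _ ⟨l, k, hk, rfl⟩ ⟨l', k', hk', rfl⟩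
    exact ⟨l * l', k * k', mul_mem hk hk', by
      rw [map_mul, (memK.1 hk l').symm.mul_mul_mul_comm]⟩
  inv_mem' := by
    rintro _ ⟨l, k, hk, rfl⟩
    exact ⟨l⁻¹, k⁻¹, inv_mem hk, by rw [map_inv, ← mul_inv_rev, (memK.1 hk l).eq]⟩

theorem LI (ι : X →* G) (l : X) : ι l ∈ II ι := ⟨l, 1, one_mem _, (mul_one _).symm⟩

theorem KI {ι : X →* G} {k : G} (h : k ∈ KK ι) : k ∈ II ι := ⟨1, k, h, by simp⟩

theorem LN (ι : X →* G) (l : X) : ι l ∈ NN ι := le_normalizer (⟨l, rfl⟩ : ι l ∈ ι.range)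

theorem KN {ι : X →* G} {k : G} (h : k ∈ KK ι) : k ∈ NN ι := centralizer_le_normalizer _ h

theorem IN {ι : X →* G} {k : G} (h : k ∈ II ι) : k ∈ NN ι := by
  obtain ⟨l, k, hk, rfl⟩ := h
  exact mul_mem (LN ι l) (KN hk)

theorem N_ex {ι : X →* G} {n : G} (hn : n ∈ NN ι) (x : X) : ∃ y, n * ι x * n⁻¹ = ι y :=
  ((mem_normalizer_iff.1 hn _).1 ⟨x, rfl⟩).imp fun _ e => e.symm

theorem nK {ι : X →* G} {n k : G} (hn : n ∈ NN ι) (hk : k ∈ KK ι) : n * k * n⁻¹ ∈ KK ι :=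
  memK.2 fun p => by
    obtain ⟨q, hq⟩ := N_ex (inv_mem hn) p
    have := (memK.1 hk q).map (MulAut.conj n)
    rw [← hq] at this
    simpa [mul_assoc] using this

theorem nK' {ι : X →* G} {n k : G} (hn : n ∈ NN ι) (hk : k ∈ KK ι) : n⁻¹ * k * n ∈ KK ι := by
  simpa using nK (inv_mem hn) hk

theorem nI {ι : X →* G} {n k : G} (hn : n ∈ NN ι) (hk : k ∈ II ι) : n * k * n⁻¹ ∈ II ι := by
  obtain ⟨l, k, hk, rfl⟩ := hk
  obtain ⟨q, hq⟩ := N_ex hn l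
  exact ⟨q, _, nK hn hk, by rw [← hq]; group⟩

/-- The elements that fix the class of `E₁`. -/
def N1 [Finite G] (ι : X →* G) (e : V →* X) : Subgroup G where
  carrier := {n | n ∈ NN ι ∧ ∃ l, ι l * n ∈ normalizer ((sub 12).map (ι.comp e) : Set G)}
  one_mem' := ⟨one_mem _, 1, by simp⟩
  mul_mem' := by
    rintro n n' ⟨h, l, hl⟩ ⟨h', l', hl'⟩
    obtain ⟨q, hq⟩ := N_ex h l'
    exact ⟨mul_mem h h', l * q, by convert mul_mem hl hl' using 1; rw [map_mul, ← hq]; group⟩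
  inv_mem' := by
    rintro n ⟨h, l, hl⟩
    obtain ⟨q, hq⟩ := N_ex (inv_mem h) l⁻¹
    exact ⟨inv_mem h, q, by convert inv_mem hl using 1; rw [← hq, map_inv]; group⟩

theorem N1_of [Finite G] {ι : X →* G} {e : V →* X} {n : G} (hn : n ∈ NN ι)
    (h : ∀ v, Mk 12 v → ∃ w, Mk 12 w ∧ R (ι.comp e) n v w) : n ∈ N1 ι e :=
  ⟨hn, 1, by
    rw [map_one, one_mul]
    refine H10.mem_normalizer_of_conj_mem ?_
    rintro _ ⟨v, hv, rfl⟩
    exact (h v hv).imp fun _ e => ⟨e.1, Eq.symm e.2⟩⟩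

theorem L_N1 [Finite G] (ι : X →* G) (e : V →* X) (l : X) : ι l ∈ N1 ι e :=
  ⟨LN ι l, l⁻¹, by simp⟩

theorem R_map {ι : X →* G} {e : V →* X} {x : X} {v w : V} (h : R e x v w) :
    R (ι.comp e) (ι x) v w := by
  have := congrArg ι h
  simpa [R] using this

namespace XD

variable {e : V →* X} {h l₁ l₂ : X} (S : XD e h l₁ l₂)
include S

theorem ahp {i : ℕ} (hi : i < 3) : Ac e (h ^ i) (ps (4 * i)) := by
  interval_cases i
  · exact (pow_zero h).symm ▸ ac_one.congr fun i => (ps_zero i).symm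
  · exact (pow_one h).symm ▸ S.ah
  · exact (sq h).symm ▸ (S.ah.comp S.ah).congr (by decide +kernel)

theorem RZ (x : X) {d : V} (hd : Mk 63 d) : R e x d d :=
  R_self.2 (mem_center_iff.1 ((S.cen _).2 ⟨d, hd, rfl⟩) x)

theorem fixτ {x : X} {v w : V} (h1 : Mk 15 v) (h2 : ¬ Mk 63 v) (h3 : Mk 15 w) (h4 : R e x v w) :
    ∃ y, ∃ i < 3, x = e y * h ^ i := by
  have key : ∀ v, Mk 15 v → ¬ Mk 63 v → ∀ w, Mk 15 w → ¬ Mk 63 w →
      ∃ i < 3, ∃ u, Mk 63 (u * v⁻¹) ∧ ps (4 * i) u = w := by decide +kernel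
  obtain ⟨i, hi, u, k1, k2⟩ := key v h1 h2 w h3 fun hw =>
    h2 (h4.uniq' S.inj (S.RZ x hw) ▸ hw)
  obtain ⟨y, hy⟩ := S.ctr _ v u h1 h2 k1 (((S.ahp hi u).cast rfl k2).symm.comp h4)
  exact ⟨_, i, hi, by rw [← S.ahp hi y, hy]; group⟩

theorem toZ {v : V} (h1 : Mk 63 (v * v)) (h2 : ¬ Mk 63 v) :
    ∃ l w, Mk 15 w ∧ ¬ Mk 63 w ∧ R e l v w := by
  have key : ∀ v, Mk 63 (v * v) → ¬ Mk 63 v → Mk 15 v ∨ ∃ y, Mk 240 y ∧
      ((Mk 12 (y * v * y⁻¹) ∧ Mk 15 (sw1 (y * v * y⁻¹)) ∧ ¬ Mk 63 (sw1 (y * v * y⁻¹))) ∨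
        (Mk 3 (y * v * y⁻¹) ∧ Mk 15 (sw2 (y * v * y⁻¹)) ∧ ¬ Mk 63 (sw2 (y * v * y⁻¹)))) := by
    decide +kernel
  rcases key v h1 h2 with k | ⟨y, -, k | k⟩
  · exact ⟨1, v, k, h2, R.refl v⟩
  · exact ⟨_, _, k.2.1, k.2.2, (S.a1 _ k.1).comp (R.of_e y v)⟩
  · exact ⟨_, _, k.2.1, k.2.2, (S.a2 _ k.1).comp (R.of_e y v)⟩

theorem no21 {m : X} (hm : ∀ v, Mk 3 v → ∃ w, Mk 12 w ∧ R e m v w) : False := by
  have key : ∀ w, Mk 12 w → Mk 15 w ∨ ∃ y, Mk 3 y ∧ Mk 12 (y * w * y⁻¹) ∧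
      Mk 15 (sw1 (y * w * y⁻¹)) := by decide +kernel
  have k2 : ∀ y, ∀ i < 3, ¬ Mk 12 (y * ps (4 * i) (c 4) * y⁻¹) := by decide +kernel
  have fin : ∀ m : X, (∃ w, Mk 15 w ∧ R e m (c 16) w) → (∃ w, Mk 12 w ∧ R e m (c 4) w) → False := by
    rintro m ⟨w, h1, h2⟩ ⟨u, h3, h4⟩
    obtain ⟨y, i, hi, rfl⟩ := S.fixτ (by decide +kernel) (by decide +kernel) h1 h2
    exact k2 y i hi (h4.uniq S.inj ((R.of_e y _).comp (S.ahp hi _)) ▸ h3)
  obtain ⟨w, h1, h2⟩ := hm (c 16) (by decide +kernel)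
  obtain ⟨u, h3, h4⟩ := hm (c 4) (by decide +kernel)
  have k4 : ∀ y, ∀ u, Mk 12 u → Mk 12 (y * u * y⁻¹) ∧ Mk 12 (sw1 (y * u * y⁻¹)) := by decide +kernel
  rcases key w h1 with k | ⟨y, -, q2, q3⟩
  · exact fin m ⟨w, k, h2⟩ ⟨u, h3, h4⟩
  · exact fin _ ⟨_, q3, (S.a1 _ q2).comp ((R.of_e y w).comp h2)⟩
      ⟨_, (k4 y u h3).2, (S.a1 _ (k4 y u h3).1).comp ((R.of_e y u).comp h4)⟩

end XD

/-- The standard subgroup. -/
structure Su (ι : X →* G) (e : V →* X) (h l₁ l₂ : X) : Prop extends XD e h l₁ l₂ where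
  ιinj : Function.Injective ι
  std : IsStandardSubgroup ι.range

namespace Su

variable [Finite G] {ι : X →* G} {e : V →* X} {h l₁ l₂ : X} (S : Su ι e h l₁ l₂)
include S

local notation "E" => MonoidHom.comp ι e

theorem Einj : Function.Injective E := S.ιinj.comp S.inj

theorem ZK {d : V} (hd : Mk 63 d) : E d ∈ KK ι := memK.2 fun p => R_self.1 (R_map (S.RZ p hd))

theorem LK {x : X} (hx : ι x ∈ KK ι) : ∃ d, Mk 63 d ∧ e d = x :=
  (S.cen x).1 (mem_center_iff.2 fun g => S.ιinj (by rw [map_mul, map_mul, (memK.1 hx g).eq]))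

theorem EK {v : V} (hv : E v ∈ KK ι) : Mk 63 v := by
  obtain ⟨d, hd, k⟩ := S.LK hv
  exact S.inj k ▸ hd

theorem E_ne {v : V} (hv : v ≠ 1) : E v ≠ 1 := (map_ne_one_iff _ S.Einj).2 hv

theorem tight {s g : G} (h1 : s ≠ 1) (h2 : s * s = 1) (hs : s ∈ KK ι) (hg : g⁻¹ * s * g ∈ KK ι) :
    g ∈ NN ι :=
  inv_mem_iff.1 (H10.Std.norm_of_conj_mem S.std (H10.orderOf_eq_two_of h2 h1) hs (by rwa [inv_inv]))

theorem tight2 {s g : G} (h2 : T2 s) (hs : s ∈ KK ι) (hg : g⁻¹ * s * g ∈ KK ι) (hn : g ∉ NN ι) :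
    s = 1 := by
  by_contra h1
  obtain ⟨n, q1, q2⟩ := h2.exists_inv h1
  exact hn (S.tight q1 q2 (pow_mem hs n) (cj_pow g s n ▸ pow_mem hg n))

theorem cent {s x : G} (h1 : s ≠ 1) (h2 : s * s = 1) (hs : s ∈ KK ι) (hx : Commute x s) :
    x ∈ NN ι :=
  S.tight h1 h2 hs (by rwa [mul_assoc, ← hx.eq, inv_mul_cancel_left])

theorem cent' {s x g : G} (h1 : s ≠ 1) (h2 : s * s = 1) (hs : g⁻¹ * s * g ∈ KK ι)
    (hx : Commute x s) : g⁻¹ * x * g ∈ NN ι :=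
  S.cent (cj_ne g h1) (cj_sq g h2) hs (cj_comm g hx)

theorem dec {n : G} (hn : n ∈ NN ι) : ∃ l, ∃ k ∈ Θ, ∃ m ∈ NN ι, n = ι l * m ∧ Ac E m (ps k) ∧
    (m * ι h * m⁻¹ = ι h ∨ m * ι h * m⁻¹ = (ι h)⁻¹) ∧ (k = 0 → m ∈ KK ι) := by
  let φ : X ≃* X := (MonoidHom.ofInjective S.ιinj).trans ((ι.range.normalizerMonoidHom ⟨n, hn⟩).trans
    (MonoidHom.ofInjective S.ιinj).symm)
  have hφ : ∀ p, ι (φ p) = n * ι p * n⁻¹ := fun p => MonoidHom.apply_ofInjective_symm S.ιinj _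
  obtain ⟨l, k, hk, h1, h2, h3⟩ := S.aut φ
  have q : ∀ p, (ι l)⁻¹ * n * ι p * ((ι l)⁻¹ * n)⁻¹ = ι (l⁻¹ * φ p * l) := fun p => by
    rw [map_mul, map_mul, hφ, map_inv]
    group
  exact ⟨l, k, hk, (ι l)⁻¹ * n, mul_mem (inv_mem (LN ι l)) hn, by group,
    fun v => (q _).trans (congrArg ι (h1 v)), by rw [q, ← map_inv]; exact h2.imp (congrArg ι) (congrArg ι),
    fun k0 => memK.2 fun p => (mul_inv_eq_iff_eq_mul.1 ((q p).trans (congrArg ι (h3 k0 p)))).symm⟩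

theorem aH {i : ℕ} (hi : i < 3) : Ac E (ι h ^ i) (ps (4 * i)) := fun v =>
  map_pow ι h i ▸ R_map (S.ahp hi v)

theorem R_un {x : X} {v w : V} (h : R E (ι x) v w) : R e x v w := S.ιinj (by simpa [R] using h)

theorem normJ {x : X} (hx : ι x ∈ NJ E) : ∃ y, ∃ i < 3, x = e y * h ^ i := by
  obtain ⟨w, hw⟩ := NJ_ex hx (c 16)
  exact S.fixτ (by decide +kernel) (by decide +kernel) (R15 S.Einj hx hw (by decide +kernel))
    (S.R_un hw)

theorem decJ {n : G} (hn : n ∈ NN ι) (hJ : n ∈ NJ E) : ∃ y, ∃ k < 72, ∃ m ∈ NN ι, Lk k ∧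
    n = E y * m ∧ Ac E m (ps k) ∧ (m * ι h * m⁻¹ = ι h ∨ m * ι h * m⁻¹ = (ι h)⁻¹) ∧
    (k ∈ [0, 4, 8] → m ∈ II ι) ∧ (k = 0 → m ∈ KK ι) := by
  obtain ⟨l, k, hk, m, hm, rfl, h1, h2, h3⟩ := S.dec hn
  obtain ⟨y, i, hi, rfl⟩ := S.normJ ((mul_mem_cancel_right h1.nj).1 hJ)
  have key : ∀ k ∈ Θ, ∀ i < 3, ∃ k' < 72, Lk k' ∧ (∀ v, ps (4 * i) (ps k v) = ps k' v) ∧
      (k' ∈ [0, 4, 8] → k = 0) ∧ (k' = 0 → i = 0) := by decide +kernel
  obtain ⟨k', q1, q2, q3, q4, q5⟩ := key k hk i hi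
  refine ⟨y, k', q1, ι h ^ i * m, mul_mem (pow_mem (LN ι h) i) hm, q2, by simp [mul_assoc],
    ((S.aH hi).comp h1).congr q3, ?_, fun q => mul_mem (pow_mem (LI ι h) i) (KI (h3 (q4 q))),
    fun q => by rw [q5 q, pow_zero, one_mul]; exact h3 (q4 (by simp [q]))⟩
  have : ∀ p, Commute (ι h ^ i) p → m * ι h * m⁻¹ = p → ι h ^ i * m * ι h * (ι h ^ i * m)⁻¹ = p :=
    fun p a b => by rw [← mul_inv_eq_iff_eq_mul.2 a.eq, ← b]; group
  exact h2.imp (this _ ((Commute.refl _).pow_left i)) (this _ ((Commute.refl _).pow_left i).inv_right)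

theorem inn {n : G} (hn : n ∈ N1 ι e) (hz : ∀ d, Mk 63 d → Commute n (E d)) : n ∈ II ι := by
  obtain ⟨hn, l', hl⟩ := hn
  obtain ⟨l, k, hk, m, hm, rfl, h1, -, h3⟩ := S.dec hn
  have key : ∀ k ∈ Θ, ps k (c 64) = c 64 → ps k (c 128) = c 128 → k = 0 ∨
      ∀ v, Mk 3 v → ∃ u, Mk 12 u ∧ ps k u = v := by decide +kernel
  have q : ∀ d, Mk 63 d → ps k d = d := fun d hd =>
    (R_map (S.RZ l hd)).uniq' S.Einj (R.cast (by
      simpa using (R_self.2 (hz d hd)).comp (h1 d).symm) rfl rfl) |>.symm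
  rcases key k hk (q _ (by decide +kernel)) (q _ (by decide +kernel)) with k0 | k0
  · exact mul_mem (LI ι l) (KI (h3 k0))
  · refine (S.no21 (m := l' * l) fun v hv => ?_).elim
    obtain ⟨u, hu, rfl⟩ := k0 v hv
    obtain ⟨w, hw, e⟩ := (mem_normalizer_iff.1 hl _).1 ⟨u, hu, rfl⟩
    refine ⟨w, hw, S.R_un ?_⟩
    simpa [mul_assoc] using R.comp e.symm (h1 u).symm

theorem N1_or {n n' : G} (hn : n ∈ NN ι) (hn' : n' ∈ NN ι) (h1 : n ∉ N1 ι e) (h2 : n' ∉ N1 ι e) :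
    n * n' ∈ N1 ι e := by
  have key : ∀ k ∈ Θ, (∀ v, Mk 12 v → Mk 12 (ps k v)) ∨
      ((∀ v, Mk 12 v → Mk 3 (ps k v)) ∧ ∀ v, Mk 3 v → Mk 12 (ps k v)) := by decide +kernel
  obtain ⟨l, k, hk, m, hm, rfl, a, -⟩ := S.dec hn
  obtain ⟨l', k', hk', m', hm', rfl, a', -⟩ := S.dec hn'
  have q := (key k hk).resolve_left fun q =>
    h1 (mul_mem (L_N1 ι e l) (N1_of hm fun v hv => ⟨_, q v hv, a v⟩))
  have q' := (key k' hk').resolve_left fun q =>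
    h2 (mul_mem (L_N1 ι e l') (N1_of hm' fun v hv => ⟨_, q v hv, a' v⟩))
  obtain ⟨p, hp⟩ := N_ex hm l'
  rw [show ι l * m * (ι l' * m') = ι l * (m * ι l' * m⁻¹) * (m * m') by group, hp]
  exact mul_mem (mul_mem (L_N1 ι e l) (L_N1 ι e p))
    (N1_of (mul_mem hm hm') fun v hv => ⟨_, q.2 _ (q'.1 v hv), (a _).comp (a' v)⟩)

theorem N1_comm {p q : G} (hp : p ∈ NN ι) (hq : q ∈ NN ι) : ⁅p, q⁆ ∈ N1 ι e := by
  rw [commutatorElement_def]
  by_cases h1 : p ∈ N1 ι e <;> by_cases h2 : q ∈ N1 ι e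
  · exact mul_mem (mul_mem (mul_mem h1 h2) (inv_mem h1)) (inv_mem h2)
  · rw [mul_assoc, mul_assoc, ← mul_assoc q]
    exact mul_mem h1 (S.N1_or (mul_mem hq (inv_mem hp)) (inv_mem hq)
      (fun e => h2 ((mul_mem_cancel_right (inv_mem h1)).1 e)) fun e => h2 (inv_mem_iff.1 e))
  · exact mul_mem (S.N1_or (mul_mem hp hq) (inv_mem hp)
      (fun e => h1 ((mul_mem_cancel_right h2).1 e)) fun e => h1 (inv_mem_iff.1 e)) (inv_mem h2)
  · rw [mul_assoc]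
    exact mul_mem (S.N1_or hp hq h1 h2) (S.N1_or (inv_mem hp) (inv_mem hq)
      (fun e => h1 (inv_mem_iff.1 e)) fun e => h2 (inv_mem_iff.1 e))

theorem sylL : IsSylowIn 2 (E).range ι.range := by
  have : Finite X := Finite.of_injective ι S.ιinj
  have := S.syl.map ι
  rwa [← MonoidHom.range_eq_map, MonoidHom.map_range] at this

theorem LJ {x : X} (hx : ι x ∈ NJ E) (h2 : T2 (ι x)) : ∃ v, E v = ι x :=
  S.sylL.le_of_le_normalizer' h2.pg (zpowers_le.2 ⟨x, rfl⟩) (zpowers_le.2 hx) (mem_zpowers _)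

theorem syl_norm {P : Subgroup G} (hP : IsPGroup 2 P) (h1 : P ≤ NN ι) (h2 : (E).range ≤ P) :
    P ≤ NJ E := by
  have : P ⊓ ι.range = (E).range :=
    S.sylL.eq_of_le (hP.to_le inf_le_left) inf_le_right (le_inf h2 S.sylL.le)
  rw [NJ, ← this]
  exact fun x hx => inf_le_normalizer_inf' hx (h1 hx)
where
  inf_le_normalizer_inf' {P L : Subgroup G} {x : G} (h1 : x ∈ P) (h2 : x ∈ normalizer (L : Set G)) :
      x ∈ normalizer ((P ⊓ L : Subgroup G) : Set G) :=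
    H10.mem_normalizer_of_conj_mem fun y hy => ⟨P.mul_mem (P.mul_mem h1 hy.1) (P.inv_mem h1),
      (mem_normalizer_iff.1 h2 y).1 hy.2⟩

theorem conjN {P : Subgroup G} (hP : IsPGroup 2 P) (h1 : P ≤ NN ι) :
    ∃ l, ∀ x ∈ P, ι l * x * (ι l)⁻¹ ∈ NJ E := by
  obtain ⟨Q, hQ, hJ⟩ := exists_isSylowIn_ge (H := NN ι) (pgE E) (S.sylL.le.trans le_normalizer)
  obtain ⟨n, hn, h2⟩ := hQ.exists_conj_le hP h1
  obtain ⟨l, k, -, m, -, e1, a, -⟩ := S.dec (inv_mem hn)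
  refine ⟨l⁻¹, fun x hx => ?_⟩
  have := mul_mem (mul_mem a.nj (S.syl_norm hQ.isPGroup hQ.le hJ (h2 (conj_mem_conj_smul.2 hx))))
    (inv_mem a.nj)
  rwa [← inv_inv n, e1, show m * ((ι l * m)⁻¹ * x * (ι l * m)⁻¹⁻¹) * m⁻¹ = ι l⁻¹ * x * (ι l⁻¹)⁻¹ by
    rw [map_inv]; group] at this

theorem actZ {n : G} (hn : n ∈ NN ι) : ∃ k ∈ Θ, ∀ d, Mk 63 d → R E n d (ps k d) := by
  obtain ⟨l, k, hk, m, -, rfl, a, -⟩ := S.dec hn
  have key : ∀ k ∈ Θ, ∀ d, Mk 63 d → Mk 63 (ps k d) := by decide +kernel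
  exact ⟨k, hk, fun d hd => (R_map (S.RZ l (key k hk d hd))).comp (a d)⟩

end Su

end Cfsg.Agent.H20.HE
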