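import Cfsg.Agent.H20.HE3
import Cfsg.Agent.S1911
import Cfsg.Agent.H10.StronglyEmbedded

/-! A standard subgroup `L = 2²·L₃(4)`: some conjugate of an involution of `C(L)` is inner. -/

set_option autoImplicit false
set_option synthInstance.maxSize 4096
set_option linter.unusedSectionVars false

namespace Cfsg.Agent.H20.HE

open Cfsg Subgroup H8
open scoped commutatorElement Pointwise

variable {X G : Type*} [Group X] [Group G]

/-- No involution of `K^g` is inner. -/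
def H1 (ι : X →* G) (g : G) : Prop := ∀ s, s ≠ 1 → s * s = 1 → g⁻¹ * s * g ∈ KK ι → s ∉ II ι

/-- No involution of another conjugate of `K` is inner. -/
def H0 (ι : X →* G) : Prop := ∀ g ∉ NN ι, H1 ι g

theorem H1.mul {ι : X →* G} {g n : G} (H : H1 ι g) (hn : n ∈ NN ι) : H1 ι (n * g) :=
  fun s s1 s2 sK sI => H _ (cj_ne n s1) (cj_sq n s2) (by simpa [mul_assoc] using sK)
    (by simpa using nI (inv_mem hn) sI)

theorem R_sq {E : V →* G} (hE : Function.Injective E) {g : G} (h2 : g * g = 1) {u v w : V}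
    (a : R E g u v) (b : R E g v w) : w = u := (h2 ▸ b.comp a).uniq hE (R.refl u)

theorem Kg_comm {ι : X →* G} {g x u : G} (hx : g⁻¹ * x * g ∈ NN ι) (hu : g⁻¹ * u * g ∈ KK ι) :
    g⁻¹ * (x * u * x⁻¹ * u⁻¹) * g ∈ KK ι := by
  convert mul_mem (nK hx hu) (inv_mem hu) using 1
  group

namespace Su

variable [Finite G] {ι : X →* G} {e : V →* X} {h l₁ l₂ : X} (S : Su ι e h l₁ l₂)
include S

local notation "E" => MonoidHom.comp ι e

theorem cenZ {n : G} (h1 : R E n (c 64) (c 64)) (h2 : R E n (c 128) (c 128)) {d : V} (hd : Mk 63 d) :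
    Commute n (E d) :=
  R_self.1 (indM (P := fun d => R E n d d) R.one (fun _ _ => R.mul) (m := 63) (fun k hk hm => by
    have : ∀ k < 8, Mk 63 (c (2 ^ k)) → k = 6 ∨ k = 7 := by decide +kernel
    rcases this k hk hm with rfl | rfl
    exacts [h1, h2]) d hd)

theorem four1 {g f u : G} (H : H1 ι g) (f1 : f ≠ 1) (f2 : f * f = 1)
    (fK : g⁻¹ * f * g ∈ KK ι) (fN : f ∈ NN ι) (fJ : f ∈ NJ E)
    (hf : ∀ v, Mk 12 v → ∃ w, Mk 12 w ∧ R E f v w) (uK : g⁻¹ * u * g ∈ KK ι) (uJ : u ∈ NJ E)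
    (hu : ∀ v, Mk 12 v → ∃ w, Mk 3 w ∧ R E u v w) : False := by
  obtain ⟨y, k, hk, m, -, hL, rfl, a, -⟩ := S.decJ fN fJ
  have b : ∀ v, R E (E y * m) v (y * ps k v * y⁻¹) := (ac_e y).comp a
  have key : ∀ k < 72, Lk k → ∀ y, Mk 12 (y * ps k (c 1) * y⁻¹) →
      (∀ t ∈ [1, 2, 4, 8], y * ps k (y * ps k (c t) * y⁻¹) * y⁻¹ = c t) →
      (y * ps k (c 64) * y⁻¹ = c 64 ∧ y * ps k (c 128) * y⁻¹ = c 128) ∨
        ∃ p, Mk 12 p ∧ ¬ Mk 15 p ∧ y * ps k p * y⁻¹ = p := by decide +kernel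
  obtain ⟨w, w1, w2⟩ := hf (c 1) (by decide +kernel)
  rcases key k hk hL y (w2.uniq S.Einj (b _) ▸ w1) fun t _ => R_sq S.Einj f2 (b _) (b _) with
    q | ⟨p, p1, p2, p3⟩
  · exact H _ f1 f2 fK (S.inn (N1_of fN hf) fun d =>
      S.cenZ ((b _).cast rfl q.1) ((b _).cast rfl q.2))
  obtain ⟨q, q1, q2⟩ := hu p p1
  have k2 : ∀ p, Mk 12 p → ¬ Mk 15 p → ∀ q, Mk 3 q → ¬ Mk 15 q → p * q⁻¹ * (p * q⁻¹) ≠ 1 ∧
      p * q⁻¹ * (p * q⁻¹) * (p * q⁻¹ * (p * q⁻¹)) = 1 := by decide +kernel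
  obtain ⟨r1, r2⟩ := k2 p p1 p2 q q1 fun e => p2 (R15 S.Einj (inv_mem uJ) q2.symm e)
  have := Kg_comm (S.cent' f1 f2 fK (R_self.1 ((b p).cast rfl p3)).symm) uK
  rw [show E p * u * (E p)⁻¹ * u⁻¹ = E (p * q⁻¹) by rw [map_mul, ← q2.inv, map_inv]; group] at this
  refine H (E (p * q⁻¹ * (p * q⁻¹))) (S.E_ne r1) (by rw [← map_mul, r2, map_one]) ?_ (LI ι _)
  convert mul_mem this this using 1
  rw [map_mul]
  group

theorem typ {n : G} (hn : n ∈ NN ι) (hJ : n ∈ NJ E) :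
    (∀ v, Mk 12 v → ∃ w, Mk 12 w ∧ R E n v w) ∨ ((∀ v, Mk 12 v → ∃ w, Mk 3 w ∧ R E n v w) ∧
      ∀ v, Mk 3 v → ∃ w, Mk 12 w ∧ R E n v w) := by
  obtain ⟨y, k, hk, m, -, -, rfl, a, -⟩ := S.decJ hn hJ
  have b := (ac_e y).comp a
  have key : ∀ k < 72, (∀ v, Mk 12 v → Mk 12 (ps k v)) ∨
      ((∀ v, Mk 12 v → Mk 3 (ps k v)) ∧ ∀ v, Mk 3 v → Mk 12 (ps k v)) := by decide +kernel
  have k2 : ∀ y v, (Mk 12 v → Mk 12 (y * v * y⁻¹)) ∧ (Mk 3 v → Mk 3 (y * v * y⁻¹)) := by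
    decide +kernel
  exact (key k hk).imp (fun q v hv => ⟨_, (k2 y _).1 (q v hv), b v⟩) fun q =>
    ⟨fun v hv => ⟨_, (k2 y _).2 (q.1 v hv), b v⟩, fun v hv => ⟨_, (k2 y _).1 (q.2 v hv), b v⟩⟩

theorem four {g s t : G} (H : H1 ι g) (s1 : s ≠ 1) (s2 : s * s = 1)
    (sK : g⁻¹ * s * g ∈ KK ι) (sN : s ∈ NN ι) (t1 : t ≠ 1) (t2 : t * t = 1)
    (tK : g⁻¹ * t * g ∈ KK ι) (tN : t ∈ NN ι) (hc : Commute s t) : s = t := by
  by_contra hne
  obtain ⟨l, hl⟩ := S.conjN (H10.isPGroup_closure_pair s2 t2 hc) ((closure_le _).2 (by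
    rintro _ (rfl | rfl); exacts [sN, tN]))
  have sJ := hl s (subset_closure (by simp))
  have tJ := hl t (subset_closure (by simp))
  replace H := H.mul (LN ι l)
  have q : ∀ x, (ι l * g)⁻¹ * (ι l * x * (ι l)⁻¹) * (ι l * g) = g⁻¹ * x * g := fun x => by group
  have qN : ∀ {x}, x ∈ NN ι → ι l * x * (ι l)⁻¹ ∈ NN ι := fun hx =>
    mul_mem (mul_mem (LN ι l) hx) (inv_mem (LN ι l))
  rw [← q] at sK tK
  replace s1 := cj_ne' (ι l) s1
  replace t1 := cj_ne' (ι l) t1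
  replace s2 := cj_sq' (ι l) s2
  replace t2 := cj_sq' (ι l) t2
  replace sN := qN sN
  replace tN := qN tN
  replace hc := cj_comm' (ι l) hc
  replace hne : ι l * s * (ι l)⁻¹ ≠ ι l * t * (ι l)⁻¹ := by simpa using hne
  generalize ι l * s * (ι l)⁻¹ = s, ι l * t * (ι l)⁻¹ = t, ι l * g = g at *
  have p1 : s * t ≠ 1 := fun e => hne (mul_right_cancel (e.trans t2.symm))
  have p2 : s * t * (s * t) = 1 := by rw [hc.symm.mul_mul_mul_comm, s2, t2, one_mul]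
  have pK : g⁻¹ * (s * t) * g ∈ KK ι := by
    convert mul_mem sK tK using 1
    group
  rcases S.typ sN sJ with a | a <;> rcases S.typ tN tJ with b | b
  · refine H _ p1 p2 pK (S.inn (mul_mem (N1_of sN a) (N1_of tN b)) fun d => ?_)
    obtain ⟨k, hk, x⟩ := S.actZ sN
    obtain ⟨k', hk', y⟩ := S.actZ tN
    have key : ∀ k ∈ Θ, ∀ k' ∈ Θ, (∀ d, Mk 63 d → Mk 63 (ps k d) ∧ Mk 63 (ps k' d)) ∧
        (ps k (ps k (c 64)) = c 64 → ps k' (ps k' (c 64)) = c 64 →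
        ps k (ps k' (c 64)) = ps k' (ps k (c 64)) → ps k (ps k' (c 128)) = ps k' (ps k (c 128)) →
        (ps k (c 64) = c 64 ∧ ps k (c 128) = c 128) ∨ (ps k' (c 64) = c 64 ∧ ps k' (c 128) = c 128) ∨
        (ps k (ps k' (c 64)) = c 64 ∧ ps k (ps k' (c 128)) = c 128)) := by decide +kernel
    obtain ⟨k1, k2⟩ := key k hk k' hk'
    have m1 : Mk 63 (c 64) := by decide +kernel
    have m2 : Mk 63 (c 128) := by decide +kernel
    have cm : ∀ d, Mk 63 d → ps k (ps k' d) = ps k' (ps k d) := fun d hd =>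
      ((x _ (k1 d hd).2).comp (y d hd)).uniq S.Einj (hc.eq ▸ (y _ (k1 d hd).1).comp (x d hd))
    rcases k2 (R_sq S.Einj s2 (x _ m1) (x _ (k1 _ m1).1)) (R_sq S.Einj t2 (y _ m1) (y _ (k1 _ m1).2))
      (cm _ m1) (cm _ m2) with q | q | q
    · exact (H _ s1 s2 sK (S.inn (N1_of sN a) fun d =>
        S.cenZ ((x _ m1).cast rfl q.1) ((x _ m2).cast rfl q.2))).elim
    · exact (H _ t1 t2 tK (S.inn (N1_of tN b) fun d =>
        S.cenZ ((y _ m1).cast rfl q.1) ((y _ m2).cast rfl q.2))).elim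
    · exact S.cenZ (((x _ (k1 _ m1).2).comp (y _ m1)).cast rfl q.1)
        (((x _ (k1 _ m2).2).comp (y _ m2)).cast rfl q.2)
  · exact S.four1 H s1 s2 sK sN sJ a tK tJ b.1
  · exact S.four1 H t1 t2 tK tN tJ b sK sJ a.1
  · refine S.four1 H p1 p2 pK (mul_mem sN tN) (mul_mem sJ tJ) (fun v hv => ?_) sK sJ a.1
    obtain ⟨w, w1, w2⟩ := b.1 v hv
    obtain ⟨u, u1, u2⟩ := a.2 w w1
    exact ⟨u, u1, u2.comp w2⟩

/-- An involution of `K^g` that normalizes `L` moves `Z₀`. -/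
theorem moves (H : H0 ι) {g u : G} (hg : g ∉ NN ι) (u1 : u ≠ 1) (u2 : u * u = 1)
    (uK : g⁻¹ * u * g ∈ KK ι) (uN : u ∈ NN ι) : ∃ d t, Mk 63 d ∧ Mk 63 t ∧ t ≠ 1 ∧
      Commute u (E t) ∧ E d * u * (E d)⁻¹ = E t * u := by
  obtain ⟨k, hk, x⟩ := S.actZ uN
  have key : ∀ k ∈ Θ, Mk 63 (ps k (c 64)) ∧ (ps k (ps k (c 64)) = c 64 →
      (ps k (c 64) = c 64 ∧ ps k (c 128) = c 128) ∨ ∃ d, Mk 63 d ∧ Mk 63 (d * ps k d⁻¹) ∧
        d * ps k d⁻¹ ≠ 1 ∧ ps k (d * ps k d⁻¹) = d * ps k d⁻¹) := by decide +kernel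
  have m1 : Mk 63 (c 64) := by decide +kernel
  have m2 : Mk 63 (c 128) := by decide +kernel
  rcases (key k hk).2 (R_sq S.Einj u2 (x _ m1) (x _ (key k hk).1)) with q | ⟨d, q1, q2, q3, q4⟩
  · have f : ∀ d, Mk 63 d → d ≠ 1 → g⁻¹ * E d * g ≠ 1 ∧ g⁻¹ * E d * g * (g⁻¹ * E d * g) = 1 ∧
        g⁻¹⁻¹ * (g⁻¹ * E d * g) * g⁻¹ ∈ KK ι ∧ g⁻¹ * E d * g ∈ NN ι := fun d hd d1 =>
      ⟨cj_ne g (S.E_ne d1), cj_sq g (by rw [← map_mul, (mk15 d (mk63 d hd)).2.2, map_one]),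
        by simpa [mul_assoc] using S.ZK hd, S.cent' u1 u2 uK
          (S.cenZ ((x _ m1).cast rfl q.1) ((x _ m2).cast rfl q.2) hd).symm⟩
    obtain ⟨a1, a2, a3, a4⟩ := f _ m1 (by decide +kernel)
    obtain ⟨b1, b2, b3, b4⟩ := f _ m2 (by decide +kernel)
    have := S.four (H _ fun e => hg (inv_mem_iff.1 e)) a1 a2 a3 a4 b1 b2 b3 b4
      (cj_comm g (Commute.map (show c 64 * c 128 = c 128 * c 64 by decide +kernel) E))
    exact absurd (S.Einj (mul_left_cancel (mul_right_cancel this))) (by decide +kernel)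
  · exact ⟨d, _, q1, q2, q3, R_self.1 ((x _ q2).cast rfl q4), by
      rw [map_mul, ← x _ q1.inv, map_inv]; group⟩

theorem keyA (H : H0 ι) {g u p q : G} (hg : g ∉ NN ι) (u1 : u ≠ 1) (u2 : u * u = 1)
    (uK : g⁻¹ * u * g ∈ KK ι) (uN : u ∈ NN ι) (pu : Commute p u) (qu : Commute q u)
    {v w : V} (hv : ⁅p, q⁆ = E v) (v1 : v ≠ 1) (v2 : v * v = 1)
    (hw : E w * u * (E w)⁻¹ = E v * u) : False := by
  obtain ⟨d, t, hd, ht, t1, tu, hz⟩ := S.moves H hg u1 u2 uK uN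
  have T1 := S.E_ne t1
  have T2 : E t * E t = 1 := by rw [← map_mul, (mk15 t (mk63 t ht)).2.2, map_one]
  have TK := S.ZK ht
  obtain ⟨d', t', hd', ht', t1', tu', hz'⟩ := S.moves H (fun e => hg (inv_mem_iff.1 e))
    (cj_ne g T1) (cj_sq g T2) (by simpa [mul_assoc] using TK) (S.cent' u1 u2 uK tu.symm)
  have c1 : Commute (g * E t' * g⁻¹) (E t) := by
    simpa [mul_assoc] using cj_comm' g tu'.symm
  have c2 : ∀ {a}, Commute (g * E a * g⁻¹) u := fun {a} => by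
    simpa [mul_assoc] using cj_comm' g (memK.1 uK (e a))
  have e1 : g * E t' * g⁻¹ = u := S.four (H _ hg) (cj_ne' g (S.E_ne t1'))
    (cj_sq' g (by rw [← map_mul, (mk15 _ (mk63 _ ht')).2.2, map_one]))
    (by simpa [mul_assoc] using S.ZK ht') (S.cent T1 T2 TK c1) u1 u2 uK uN c2
  obtain ⟨n, hn⟩ : ∃ n, n = g * E d' * g⁻¹ * E d := ⟨_, rfl⟩
  have e2 : g * E d' * g⁻¹ * E t * (g * E d' * g⁻¹)⁻¹ = u * E t := by
    rw [← e1, show g * E d' * g⁻¹ * E t * (g * E d' * g⁻¹)⁻¹ =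
      g * (E d' * (g⁻¹ * E t * g) * (E d')⁻¹) * g⁻¹ by group, hz']
    group
  have n1 : n * u * n⁻¹ = E t := by
    calc _ = g * E d' * g⁻¹ * (E d * u * (E d)⁻¹) * (g * E d' * g⁻¹)⁻¹ := by rw [hn]; group
      _ = g * E d' * g⁻¹ * E t * (g * E d' * g⁻¹)⁻¹ * (g * E d' * g⁻¹ * u * (g * E d' * g⁻¹)⁻¹) := by
        rw [hz]; group
      _ = _ := by rw [e2, mul_inv_eq_iff_eq_mul.2 (c2 (a := d')).eq, tu.eq, mul_assoc, u2, mul_one]
  have hN : ∀ {x}, Commute x u → n * x * n⁻¹ ∈ NN ι ∧ Commute (n * x * n⁻¹) (E t) := fun hx =>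
    ⟨S.cent T1 T2 TK (n1 ▸ cj_comm' n hx), n1 ▸ cj_comm' n hx⟩
  have yI : n * E v * n⁻¹ ∈ II ι := by
    rw [← hv, conjugate_commutatorElement]
    refine S.inn (S.N1_comm (hN pu).1 (hN qu).1) fun a ha => ?_
    obtain ⟨k, hk, x⟩ := S.actZ (hN pu).1
    obtain ⟨k', hk', y⟩ := S.actZ (hN qu).1
    have key : ∀ k ∈ Θ, ∀ k' ∈ Θ, ∀ t, Mk 63 t → t ≠ 1 → ps k t = t → ps k' t = t → ∀ a, Mk 63 a →
        ∃ b, Mk 63 b ∧ Mk 63 (ps k b) ∧ Mk 63 (ps k' b) ∧ ps k' (ps k b) = a ∧ ps k (ps k' b) = a := by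
      decide +kernel
    obtain ⟨b, b1, b2, b3, b4, b5⟩ := key k hk k' hk' t ht t1
      ((x t ht).uniq S.Einj (R_self.2 (hN pu).2)) ((y t ht).uniq S.Einj (R_self.2 (hN qu).2)) a ha
    refine R_self.1 ?_
    rw [commutatorElement_def, mul_assoc, ← mul_inv_rev]
    exact (((x _ b3).comp (y _ b1)).cast rfl b5).comp (((y _ b2).comp (x _ b1)).cast rfl b4).symm
  have e3 : n * E v * n⁻¹ * E t = n * E w * u * (n * E w)⁻¹ := by
    rw [← n1, show n * E w * u * (n * E w)⁻¹ = n * (E w * u * (E w)⁻¹) * n⁻¹ by group, hw]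
    group
  have sK : (n * E w * g)⁻¹ * (n * E v * n⁻¹ * E t) * (n * E w * g) ∈ KK ι := by
    rw [e3]
    convert uK using 1
    group
  have gN : n * E w * g ∈ NN ι := by
    by_contra hh
    exact H _ hh _ (e3 ▸ cj_ne' _ u1) (e3 ▸ cj_sq' _ u2) sK (mul_mem yI (KI TK))
  have yK : n * E v * n⁻¹ ∈ KK ι := by
    have := nK gN sK
    rw [show ∀ a b : G, a * (a⁻¹ * b * a) * a⁻¹ = b by intros; group] at this
    exact (mul_mem_cancel_right TK).1 this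
  have g2 : n * g ∈ NN ι := S.tight T1 T2 TK (by
    rw [← n1]
    convert uK using 1
    group)
  refine H g hg (E v) (S.E_ne v1) (by rw [← map_mul, v2, map_one]) ?_ (LI ι _)
  convert nK' g2 yK using 1
  group

theorem notH0' (H : H0 ι) {g u : G} (hg : g ∉ NN ι) (u1 : u ≠ 1) (u2 : u * u = 1)
    (uK : g⁻¹ * u * g ∈ KK ι) (uN : u ∈ NN ι) (uJ : u ∈ NJ E) : False := by
  obtain ⟨y, k, hk, m, hm, hL, rfl, a, hH, -⟩ := S.decJ uN uJ
  have b : ∀ v, R E (E y * m) v (y * ps k v * y⁻¹) := (ac_e y).comp a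
  obtain ⟨d, t, hd, ht, t1, -, hz⟩ := S.moves H hg u1 u2 uK uN
  have nz : d * (y * ps k d⁻¹ * y⁻¹) ≠ 1 := fun q => t1 (S.Einj (by
    rw [← mul_inv_eq_iff_eq_mul, mul_assoc, mul_assoc, ← mul_assoc (E y * m), ← map_inv, b,
      ← map_mul, q] at hz
    exact hz.symm))
  have sq : ∀ v, y * ps k (y * ps k v * y⁻¹) * y⁻¹ = v := fun v => R_sq S.Einj u2 (b _) (b _)
  by_cases hs : k < 36
  · have key : ∀ k < 36, Lk k → ∀ y,
        (∀ t ∈ [1, 2, 4, 8], y * ps k (y * ps k (c t) * y⁻¹) * y⁻¹ = c t) →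
        (∀ d, Mk 63 d → d * (y * ps k d⁻¹ * y⁻¹) = 1) ∨ ∃ p, Mk 12 p ∧ y * ps k p * y⁻¹ = p ∧
          ∃ q, Mk 3 q ∧ y * ps k q * y⁻¹ = q ∧ p * q * p⁻¹ * q⁻¹ ≠ 1 ∧ Mk 15 (p * q * p⁻¹ * q⁻¹) ∧
            ∃ w, Mk 15 w ∧ w * (y * ps k w⁻¹ * y⁻¹) = p * q * p⁻¹ * q⁻¹ := by decide +kernel
    obtain ⟨p, -, p2, q, -, q2, v1, v2, w, -, hw⟩ :=
      (key k hs hL y fun t _ => sq _).resolve_left fun q => nz (q d hd)
    exact S.keyA H hg u1 u2 uK uN (R_self.1 ((b p).cast rfl p2)).symm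
      (R_self.1 ((b q).cast rfl q2)).symm (by simp [commutatorElement_def]) v1
      (mk15 _ v2).2.2 (w := w) (by rw [← hw, map_mul, ← b w⁻¹, map_inv]; group)
  · have m2 : Commute (m * m) (ι h) := by
      refine mul_inv_eq_iff_eq_mul.1 ?_
      rw [show m * m * ι h * (m * m)⁻¹ = m * (m * ι h * m⁻¹) * m⁻¹ by group]
      rcases hH with q | q <;> rw [q]
      · exact q
      · rw [← conj_inv, q, inv_inv]
    have e1 : E (y * ps k y) = (m * m)⁻¹ := eq_inv_of_mul_eq_one_left (by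
      rw [map_mul, ← a y, ← u2]; group)
    have e2 : ps 4 (y * ps k y) = y * ps k y :=
      (R_map (S.ah _)).uniq S.Einj (R_self.2 (e1 ▸ m2.symm.inv_right))
    have key : ∀ k < 72, ¬ k < 36 → Lk k → ∀ y, ps 4 (y * ps k y) = y * ps k y →
        (∀ t ∈ [1, 2, 4, 8], y * ps k (y * ps k (c t) * y⁻¹) * y⁻¹ = c t) →
        (∀ d, Mk 63 d → d * (y * ps k d⁻¹ * y⁻¹) = 1) ∨ (ps k (ps 4 (c 1)) ≠ ps 8 (ps k (c 1)) ∧
          ps k (c 16) = c 16 ∧ (∃ w, w * ps k w⁻¹ = c 32) ∧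
          ∃ x, Mk 63 (x⁻¹ * y * ps k x)) := by decide +kernel
    obtain ⟨k1, k2, ⟨w, hw⟩, x, hx⟩ :=
      (key k hk hs hL y e2 fun t _ => sq _).resolve_left fun q => nz (q d hd)
    have hH' : Commute (ι h) m := by
      refine (mul_inv_eq_iff_eq_mul.1 (hH.resolve_right fun q => k1 ?_)).symm
      have i : Ac E (ι h)⁻¹ (ps 8) := Ac.inv (fun v => R_map (S.ah v)) (by decide +kernel)
      refine ((a _).comp (R_map (S.ah _))).uniq S.Einj ?_
      rw [mul_inv_eq_iff_eq_mul.1 q]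
      exact (i _).comp (a _)
    have e3 : (E x)⁻¹ * (E y * m) * E x = E (x⁻¹ * y * ps k x) * m := by
      rw [map_mul, map_mul, map_inv, ← a x]; group
    have a' : Ac E (E (x⁻¹ * y * ps k x) * m) (ps k) := ((ac_e _).comp a).congr fun v => by
      rw [← comm15 _ (mk63 _ hx), mul_inv_cancel_right]
    refine S.keyA H (g := (E x)⁻¹ * g) (u := E (x⁻¹ * y * ps k x) * m)
      (fun q => hg ((mul_mem_cancel_left (inv_mem (LN ι _))).1 q)) (e3 ▸ cj_ne _ u1) (e3 ▸ cj_sq _ u2)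
      (by rw [← e3]; convert uK using 1; group) (mul_mem (LN ι _) hm)
      ((memK.1 (S.ZK hx) h).mul_right hH') (R_self.1 ((a' _).cast rfl k2)).symm
      (v := c 32) ?_ (by decide +kernel) (by decide +kernel) (w := w)
      (by rw [← hw, map_mul _ w, ← a' w⁻¹, map_inv]; group)
    rw [commutatorElement_def, R_map (S.ah (c 16)), ← map_inv, ← map_mul]
    exact congrArg _ (by decide +kernel)

theorem N_ne_top [IsSimpleGroup G] : NN ι ≠ ⊤ := fun q => by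
  rcases (normalizer_eq_top_iff.1 q).eq_bot_or_eq_top with q | q
  · exact S.E_ne (v := c 1) (by decide +kernel) (q.le ⟨_, rfl⟩)
  · have : (zpowers (E (c 64))).Normal := normal_of_le_center' (zpowers_le.2 (mem_center_iff.2
      fun g => by
        obtain ⟨p, rfl⟩ := q.ge (mem_top g)
        exact (memK.1 (S.ZK (by decide +kernel)) p).eq))
    rcases this.eq_bot_or_eq_top with r | r
    · exact S.E_ne (v := c 64) (by decide +kernel) (r.le (mem_zpowers _))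
    · obtain ⟨i, hi⟩ := r.ge (mem_top (E (c 1)))
      obtain ⟨j, hj⟩ := r.ge (mem_top (E (c 4)))
      have : E (c 1 * c 4) = E (c 4 * c 1) := by
        rw [map_mul, map_mul, ← hi, ← hj]
        exact (Commute.zpow_zpow_self _ i j).eq
      exact absurd (S.Einj this) (by decide +kernel)
where
  normal_of_le_center' {G : Type _} [Group G] {H : Subgroup G} (h : H ≤ center G) : H.Normal :=
    ⟨fun n hn g => by rwa [mem_center_iff.1 (h hn) g, mul_inv_cancel_right]⟩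

theorem notH0 [IsSimpleGroup G] : ¬ H0 ι := fun H => by
  have o : ∀ v : V, v ≠ 1 → v * v = 1 → orderOf (E v) = 2 := fun v h1 h2 =>
    H10.orderOf_eq_two_of (by rw [← map_mul, h2, map_one]) (S.E_ne h1)
  have z := S.ZK (d := c 64) (by decide +kernel)
  have hN := S.std.2.2.2
  rcases S1911.result (KK ι) S.std.2.1 (fun g hg => H10.odd_card_iff.2 fun u hu u2 => by
    rw [← hN] at hg hu
    obtain ⟨l, hl⟩ := S.conjN (T2.of_sq (H10.mul_self_of_orderOf_two u2)).pg (zpowers_le.2 hu.2)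
    refine S.notH0' H (g := ι l * g) (fun e => hg ((mul_mem_cancel_left (LN ι l)).1 e))
      (cj_ne' _ (H10.ne_one_of_orderOf_two u2)) (cj_sq' _ (H10.mul_self_of_orderOf_two u2)) ?_
      (mul_mem (mul_mem (LN ι l) hu.2) (inv_mem (LN ι l))) (hl u (mem_zpowers u))
    convert H10.mem_map_conj.1 hu.1 using 1
    group) with q | q
  · exact S.N_ne_top (hN.trans (normalizer_eq_top_iff.2 q))
  · have top : normalClosure (KK ι : Set G) = ⊤ :=
      (normalClosure_normal.eq_bot_or_eq_top).resolve_left fun r =>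
        S.E_ne (v := c 64) (by decide +kernel) (r.le (subset_normalClosure z))
    obtain ⟨g, hg⟩ := isConj_iff.1 (H10.SE.isConj_involutions q
      (a := ⟨E (c 64), top.ge (mem_top _)⟩) (b := ⟨E (c 16), top.ge (mem_top _)⟩)
      ((orderOf_coe _).symm.trans (o _ (by decide +kernel) (by decide +kernel)))
      ((orderOf_coe _).symm.trans (o _ (by decide +kernel) (by decide +kernel))))
    have hg' : g.1 * E (c 64) * g.1⁻¹ = E (c 16) := congrArg Subtype.val hg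
    refine H g.1 (fun r => absurd (S.EK (hg' ▸ nK r z)) (by decide +kernel)) (E (c 16))
      (S.E_ne (by decide +kernel)) (by rw [← map_mul, show c 16 * c 16 = 1 by decide +kernel, map_one])
      (by rw [← hg']; simpa [mul_assoc] using z) (LI ι _)

end Su

end Cfsg.Agent.H20.HE
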