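import Cfsg.Agent.H20.HE4

/-! A standard subgroup `L = 2²·L₃(4)`: `Z(L)` is Sylow in `C(L)` and fused into `L`. -/

set_option autoImplicit false
set_option synthInstance.maxSize 4096
set_option linter.unusedSectionVars false

namespace Cfsg.Agent.H20.HE

open Cfsg Subgroup H8
open scoped commutatorElement Pointwise

variable {X G : Type*} [Group X] [Group G]

theorem Kg_mul {H : Subgroup G} {g x y : G} (hx : g⁻¹ * x * g ∈ H) (hy : g⁻¹ * y * g ∈ H) :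
    g⁻¹ * (x * y) * g ∈ H := by
  convert mul_mem hx hy using 1
  group

theorem Kg_conj {ι : X →* G} {g x u : G} (hx : g⁻¹ * x * g ∈ NN ι) (hu : g⁻¹ * u * g ∈ KK ι) :
    g⁻¹ * (x * u * x⁻¹) * g ∈ KK ι := by
  convert nK hx hu using 1
  group

theorem sq63 {F : V →* G} {d : V} (hd : Mk 15 d) : F d * F d = 1 := by
  rw [← map_mul, (mk15 d hd).2.2, map_one]

theorem KE {ι : X →* G} {e : V →* X} {k : G} (hk : k ∈ KK ι) (v : V) : Commute (ι.comp e v) k :=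
  memK.1 hk (e v)

namespace Su

variable [Finite G] {ι : X →* G} {e : V →* X} {h l₁ l₂ : X} (S : Su ι e h l₁ l₂)
include S

local notation "E" => MonoidHom.comp ι e

theorem trick {g k : G} (hJ : ∀ v, g⁻¹ * E v * g ∈ NN ι) {m : ℕ} {sw : V → V} {l : X}
    (a : ∀ v, Mk m v → R e l v (sw v)) {y j u t t' : V} (hk : k ∈ KK ι) (x1 : E y * k ≠ 1)
    (x2 : E y * k * (E y * k) = 1) (xK : g⁻¹ * (E y * k) * g ∈ KK ι) (h1 : Mk m (j * y * j⁻¹))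
    (h2 : Mk 15 (sw (j * y * j⁻¹))) (ht : g⁻¹ * E t * g ∈ KK ι) (h3 : Mk m t) (h4 : Mk m t')
    (h5 : sw t' = u * sw t * u⁻¹) : g⁻¹ * E t' * g ∈ KK ι := by
  have c1 : Commute ((ι l)⁻¹ * E u * ι l) (E j * (E y * k) * (E j)⁻¹) := by
    rw [show E j * (E y * k) * (E j)⁻¹ = E j * E y * (E j)⁻¹ * (E j * k * (E j)⁻¹) by group,
      mul_inv_eq_iff_eq_mul.2 (KE hk j).eq, R.of_e j y]
    refine Commute.mul_right (R_self.1 ?_) (by simpa using memK.1 hk (l⁻¹ * e u * l))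
    have q := R_map (ι := ι) (a _ h1)
    exact q.symm.comp (((R.of_e u _).cast rfl (by rw [comm15 _ h2, mul_inv_cancel_right])).comp q)
      |>.cast rfl rfl |> fun r => by simpa [mul_assoc] using r
  have := Kg_conj (S.cent' (cj_ne' _ x1) (cj_sq' _ x2) (Kg_conj (hJ j) xK) c1) ht
  have q : R E ((ι l)⁻¹ * (E u * ι l)) t t' :=
    (R_map (a _ h4)).symm.comp (((R.of_e u _).cast rfl h5.symm).comp (R_map (a _ h3)))
  rwa [mul_assoc _ (E u), q] at this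

theorem B2 {g x : G} (hg : g ∉ NN ι) (hJ : ∀ v, g⁻¹ * E v * g ∈ NN ι) (xN : x ∈ NN ι)
    (xJ : x ∈ NJ E) (x2 : T2 x) (xK : g⁻¹ * x * g ∈ KK ι) :
    ∃ w, Mk 15 w ∧ ∃ k ∈ KK ι, x = E w * k := by
  obtain ⟨y, k, hk, m, -, hL, rfl, a, -, -, h0⟩ := S.decJ xN xJ
  have b : ∀ v, R E (E y * m) v (y * ps k v * y⁻¹) := (ac_e y).comp a
  have Y0 : ∀ {d}, g⁻¹ * E d * g ∈ KK ι → Mk 63 d → d = 1 := fun h1 h2 =>
    S.Einj ((S.tight2 (T2.e E _) (S.ZK h2) h1 hg).trans (map_one E).symm)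
  have Yc : ∀ u {t}, g⁻¹ * E t * g ∈ KK ι → g⁻¹ * E (u * t * u⁻¹ * t⁻¹) * g ∈ KK ι := fun u t q => by
    simpa only [map_mul, map_inv] using Kg_comm (hJ u) q
  have Yf : ∀ v, g⁻¹ * E (v * (y * ps k v * y⁻¹)⁻¹) * g ∈ KK ι := fun v => by
    have := Kg_comm (hJ v) xK
    rwa [show E v * (E y * m) * (E v)⁻¹ * (E y * m)⁻¹ = E v * (E y * m * E v * (E y * m)⁻¹)⁻¹ by group,
      b, ← map_inv, ← map_mul] at this
  have key : ∀ k < 72, Lk k → k = 0 ∨ ∃ v ∈ [1, 5, 64, 128], ∃ u < 16, ∀ y t,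
      t = c v * (y * ps k (c v) * y⁻¹)⁻¹ → (Mk 63 t ∧ t ≠ 1) ∨
        (Mk 63 (c u * t * (c u)⁻¹ * t⁻¹) ∧ c u * t * (c u)⁻¹ * t⁻¹ ≠ 1) := by
    simp only [forall_eq]
    decide +kernel
  rcases key k hk hL with rfl | ⟨v, -, u, -, q⟩
  swap
  · rcases q y _ rfl with q | q
    · exact absurd (Y0 (Yf _) q.1) q.2
    · exact absurd (Y0 (Yc _ (Yf _)) q.1) q.2
  have hm := h0 rfl
  simp only [ps_zero, mul_inv_rev, inv_inv, ← mul_assoc] at Yf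
  refine ⟨y, ?_, m, hm, rfl⟩
  by_contra hy
  have k2 : ∀ y, ¬ Mk 15 y → (∃ u < 16, Mk 63 (c u * y * (c u)⁻¹ * y⁻¹) ∧ c u * y * (c u)⁻¹ * y⁻¹ ≠ 1) ∨
      (y * y = 1 ∧ ∃ m ∈ [(12, sw1, 4), (3, sw2, 1)], (∃ j < 16, Mk m.1 (c j * y * (c j)⁻¹) ∧
        Mk 15 (m.2.1 (c j * y * (c j)⁻¹))) ∧ ∀ t, t = c m.2.2 * y * (c m.2.2)⁻¹ * y⁻¹ → Mk m.1 t ∧
        ∃ u < 4, ∀ t', t' = m.2.1 (c (u * m.2.2) * m.2.1 t * (c (u * m.2.2))⁻¹) → Mk m.1 t' ∧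
          m.2.1 t' = c (u * m.2.2) * m.2.1 t * (c (u * m.2.2))⁻¹ ∧ ∃ p < 4, ∃ q < 4, ∀ d,
          d = c (p * m.2.2) * t' * (c (p * m.2.2))⁻¹ * t'⁻¹ *
            (c (q * m.2.2) * y * (c (q * m.2.2))⁻¹ * y⁻¹) → Mk 63 d ∧ d ≠ 1) := by
    simp only [forall_eq]
    decide +kernel
  rcases k2 y hy with ⟨u, -, q⟩ | ⟨yy, μ, hμ, ⟨j, -, j1, j2⟩, q⟩
  · exact q.2 (Y0 (Yf _) q.1)
  obtain ⟨t1, u, -, q⟩ := q _ rfl
  obtain ⟨t2, t3, p, -, r, -, q⟩ := q _ rfl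
  have a : ∃ l, ∀ v, Mk μ.1 v → R e l v (μ.2.1 v) := by
    simp only [List.mem_cons, List.not_mem_nil, or_false] at hμ
    rcases hμ with rfl | rfl
    exacts [⟨_, S.a1⟩, ⟨_, S.a2⟩]
  have e1 : E y * m * (E y * m) = m * m := by
    rw [(KE hm y).symm.mul_mul_mul_comm, ← map_mul, yy, map_one, one_mul]
  have := S.trick hJ a.choose_spec hm
    (fun e => hy (mk63 _ (S.EK (eq_inv_of_mul_eq_one_left e ▸ inv_mem hm))))
    (S.tight2 (x2.mul x2 rfl) (e1 ▸ mul_mem hm hm) (Kg_mul xK xK) hg) xK j1 j2 (Yf _) t1 t2 t3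
  exact (q _ rfl).2 (Y0 (by rw [map_mul]; exact Kg_mul (Yc _ this) (Yf _)) (q _ rfl).1)

theorem B3 {g : G} (hg : g ∉ NN ι) (hJ : ∀ v, g⁻¹ * E v * g ∈ NN ι)
    (hZ : ∀ d, Mk 63 d → g * E d * g⁻¹ ∈ NN ι) :
    (∀ d, Mk 63 d → ∃ w, Mk 15 w ∧ ∃ k ∈ KK ι, g * E d * g⁻¹ = E w * k) ∧
      ∀ x ∈ KK ι, T2 x → g * x * g⁻¹ ∈ NN ι → ∃ d, Mk 63 d ∧ E d = x := by
  obtain ⟨P, hP, hE⟩ := exists_isSylowIn_ge (H := NN ι ⊓ MulAut.conj g • NN ι) (pgE E) (by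
    rintro _ ⟨v, rfl⟩
    exact ⟨LN ι _, mem_conj_smul.2 (hJ v)⟩)
  have form : ∀ {x}, x ∈ KK ι → g * x * g⁻¹ ∈ P → ∃ w, Mk 15 w ∧ ∃ k ∈ KK ι, g * x * g⁻¹ = E w * k :=
    fun hx h1 => S.B2 hg hJ (hP.le h1).1 (S.syl_norm hP.isPGroup (hP.le.trans inf_le_left) hE h1)
      (T2.of_mem hP.isPGroup h1) (by simpa [mul_assoc] using hx)
  have cjP : ∀ Q : Subgroup G, IsPGroup 2 Q → Q ≤ KK ι → (∀ x ∈ Q, g * x * g⁻¹ ∈ NN ι) →
      ∃ n ∈ NN ι, ∀ x ∈ Q, g * (n * x * n⁻¹) * g⁻¹ ∈ P := fun Q h1 h2 h3 => by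
    obtain ⟨n, hn, q⟩ := hP.exists_conj_le (isPGroup_conj_smul h1 g) fun x hx =>
      ⟨by simpa [mul_assoc] using h3 _ (mem_conj_smul.1 hx),
        mem_conj_smul.2 (KN (h2 (mem_conj_smul.1 hx)))⟩
    refine ⟨_, mem_conj_smul.1 hn.2, fun x hx => ?_⟩
    convert q (conj_mem_conj_smul.2 (conj_mem_conj_smul.2 hx)) using 1
    group
  have zd : ∀ {n}, n ∈ NN ι → ∀ d, Mk 63 d → ∃ d', Mk 63 d' ∧ R E n d' d := fun hn d hd => by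
    obtain ⟨x, hx⟩ := N_ex (inv_mem hn) (e d)
    obtain ⟨d', h1, rfl⟩ := S.LK (hx ▸ nK (inv_mem hn) (S.ZK hd))
    exact ⟨d', h1, by simpa using R.symm (show R E _ d d' from hx)⟩
  have hZP : ∀ d, Mk 63 d → ∃ w, Mk 15 w ∧ ∃ k ∈ KK ι, g * E d * g⁻¹ = E w * k := fun d hd => by
    obtain ⟨n, hn, q⟩ := cjP ((sub 63).map E) ((pgE E).to_le (map_le_range _ _))
      (by rintro _ ⟨d, hd, rfl⟩; exact S.ZK hd) (by rintro _ ⟨d, hd, rfl⟩; exact hZ d hd)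
    obtain ⟨d', h1, h2⟩ := zd hn d hd
    exact form (S.ZK hd) (h2 ▸ q _ ⟨d', h1, rfl⟩)
  refine ⟨hZP, fun x hx x2 xN => ?_⟩
  obtain ⟨n, hn, q⟩ := cjP _ x2.pg (zpowers_le.2 hx) fun y hy => by
    obtain ⟨i, rfl⟩ := hy
    simpa using zpow_mem xN i
  have hx' := nK hn hx
  obtain ⟨w, hw, k, hk, hw'⟩ := form hx' (q x (mem_zpowers x))
  have fin : ∀ d u k', Mk 63 d → k' ∈ KK ι → g * E d * g⁻¹ = E u * k' → Mk 63 (u * w) →
      ∃ d, Mk 63 d ∧ E d = x := fun d u k' d1 d2 d3 d4 => by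
    have c1 : Commute (E d) (n * x * n⁻¹) := KE hx' d
    have : g * (E d * (n * x * n⁻¹)) * g⁻¹ = 1 := S.tight2
      (((T2.e E d).mul (x2.conj n) c1).conj g) (by
        rw [show g * (E d * (n * x * n⁻¹)) * g⁻¹ = g * E d * g⁻¹ * (g * (n * x * n⁻¹) * g⁻¹) by group,
          d3, hw', (KE d2 w).symm.mul_mul_mul_comm, ← map_mul]
        exact mul_mem (S.ZK d4) (mul_mem d2 hk))
      (by simpa [mul_assoc] using mul_mem (S.ZK d1) hx') hg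
    obtain ⟨d', h1, h2⟩ := zd hn d⁻¹ d1.inv
    refine ⟨d', h1, mul_left_cancel (a := n) (mul_right_cancel (b := n⁻¹) (h2.trans ?_))⟩
    rw [map_inv]
    exact inv_eq_of_mul_eq_one_right (by simpa using this)
  obtain ⟨w1, a1, k1, b1, c1⟩ := hZP (c 64) (by decide +kernel)
  obtain ⟨w2, a2, k2, b2, c2⟩ := hZP (c 128) (by decide +kernel)
  have c3 : g * E (c 64 * c 128) * g⁻¹ = E (w1 * w2) * (k1 * k2) := by
    rw [map_mul, map_mul, ← (KE b1 w2).symm.mul_mul_mul_comm, ← c1, ← c2]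
    group
  have nz : ∀ {d u k'}, Mk 63 d → d ≠ 1 → k' ∈ KK ι → g * E d * g⁻¹ = E u * k' → ¬ Mk 63 u :=
    fun d1 d2 d3 d4 d5 => hg (inv_mem_iff.1 (S.tight (S.E_ne d2) (sq63 (mk63 _ d1)) (S.ZK d1)
      (by rw [inv_inv, d4]; exact mul_mem (S.ZK d5) d3)))
  have key : ∀ u, Mk 15 u → ¬ Mk 63 u → ∀ u', Mk 15 u' → ¬ Mk 63 u' → ¬ Mk 63 (u * u') → ∀ w, Mk 15 w →
      Mk 63 (1 * w) ∨ Mk 63 (u * w) ∨ Mk 63 (u' * w) ∨ Mk 63 (u * u' * w) := by decide +kernel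
  rcases key _ a1 (nz (by decide +kernel) (by decide +kernel) b1 c1) _ a2
    (nz (by decide +kernel) (by decide +kernel) b2 c2)
    (nz (by decide +kernel) (by decide +kernel) (mul_mem b1 b2) c3) w hw with r | r | r | r
  · exact fin 1 1 1 (mk_one _) (one_mem _) (by simp) r
  · exact fin _ _ _ (by decide +kernel) b1 c1 r
  · exact fin _ _ _ (by decide +kernel) b2 c2 r
  · exact fin _ _ _ (by decide +kernel) (mul_mem b1 b2) c3 r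

theorem B1 {g : G} (hg : g ∉ NN ι) (H : ¬ H1 ι g) : ∃ l v, Mk 15 v ∧ ¬ Mk 63 v ∧ ∃ k ∈ KK ι,
    k * k = 1 ∧ (ι l * g)⁻¹ * (E v * k) * (ι l * g) ∈ KK ι := by
  simp only [H1, not_forall, not_not] at H
  obtain ⟨_, s1, s2, sK, l, k, hk, rfl⟩ := H
  have e1 : ι (l * l) = (k * k)⁻¹ := eq_inv_of_mul_eq_one_left (by
    rw [map_mul, ← (memK.1 hk l).symm.mul_mul_mul_comm, s2])
  obtain ⟨d, d1, d2⟩ := S.LK (e1 ▸ inv_mem (mul_mem hk hk))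
  have l2 : T2 (ι l) := ⟨2, by
    rw [show (2 : ℕ) ^ 2 = 2 * 2 from rfl, pow_mul, sq, sq, ← map_mul, ← d2]
    exact sq63 (mk63 _ d1) (F := ι.comp e)⟩
  obtain ⟨p, hp, q⟩ := S.sylL.exists_conj_le l2.pg (zpowers_le.2 ⟨l, rfl⟩)
  obtain ⟨p, rfl⟩ := hp
  obtain ⟨v, hv⟩ := q (conj_mem_conj_smul.2 (mem_zpowers _))
  have vK : ∀ {d}, E d ∈ KK ι → ι p * E d * (ι p)⁻¹ ∈ KK ι := nK (LN ι p)
  obtain ⟨r, w, w1, w2, w3⟩ := S.toZ (v := v) (S.EK (by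
    rw [map_mul, hv, show ι p * ι l * (ι p)⁻¹ * (ι p * ι l * (ι p)⁻¹) = ι p * (ι l * ι l) * (ι p)⁻¹ by group,
      ← map_mul, ← d2]
    exact vK (S.ZK d1))) fun hv' => s1 (S.tight2 (T2.of_sq s2) (mul_mem (by
      simpa [hv, mul_assoc] using nK' (LN ι p) (S.ZK hv')) hk) sK hg)
  have e2 : E w * k = ι (r * p) * (ι l * k) * (ι (r * p))⁻¹ := by
    rw [← R_map w3, hv]
    nth_rw 1 [← mul_inv_eq_iff_eq_mul.2 (memK.1 hk (r * p)).eq]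
    rw [map_mul]
    group
  refine ⟨r * p, w, w1, w2, k, hk, ?_, by rw [e2]; simpa [mul_assoc] using sK⟩
  have := cj_sq' (ι (r * p)) s2
  rwa [← e2, (KE hk w).symm.mul_mul_mul_comm, sq63 w1, one_mul] at this

theorem nH {g : G} (q : ∀ d, Mk 63 d → g * E d * g⁻¹ ∈ NN ι) : ¬ H1 ι g := fun H =>
  absurd (S.Einj (mul_left_cancel (mul_right_cancel (S.four H
    (cj_ne' g (S.E_ne (v := c 64) (by decide +kernel))) (cj_sq' g (sq63 (by decide +kernel)))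
    (by simpa [mul_assoc] using S.ZK (by decide +kernel)) (q _ (by decide +kernel))
    (cj_ne' g (S.E_ne (v := c 128) (by decide +kernel))) (cj_sq' g (sq63 (by decide +kernel)))
    (by simpa [mul_assoc] using S.ZK (by decide +kernel)) (q _ (by decide +kernel))
    (cj_comm' g (Commute.map (show c 64 * c 128 = c 128 * c 64 by decide +kernel) E))))))
    (by decide +kernel)

theorem B4 {g : G} (hg : g ∉ NN ι) (H : ¬ H1 ι g) : (∀ x ∈ KK ι, T2 x → ∃ d, Mk 63 d ∧ E d = x) ∧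
    ∃ l, ∀ d, Mk 63 d → ∃ w, Mk 15 w ∧ R E (ι l * g) d w := by
  have main : ∀ {g}, g ∉ NN ι → ¬ H1 ι g → ∃ l, ι l * g ∉ NN ι ∧ ∃ s, s ≠ 1 ∧ s * s = 1 ∧
      (ι l * g)⁻¹ * s * (ι l * g) ∈ KK ι ∧ (∀ v, Commute (E v) s) ∧
      ∃ v, ∃ k ∈ KK ι, k * k = 1 ∧ s = E v * k := fun hg H => by
    obtain ⟨l, v, v1, v2, k, hk, kk, q⟩ := S.B1 hg H
    refine ⟨l, fun e => hg ((mul_mem_cancel_left (LN ι l)).1 e), _,
      fun r => v2 (S.EK (by rw [eq_inv_of_mul_eq_one_left r]; exact inv_mem hk)), ?_, q,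
      fun u => (Commute.map (comm15 v v1 u) E).mul_right (KE hk u), v, k, hk, kk, rfl⟩
    rw [(KE hk v).symm.mul_mul_mul_comm, sq63 v1, kk, one_mul]
  obtain ⟨l, hg, s, s1, s2, sK, sJ, v, k, hk, kk, hs⟩ := main hg H
  refine (fun q : _ ∧ _ => ⟨q.1, l, q.2⟩) ?_
  generalize ι l * g = g at *
  have hJ := fun v => S.cent' s1 s2 sK (sJ v)
  obtain ⟨l', hg', s', s1', s2', sK', sJ', v', k', hk', kk', hs'⟩ :=
    main (g := g⁻¹) (fun e => hg (inv_mem_iff.1 e)) (S.nH fun d _ => by simpa using hJ d)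
  have cj : ∀ {x}, g⁻¹ * x * g ∈ NN ι → ι l' * g⁻¹ * x * (ι l' * g⁻¹)⁻¹ ∈ NN ι := fun hx => by
    simpa [mul_assoc] using mul_mem (mul_mem (LN ι l') hx) (inv_mem (LN ι l'))
  have B := (S.B3 hg' (fun v => S.cent' s1' s2' sK' (sJ' v)) fun d _ => cj (hJ d)).2
  obtain ⟨d, d1, rfl⟩ := B k hk (T2.of_sq kk) (cj (S.cent' s1 s2 sK (by
    rw [hs]; exact (KE hk v).symm.mul_right rfl)))
  have K2 : ∀ x ∈ KK ι, T2 x → ∃ d, Mk 63 d ∧ E d = x := fun x hx x2 => B x hx x2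
    (cj (S.cent' s1 s2 sK (by rw [hs, ← map_mul]; exact (memK.1 hx _).symm)))
  refine ⟨K2, fun d hd => ?_⟩
  obtain ⟨d', -, rfl⟩ := K2 k' hk' (T2.of_sq kk')
  obtain ⟨w, w1, k, hk, q⟩ := (S.B3 hg hJ fun a ha => by
    have := S.cent' s1' s2' sK' (x := E a) (by rw [hs', ← map_mul]; exact (memK.1 (S.ZK ha) _).symm)
    have r : (ι l' * g⁻¹)⁻¹ * E a * (ι l' * g⁻¹) = g * E a * g⁻¹ := by
      nth_rw 1 [← mul_inv_eq_iff_eq_mul.2 (memK.1 (S.ZK ha) l').eq]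
      group
    rwa [r] at this).1 d hd
  obtain ⟨u, u1, rfl⟩ := K2 k hk (by
    rw [eq_inv_mul_of_mul_eq q.symm]
    refine (T2.e E w).inv.mul ((T2.e E d).conj g) (Commute.inv_left ?_)
    rw [q]
    exact (Commute.refl _).mul_right (memK.1 hk _))
  exact ⟨w * u, w1.mul (mk63 _ u1), q.trans (map_mul _ _ _).symm⟩

end Su

end Cfsg.Agent.H20.HE
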