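import Cfsg.Agent.H20.HE5

/-! A standard subgroup `L = 2²·L₃(4)`: the normalizer of a Sylow 2-subgroup `J` of `L`. -/

set_option autoImplicit false
set_option synthInstance.maxSize 4096
set_option linter.unusedSectionVars false

namespace Cfsg.Agent.H20.HE

open Cfsg Subgroup H8
open scoped commutatorElement Pointwise

variable {X G : Type*} [Group X] [Group G]

theorem R_surj {E : V →* G} (hE : Function.Injective E) {g : G} {P : V → Prop}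
    (h : ∀ v, P v → ∃ w, P w ∧ R E g v w) (w : V) (hw : P w) : ∃ v, P v ∧ R E g v w := by
  choose f f1 f2 using h
  obtain ⟨v, hv⟩ := Finite.injective_iff_surjective.1 (show Function.Injective
    (fun v : {v // P v} => (⟨f v.1 v.2, f1 _ _⟩ : {v // P v})) from fun v u e =>
      Subtype.ext ((f2 _ v.2).uniq' hE ((f2 _ u.2).cast rfl (congrArg Subtype.val e).symm))) ⟨w, hw⟩
  exact ⟨v.1, v.2, (f2 _ v.2).cast rfl (congrArg Subtype.val hv)⟩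

theorem exists_odd_part [Finite G] (x : G) : ∃ a, Odd (orderOf (x ^ 2 ^ a)) := by
  obtain ⟨a, b, hb, e⟩ := Nat.exists_eq_two_pow_mul_odd (orderOf_pos x).ne'
  exact ⟨a, hb.of_dvd_nat (orderOf_dvd_of_pow_eq_one (by rw [← pow_mul, ← e, pow_orderOf_eq_one]))⟩

theorem exists_two_part [Finite G] (x : G) : ∃ m, T2 (x ^ (2 * m + 1)) := by
  obtain ⟨a, b, ⟨m, rfl⟩, e⟩ := Nat.exists_eq_two_pow_mul_odd (orderOf_pos x).ne'
  exact ⟨m, a, by rw [← pow_mul, mul_comm, ← e, pow_orderOf_eq_one]⟩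

theorem mem_of_sq [Finite G] {H : Subgroup G} {x : G} (ho : Odd (orderOf x)) (h : x * x ∈ H) :
    x ∈ H := by
  obtain ⟨m, hm⟩ := ho
  have := pow_mem h (m + 1)
  rwa [← sq, ← pow_mul, show 2 * (m + 1) = orderOf x + 1 by omega, pow_succ, pow_orderOf_eq_one,
    one_mul] at this

/-- The conjugates of the involutions of `Z(L)`. -/
def DD (E : V →* G) (x : G) : Prop := ∃ g d, Mk 63 d ∧ d ≠ 1 ∧ x = g * E d * g⁻¹

theorem DD.conj {E : V →* G} {x : G} (h : DD E x) (g : G) : DD E (g * x * g⁻¹) := by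
  obtain ⟨a, d, h1, h2, rfl⟩ := h
  exact ⟨g * a, d, h1, h2, by group⟩

theorem DD.r {E : V →* G} {g : G} {v w : V} (h : DD E (E v)) (a : R E g v w) : DD E (E w) :=
  a ▸ h.conj g

/-- The trace of `DD` in `J`. -/
def Dm (v : V) : Prop :=
  Nat.testBit (nat_lit 0x1801021004000110020014010800010104100800120001000100010001111e) v.v = true

instance (v : V) : Decidable (Dm v) := by
  unfold Dm
  infer_instance

/-- The elements of odd order of `C(L)`. -/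
def Ods (ι : X →* G) : Set G := {o | o ∈ KK ι ∧ Odd (orderOf o)}

abbrev CO (ι : X →* G) : Subgroup G := centralizer (Ods ι)

theorem L_CO (ι : X →* G) (l : X) : ι l ∈ CO ι := fun _ ho => (memK.1 ho.1 l).eq.symm

structure Sv (ι : X →* G) (e : V →* X) (h l₁ l₂ : X) : Prop extends Su ι e h l₁ l₂ where
  K2 : ∀ x ∈ KK ι, T2 x → ∃ d, Mk 63 d ∧ ι.comp e d = x
  ex : ∃ g ∉ NN ι, ∀ d, Mk 63 d → ∃ w, Mk 15 w ∧ R (ι.comp e) g d w

theorem Su.sv [Finite G] [IsSimpleGroup G] {ι : X →* G} {e : V →* X} {h l₁ l₂ : X}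
    (S : Su ι e h l₁ l₂) : Sv ι e h l₁ l₂ := by
  have := S.notH0
  simp only [H0, not_forall] at this
  obtain ⟨g, hg, H⟩ := this
  obtain ⟨K2, l, hl⟩ := S.B4 hg H
  exact ⟨S, K2, _, fun e => hg ((mul_mem_cancel_left (LN ι l)).1 e), hl⟩

namespace Sv

variable [Finite G] {ι : X →* G} {e : V →* X} {h l₁ l₂ : X} (S : Sv ι e h l₁ l₂)
include S

local notation "E" => MonoidHom.comp ι e

theorem I2 {x : G} (hx : x ∈ II ι) (x2 : T2 x) : ∃ l, ι l = x := by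
  obtain ⟨l, k, hk, rfl⟩ := hx
  obtain ⟨m, hm⟩ := x2
  rw [(memK.1 hk l).mul_pow, ← map_pow] at hm
  obtain ⟨d, -, e1⟩ := S.LK (eq_inv_of_mul_eq_one_left hm ▸ inv_mem (pow_mem hk _))
  obtain ⟨n, hn⟩ := (T2.e E d).inv
  obtain ⟨d', -, rfl⟩ := S.K2 k hk ⟨m + n, by
    rw [pow_add, pow_mul, eq_inv_of_mul_eq_one_right hm, ← e1]; exact hn⟩
  exact ⟨l * e d', map_mul _ _ _⟩

theorem NJ_fix {x : G} (hx : x ∈ NN ι) {v w : V} (v1 : Mk 15 v) (v2 : ¬ Mk 63 v) (w1 : Mk 15 w)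
    (a : R E x v w) : x ∈ NJ E := by
  obtain ⟨l, k, hk, m, -, rfl, b, -⟩ := S.dec hx
  have key : ∀ k ∈ Θ, ∀ v, Mk 15 v → ¬ Mk 63 v → Mk 15 (ps k v) ∧ ¬ Mk 63 (ps k v) := by
    decide +kernel
  obtain ⟨y, i, hi, rfl⟩ := S.fixτ (key k hk v v1 v2).1 (key k hk v v1 v2).2 w1
    (S.R_un (by simpa using a.comp (b v).symm))
  rw [map_mul, map_pow]
  exact mul_mem (mul_mem (E_NJ E y) (S.aH hi).nj) b.nj

theorem CZ {x : G} (hx : ∀ v, Mk 15 v → Commute x (E v)) : ∃ y, ∃ m ∈ KK ι, x = E y * m := by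
  have xN := S.cent (S.E_ne (v := c 64) (by decide +kernel)) (sq63 (by decide +kernel))
    (S.ZK (by decide +kernel)) (hx _ (by decide +kernel))
  obtain ⟨y, k, hk, m, -, -, rfl, a, -, -, h0⟩ := S.decJ xN (S.NJ_fix xN (v := c 16)
    (by decide +kernel) (by decide +kernel) (by decide +kernel) (R_self.2 (hx _ (by decide +kernel))))
  have key : ∀ k < 72, (∀ v, Mk 15 v → Mk 15 (ps k v)) ∧
      ((∀ v, Mk 15 v → ps k v = v) → k = 0) := by decide +kernel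
  refine ⟨y, m, h0 ((key k hk).2 fun v hv => ?_), rfl⟩
  have : y * ps k v * y⁻¹ = v := ((ac_e y).comp a v).uniq S.Einj (R_self.2 (hx v hv))
  rwa [comm15 _ ((key k hk).1 v hv), mul_inv_cancel_right] at this

theorem CZ2 {x : G} (hx : ∀ v, Mk 15 v → Commute x (E v)) (x2 : T2 x) : ∃ y, E y = x := by
  obtain ⟨y, m, hm, rfl⟩ := S.CZ hx
  obtain ⟨d, -, rfl⟩ := S.K2 m hm (by
    simpa using (T2.e E y).inv.mul x2 ((Commute.refl _).mul_right (KE hm y)).inv_left)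
  exact ⟨y * d, map_mul _ _ _⟩

theorem CJ2 {x : G} (hx : ∀ v, Commute x (E v)) (x2 : T2 x) : ∃ y, Mk 15 y ∧ E y = x := by
  obtain ⟨y, rfl⟩ := S.CZ2 (fun v _ => hx v) x2
  exact ⟨y, mk15_of y fun t _ => S.Einj (by rw [map_mul, map_mul, (hx _).eq]), rfl⟩

theorem CJo {x : G} (hx : ∀ v, Commute x (E v)) (xo : Odd (orderOf x)) : x ∈ Ods ι := by
  obtain ⟨y, m, hm, rfl⟩ := S.CZ fun v _ => hx v
  refine ⟨mem_of_sq xo ?_, xo⟩
  rw [(KE hm y).symm.mul_mul_mul_comm, sq63 (mk15_of y fun t _ => S.Einj ?_), one_mul]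
  · exact mul_mem hm hm
  · have := (hx (c t)).eq
    rw [mul_assoc, ← (KE hm _).eq, ← mul_assoc, ← mul_assoc] at this
    rw [map_mul, map_mul, mul_right_cancel this]

theorem NZ {x : G} (hx : ∀ v, Mk 15 v → ∃ w, Mk 15 w ∧ R E x v w) : x ∈ NJ E :=
  NJ_of fun u => (S.CZ2 (fun w hw => by
    obtain ⟨v, hv, a⟩ := R_surj S.Einj hx w hw
    rw [← a]
    exact cj_comm' x (Commute.map (comm15 v hv u) E)) ((T2.e E u).conj x)).imp fun _ => Eq.symm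

theorem NJ_O {n o : G} (hn : n ∈ NJ E) (ho : o ∈ Ods ι) : n * o * n⁻¹ ∈ Ods ι :=
  S.CJo (fun v => by
    obtain ⟨w, hw⟩ := NJ_ex (inv_mem hn) v
    have := cj_comm' n (KE (e := e) ho.1 w).symm
    rwa [← hw, show n * (n⁻¹ * E v * n⁻¹⁻¹) * n⁻¹ = E v by group] at this)
    (by rw [← MulAut.conj_apply, MulEquiv.orderOf_eq]; exact ho.2)

theorem NJ_CO {n x : G} (hn : n ∈ NJ E) (hx : x ∈ CO ι) : n * x * n⁻¹ ∈ CO ι := fun o ho => by
  have := cj_comm' n (show Commute _ x from hx _ (S.NJ_O (inv_mem hn) ho))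
  rwa [show n * (n⁻¹ * o * n⁻¹⁻¹) * n⁻¹ = o by group] at this

theorem toNJ {g : G} (hg : ∀ d, Mk 63 d → ∃ w, Mk 15 w ∧ R E g d w) : ∃ l, g * ι l ∈ NJ E := by
  have c1 : ∀ v d, Mk 63 d → Commute (g⁻¹ * E v * g) (E d) := fun v d hd => by
    obtain ⟨w, w1, w2⟩ := hg d hd
    have := cj_comm g (Commute.map (comm15 w w1 v) E)
    rwa [← w2, show g⁻¹ * (g * E d * g⁻¹) * g = E d by group] at this
  have c2 : ∀ v, g⁻¹ * E v * g ∈ NN ι := fun v => S.cent (S.E_ne (v := c 64) (by decide +kernel))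
    (sq63 (by decide +kernel)) (S.ZK (by decide +kernel)) (c1 v _ (by decide +kernel))
  obtain ⟨l, hl⟩ := S.conjN (isPGroup_conj_smul (pgE E) g⁻¹) fun x hx => by
    obtain ⟨v, hv⟩ := mem_conj_smul.1 hx
    simpa [hv, mul_assoc] using c2 v
  refine ⟨l⁻¹, inv_mem_iff.1 ?_⟩
  obtain ⟨n, hn⟩ : ∃ n, n = (g * ι l⁻¹)⁻¹ := ⟨_, rfl⟩
  rw [← hn]
  have e1 : ∀ v, n * E v * n⁻¹ = ι l * (g⁻¹ * E v * g) * (ι l)⁻¹ := fun v => by
    rw [hn, map_inv]; group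
  have fJ : ∀ v, n * E v * n⁻¹ ∈ NJ E := fun v =>
    e1 v ▸ hl _ (mem_conj_smul.2 ⟨v, by group⟩)
  have fN : ∀ v, n * E v * n⁻¹ ∈ NN ι := fun v =>
    e1 v ▸ mul_mem (mul_mem (LN ι l) (c2 v)) (inv_mem (LN ι l))
  have fm : ∀ u v, n * E (u * v) * n⁻¹ = n * E u * n⁻¹ * (n * E v * n⁻¹) := fun u v => by
    rw [map_mul]; group
  have fP : ∀ {v}, n * E v * n⁻¹ ∈ N1 ι e → ∃ w, R E n v w := fun {v} hv => by
    obtain ⟨x, hx⟩ := S.I2 (S.inn hv fun d hd => by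
      rw [e1]
      exact ((memK.1 (S.ZK hd) l).mul_left (c1 v d hd)).mul_left (memK.1 (S.ZK hd) l).inv_left)
      ((T2.e E v).conj n)
    exact (S.LJ (hx ▸ fJ v) (hx ▸ (T2.e E v).conj n)).imp fun _ q => (q.trans hx).symm
  have fs : ∀ u, n * E (u * u) * n⁻¹ ∈ N1 ι e := fun u => by
    rw [fm]
    by_cases q : n * E u * n⁻¹ ∈ N1 ι e
    exacts [mul_mem q q, S.N1_or (fN u) (fN u) q q]
  have gen : ∀ a b : V, a * b = b * a → b * b = 1 → a * b * (a * b) = 1 → ¬ Mk 15 b →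
      ¬ Mk 15 (a * b) → n * E a * n⁻¹ ∈ N1 ι e := fun a b h1 h2 h3 h4 h5 => by
    by_contra ha
    have t := (S.typ (fN a) (fJ a)).resolve_left fun q => ha (N1_of (fN a) q)
    have k1 : ∀ v, v * v = 1 → a * v = v * a → n * E v * n⁻¹ ∈ N1 ι e → ∃ w, Mk 15 w ∧ R E n v w :=
      fun v q1 q2 q3 => (fP q3).imp fun w hw => ⟨by
        have r := R_self.2 (hw ▸ cj_comm' n (Commute.map q2 E))
        have key : ∀ w, w * w = 1 → (Mk 12 w ∨ Mk 3 w) ∧ (Mk 12 w → Mk 3 w → Mk 15 w) := by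
          decide +kernel
        obtain ⟨p1, p2⟩ := key w ((hw.mul hw).uniq S.Einj (R.one.cast q1.symm rfl))
        rcases p1 with p | p
        · exact p2 p ((t.1 w p).elim fun _ q => q.2.uniq S.Einj r ▸ q.1)
        · exact p2 ((t.2 w p).elim fun _ q => q.2.uniq S.Einj r ▸ q.1) p, hw⟩
    have k2 := R_surj S.Einj fun v (hv : Mk 15 v) => k1 v (mk15 v hv).2.2 (comm15 v hv a) (by
      have key : ∀ w, Mk 15 w → ∃ u < 16, ∃ t < 16, w = c u * c u * (c t * c t) := by decide +kernel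
      obtain ⟨u, -, t, -, rfl⟩ := key v hv
      exact fm _ _ ▸ mul_mem (fs _) (fs _))
    have k3 : ∀ v, v * v = 1 → a * v = v * a → ¬ Mk 15 v → n * E v * n⁻¹ ∉ N1 ι e :=
      fun v q1 q2 q3 q4 => by
        obtain ⟨w, w1, w2⟩ := k1 v q1 q2 q4
        obtain ⟨u, u1, u2⟩ := k2 w w1
        exact q3 (u2.uniq' S.Einj w2 ▸ u1)
    exact k3 _ h3 (by rw [mul_assoc, ← h1]) h5 (fm a b ▸ S.N1_or (fN a) (fN b) ha (k3 b h2 h1 h4))
  exact NJ_of fun v => fP (ind (P := fun v => n * E v * n⁻¹ ∈ N1 ι e) (by simp)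
    (fun x y p q => fm x y ▸ mul_mem p q)
    (by apply gen _ (c 2) <;> decide +kernel) (by apply gen _ (c 1) <;> decide +kernel)
    (by apply gen _ (c 8) <;> decide +kernel) (by apply gen _ (c 4) <;> decide +kernel) v)

theorem NJ_Z {n : G} (hn : n ∈ NJ E) {d w : V} (hd : Mk 63 d) (a : R E n d w) :
    Mk 63 w ∨ Mk 207 w := by
  have k1 : ∀ w, Mk 15 w → Mk 63 w ∨ Mk 207 w ∨ (w ≠ 1 ∧ ∃ s < 4, ∃ t < 4, c s * c s = 1 ∧
      c (4 * t) * c (4 * t) = 1 ∧ w = c s * c (4 * t) * (c s)⁻¹ * (c (4 * t))⁻¹) := by decide +kernel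
  have k2 : ∀ p : V, p * p = 1 → ∀ q : V, q * q = 1 → Mk 63 (p * q * p⁻¹ * q⁻¹) →
      p * q * p⁻¹ * q⁻¹ = 1 := by decide +kernel
  refine (k1 w (R15 S.Einj hn a (mk63 d hd))).imp_right fun q => q.resolve_right ?_
  rintro ⟨w1, s, -, t, -, s2, t2, rfl⟩
  obtain ⟨p, hp⟩ := NJ_ex (inv_mem hn) (c s)
  obtain ⟨q, hq⟩ := NJ_ex (inv_mem hn) (c (4 * t))
  have e1 := a.symm.uniq S.Einj (((hp.mul hq).mul hp.inv).mul hq.inv)
  have e2 := k2 p ((hp.mul hp).uniq S.Einj (R.one.cast s2.symm rfl)) q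
    ((hq.mul hq).uniq S.Einj (R.one.cast t2.symm rfl)) (e1 ▸ hd)
  exact w1 (a.uniq S.Einj (R.one.cast (e1.trans e2).symm rfl))

theorem NL {g : G} (hZ : ∀ d, Mk 63 d → g * E d * g⁻¹ ∈ NN ι) {d : V} (hd : Mk 63 d) :
    ∃ l, ι l = g * E d * g⁻¹ := by
  by_cases hg : g ∈ NN ι
  · exact (N_ex hg (e d)).imp fun _ => Eq.symm
  obtain ⟨l, hl⟩ := (S.B4 hg (S.nH hZ)).2
  obtain ⟨w, -, q⟩ := hl d hd
  exact ⟨l⁻¹ * e w * l, by rw [map_mul, map_mul, map_inv, show ι (e w) = _ from Eq.symm q]; group⟩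

theorem DZ {v : V} (hv : Mk 15 v) (hD : DD E (E v)) : Mk 63 v ∨ Mk 207 v := by
  obtain ⟨g, d, d1, d2, q⟩ := hD
  by_cases hg : g ∈ NN ι
  · exact Or.inl (S.EK (q ▸ nK hg (S.ZK d1)))
  have h1 : ∀ a, Mk 63 a → g⁻¹ * E a * g⁻¹⁻¹ ∈ NN ι := fun a _ => by
    rw [inv_inv]
    exact S.cent' (q ▸ cj_ne' g (S.E_ne d2)) (sq63 hv) (by simpa [q, mul_assoc] using S.ZK d1)
      (Commute.map (comm15 v hv a) E)
  obtain ⟨l, hl⟩ := (S.B4 hg (S.nH fun a ha => by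
    obtain ⟨x, hx⟩ := S.NL h1 (d := c 64) (by decide +kernel)
    refine S.cent (S.E_ne (v := c 64) (by decide +kernel)) (sq63 (by decide +kernel))
      (S.ZK (by decide +kernel)) ?_
    simpa [hx, mul_assoc] using cj_comm' g (memK.1 (S.ZK ha) x).symm)).2
  obtain ⟨l', hl'⟩ := S.toNJ hl
  obtain ⟨w, w1, w2⟩ := hl d d1
  have := S.NJ_Z hl' d1 (w2.comp (R_map (S.RZ l' d1)))
  by_cases v1 : Mk 63 v
  · exact Or.inl v1
  have r : R e l v w := S.R_un (by simpa using w2.comp (R.symm (show R E g d v from q.symm)))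
  obtain ⟨y, i, hi, rfl⟩ := S.fixτ hv v1 w1 r
  have key : ∀ i < 3, ∀ v, Mk 15 v → Mk 15 (ps (4 * i) v) ∧
      (Mk 63 (ps (4 * i) v) ∨ Mk 207 (ps (4 * i) v) → Mk 63 v ∨ Mk 207 v) := by decide +kernel
  refine (key i hi v hv).2 ?_
  rwa [r.uniq S.inj ((R.of_e y _).comp (S.ahp hi v)), comm15 _ (key i hi v hv).1,
    mul_inv_cancel_right] at this

theorem exn : ∃ n ∈ NJ E, n ∉ NN ι := by
  obtain ⟨g, hg, q⟩ := S.ex
  obtain ⟨l, hl⟩ := S.toNJ q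
  exact ⟨_, hl, fun r => hg ((mul_mem_cancel_right (LN ι l)).1 r)⟩

theorem DJ (v : V) : DD E (E v) ↔ Dm v := by
  have T : ∀ w, Mk 207 w → w ≠ 1 → DD E (E w) := by
    obtain ⟨n, hn, hn'⟩ := S.exn
    have : ∀ d, Mk 63 d → d ≠ 1 → ∃ w, Mk 207 w ∧ w ≠ 1 ∧ R E n d w := fun d d1 d2 => by
      obtain ⟨w, hw⟩ := NJ_ex hn d
      refine ⟨w, (S.NJ_Z hn d1 hw).resolve_left fun q => hn' (inv_mem_iff.1 (S.tight (S.E_ne d2)
        (sq63 (mk63 d d1)) (S.ZK d1) (by rw [inv_inv, hw]; exact S.ZK q))),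
        fun q => d2 (hw.uniq' S.Einj (R.one.cast rfl q.symm)), hw⟩
    obtain ⟨w1, a1, b1, c1⟩ := this (c 64) (by decide +kernel) (by decide +kernel)
    obtain ⟨w2, a2, b2, c2⟩ := this (c 128) (by decide +kernel) (by decide +kernel)
    have key : ∀ u, Mk 207 u → u ≠ 1 → ∀ u', Mk 207 u' → u' ≠ 1 → u ≠ u' → ∀ w, Mk 207 w → w ≠ 1 →
        w = u ∨ w = u' ∨ w = u * u' := by decide +kernel
    intro w h1 h2
    rcases key _ a1 b1 _ a2 b2 (fun q => absurd (c1.uniq' S.Einj (q ▸ c2)) (by decide +kernel))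
      w h1 h2 with rfl | rfl | rfl
    · exact ⟨n, c 64, by decide +kernel, by decide +kernel, Eq.symm c1⟩
    · exact ⟨n, c 128, by decide +kernel, by decide +kernel, Eq.symm c2⟩
    · exact ⟨n, c 64 * c 128, by decide +kernel, by decide +kernel, Eq.symm (c1.mul c2)⟩
  have Z : ∀ w, Mk 15 w → w ≠ 1 → (DD E (E w) ↔ Mk 63 w ∨ Mk 207 w) := fun w h1 h2 =>
    ⟨S.DZ h1, fun q => q.elim (fun q => ⟨1, w, q, h2, by simp⟩) fun q => T w q h2⟩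
  have key : ∀ v : V, ((v = 1 ∨ v * v ≠ 1) ∧ ¬ Dm v) ∨ ∃ y < 16, ∃ μ ∈ [(0, id), (12, sw1), (3, sw2)],
      Mk μ.1 (c y * v * (c y)⁻¹) ∧ ∀ w, w = μ.2 (c y * v * (c y)⁻¹) → Mk 15 w ∧ w ≠ 1 ∧
        (Mk 63 w ∨ Mk 207 w ↔ Dm v) := by
    simp only [forall_eq]
    decide +kernel
  rcases key v with ⟨q, r⟩ | ⟨y, -, μ, hμ, q, r⟩
  · refine iff_of_false ?_ r
    rintro ⟨g, d, d1, d2, p⟩
    rcases q with rfl | q
    · exact cj_ne' g (S.E_ne d2) (p ▸ map_one E)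
    · exact q (S.Einj (by rw [map_mul, map_one, p]; exact cj_sq' g (sq63 (mk63 d d1))))
  obtain ⟨r1, r2, r3⟩ := r _ rfl
  obtain ⟨l, a⟩ : ∃ l, ∀ v, Mk μ.1 v → R e l v (μ.2 v) := by
    simp only [List.mem_cons, List.not_mem_nil, or_false] at hμ
    rcases hμ with rfl | rfl | rfl
    exacts [⟨1, fun v _ => R.refl v⟩, ⟨_, S.a1⟩, ⟨_, S.a2⟩]
  have b := (R_map (ι := ι) (a _ q)).comp (R.of_e (c y) v)
  rw [← r3, ← Z _ r1 r2]
  exact ⟨fun p => p.r b, fun p => p.r b.symm⟩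

theorem DEC {n : G} (hn : n ∈ NJ E) : ∃ y, ∃ k < 72, ∃ m, n = E y * m ∧ Ac E m (ps k) := by
  have key : ∀ x1, Dm x1 → ¬ Mk 15 x1 → ∀ x2, Dm x2 → ¬ Mk 15 x2 → Dm (x1 * x2) → ¬ Mk 15 (x1 * x2) →
      ∀ x4, Dm x4 → x1 * x4 ≠ x4 * x1 → ∀ x8, Dm x8 → ¬ Mk 15 x8 → Dm (x4 * x8) → ¬ Mk 15 (x4 * x8) →
      ∃ k < 72, Mk 15 (ps k (c 1) * x1) ∧ Mk 15 (ps k (c 2) * x2) ∧ Mk 15 (ps k (c 4) * x4) ∧
        Mk 15 (ps k (c 8) * x8) ∧ ∃ y < 16, (c y)⁻¹ * x1 * (c y)⁻¹⁻¹ = ps k (c 1) ∧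
        (c y)⁻¹ * x2 * (c y)⁻¹⁻¹ = ps k (c 2) ∧ (c y)⁻¹ * x4 * (c y)⁻¹⁻¹ = ps k (c 4) ∧
        (c y)⁻¹ * x8 * (c y)⁻¹⁻¹ = ps k (c 8) := by decide +kernel
  have f : ∀ {v w}, R E n v w → Dm v → ¬ Mk 15 v → Dm w ∧ ¬ Mk 15 w := fun a h1 h2 =>
    ⟨(S.DJ _).1 (((S.DJ _).2 h1).r a), fun q => h2 (R15 S.Einj (inv_mem hn) a.symm q)⟩
  obtain ⟨x1, a1⟩ := NJ_ex hn (c 1)
  obtain ⟨x2, a2⟩ := NJ_ex hn (c 2)
  obtain ⟨x4, a4⟩ := NJ_ex hn (c 4)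
  obtain ⟨x8, a8⟩ := NJ_ex hn (c 8)
  have b1 := f a1 (by decide +kernel) (by decide +kernel)
  have b2 := f a2 (by decide +kernel) (by decide +kernel)
  have b3 := f (a1.mul a2) (by decide +kernel) (by decide +kernel)
  have b4 := f a4 (by decide +kernel) (by decide +kernel)
  have b8 := f a8 (by decide +kernel) (by decide +kernel)
  have b9 := f (a4.mul a8) (by decide +kernel) (by decide +kernel)
  obtain ⟨k, hk, -, -, -, -, y, -, q1, q2, q4, q8⟩ := key x1 b1.1 b1.2 x2 b2.1 b2.2 b3.1 b3.2 x4 b4.1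
    (fun q => absurd ((a1.mul a4).uniq' S.Einj (q ▸ a4.mul a1)) (by decide +kernel))
    x8 b8.1 b8.2 b9.1 b9.2
  exact ⟨c y, k, hk, E (c y)⁻¹ * n, by rw [map_inv]; group, ac_ps hk
    (((R.of_e _ _).comp a1).cast rfl q1) (((R.of_e _ _).comp a2).cast rfl q2)
    (((R.of_e _ _).comp a4).cast rfl q4) (((R.of_e _ _).comp a8).cast rfl q8)⟩

end Sv

end Cfsg.Agent.H20.HE
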