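import Cfsg.Agent.H20.HE6

/-! A standard subgroup `L = 2²·L₃(4)`: a subgroup `J ⋊ 2²`. -/

set_option autoImplicit false
set_option synthInstance.maxSize 4096
set_option linter.unusedSectionVars false

namespace Cfsg.Agent.H20.HE

open Cfsg Subgroup H8
open scoped commutatorElement Pointwise

variable {X G : Type*} [Group X] [Group G]

/-- The automorphism `ps k` is induced by an element of `C(O(K))`. -/
def AC (ι : X →* G) (e : V →* X) (k : ℕ) : Prop := ∃ x ∈ CO ι, Ac (ι.comp e) x (ps k)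

theorem AC.comp {ι : X →* G} {e : V →* X} {k l m : ℕ} (a : AC ι e k) (b : AC ι e l)
    (h : ∀ v, ps k (ps l v) = ps m v) : AC ι e m := by
  obtain ⟨x, x1, x2⟩ := a
  obtain ⟨y, y1, y2⟩ := b
  exact ⟨x * y, mul_mem x1 y1, (x2.comp y2).congr h⟩

theorem Ac.odd {E : V →* G} {x : G} {f : V → V} (a : Ac E x f) (h : ∀ v, f (f v) = v) (m : ℕ) :
    Ac E (x ^ (2 * m + 1)) f := by
  induction m with
  | zero => simpa using a
  | succ m ih =>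
    rw [show 2 * (m + 1) + 1 = 1 + (1 + (2 * m + 1)) by ring, pow_add, pow_add, pow_one]
    exact (a.comp (a.comp ih)).congr fun v => h _

theorem Ac.cen {E : V →* G} {x : G} {f : V → V} (a : Ac E x f) (h : ∀ v, f v = v) (v : V) :
    Commute x (E v) := R_self.1 ((a v).cast rfl (h v))

theorem Ac.zmul {E : V →* G} {x : G} {f : V → V} (a : Ac E x f) {u : V} (h : Mk 15 u) :
    Ac E (E u * x) f := ((ac_e u).comp a).congr fun v => by rw [← comm15 u h, mul_inv_cancel_right]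

namespace Sv

variable [Finite G] {ι : X →* G} {e : V →* X} {h l₁ l₂ : X} (S : Sv ι e h l₁ l₂)
include S

local notation "E" => MonoidHom.comp ι e

theorem exk : ∃ k < 72, ¬ Lk k ∧ ∃ n, Ac E n (ps k) := by
  obtain ⟨n, h1, h2⟩ := S.exn
  obtain ⟨y, k, hk, m, rfl, a⟩ := S.DEC h1
  have key : ∀ k < 72, Lk k → Mk 63 (ps k (c 64)) := by decide +kernel
  exact ⟨k, hk, fun q => h2 (mul_mem (LN ι _) (inv_mem_iff.1 (S.tight
    (S.E_ne (v := c 64) (by decide +kernel)) (sq63 (by decide +kernel)) (S.ZK (by decide +kernel))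
    (by rw [inv_inv, a]; exact S.ZK (key k hk q))))), m, a⟩

theorem AC9 {k : ℕ} (hk : k < 9) : AC ι e k := by
  obtain ⟨k0, h0, h1, n, a⟩ := S.exk
  have key : ∀ k < 72, ¬ Lk k → ∃ l < 72, (∀ v, ps k (ps l v) = v) ∧ ∃ m ∈ [5, 7],
      (∀ v, ps k (ps 4 (ps l v)) = ps m v) ∧ ∀ v, ps m (ps m v) = ps (12 - m) v := by decide +kernel
  obtain ⟨l, -, q1, m, hm, q2, q3⟩ := key k0 h0 h1
  have b : AC ι e m := ⟨_, S.NJ_CO a.nj (L_CO ι h),
    ((a.comp fun v => R_map (S.ah v)).comp (a.inv q1)).congr q2⟩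
  have b' := b.comp b q3
  have c : ∀ i < 3, AC ι e (4 * i) := fun i hi => ⟨_, pow_mem (L_CO ι h) i, S.aH hi⟩
  have k2 : ∀ k < 9, ∀ m ∈ [5, 7], ∃ i < 3, k = 4 * i ∨ (∀ v, ps (4 * i) (ps m v) = ps k v) ∨
      ∀ v, ps (4 * i) (ps (12 - m) v) = ps k v := by decide +kernel
  obtain ⟨i, hi, rfl | q | q⟩ := k2 k hk m hm
  exacts [c i hi, (c i hi).comp b q, (c i hi).comp b' q]

theorem ACs {k : ℕ} (hk : k ∈ [9, 18]) : AC ι e k := by
  obtain ⟨k0, h0, h1, n, a⟩ := S.exk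
  have key : ∀ k < 72, ¬ Lk k → ∃ l < 72, (∀ v, ps k (ps l v) = v) ∧ ∀ t ∈ [9, 18],
      ∃ μ ∈ [(12, sw1), (3, sw2)], ∃ ν ∈ [(12, sw1), (3, sw2)],
      (∀ u, Mk 15 u → ∀ p, p = ps k (ν.2 (ps l u)) → Mk ν.1 (ps l p) ∧ ps k (ν.2 (ps l p)) = u ∧
        Mk μ.1 p ∧ Mk ν.1 (ps l (μ.2 p)) ∧ Mk 15 (ps k (ν.2 (ps l (μ.2 p))))) ∧
      ∀ k' < 72, (∀ u ∈ [16, 32, 64, 128], ps k' (c u) =
        ps k (ν.2 (ps l (μ.2 (ps k (ν.2 (ps l (c u)))))))) → ∃ i < 9, ∀ v, ps i (ps k' v) = ps t v := by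
    simp only [forall_eq]
    decide +kernel
  obtain ⟨l, -, q1, q⟩ := key k0 h0 h1
  obtain ⟨μ, hμ, ν, hν, q2, q3⟩ := q k hk
  have sw : ∀ μ ∈ [(12, sw1), (3, sw2)], ∃ l, ∀ v, Mk μ.1 v → R E (ι l) v (μ.2 v) := fun μ hμ => by
    simp only [List.mem_cons, List.not_mem_nil, or_false] at hμ
    rcases hμ with rfl | rfl
    exacts [⟨_, fun v hv => R_map (S.a1 v hv)⟩, ⟨_, fun v hv => R_map (S.a2 v hv)⟩]
  obtain ⟨x, hx⟩ := sw μ hμ
  obtain ⟨y, hy⟩ := sw ν hν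
  have b : ∀ p, Mk ν.1 (ps l p) → R E (n * (ι y * n⁻¹)) p (ps k0 (ν.2 (ps l p))) := fun p hp =>
    (a _).comp ((hy _ hp).comp (a.inv q1 p))
  have r : ∀ u, Mk 15 u → R E (n * (ι y * n⁻¹) * (ι x * (n * (ι y * n⁻¹))⁻¹)) u
      (ps k0 (ν.2 (ps l (μ.2 (ps k0 (ν.2 (ps l u))))))) := fun u hu => by
    obtain ⟨p1, p2, p3, p4, -⟩ := q2 u hu _ rfl
    exact (b _ p4).comp ((hx _ p3).comp ((b _ p1).cast rfl p2).symm)
  have m1 : n * (ι y * n⁻¹) ∈ CO ι := mul_assoc n _ _ ▸ S.NJ_CO a.nj (L_CO ι y)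
  have m2 := mul_mem m1 (mul_mem (L_CO ι x) (inv_mem m1))
  obtain ⟨z, k', hk', m, e1, a'⟩ := S.DEC (S.NZ fun u hu => ⟨_, (q2 u hu _ rfl).2.2.2.2, r u hu⟩)
  rw [e1] at r m2
  have k15 : ∀ k < 72, ∀ u ∈ [16, 32, 64, 128], Mk 15 (c u) ∧ Mk 15 (ps k (c u)) := by decide +kernel
  obtain ⟨i, hi, q4⟩ := q3 k' hk' fun u hu => by
    have : z * ps k' (c u) * z⁻¹ = _ := ((ac_e z).comp a' _).uniq S.Einj (r _ (k15 k' hk' u hu).1)
    rwa [comm15 _ (k15 k' hk' u hu).2, mul_inv_cancel_right] at this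
  exact (S.AC9 hi).comp ⟨m, (mul_mem_cancel_left (L_CO ι _)).1 m2, a'⟩ q4

theorem mkInv {k : ℕ} (hk : k ∈ [9, 18]) : ∃ s ∈ CO ι, Ac E s (ps k) ∧ s * s = 1 := by
  obtain ⟨x, x1, x2⟩ := S.ACs hk
  have key : ∀ k ∈ [9, 18], (∀ v, ps k (ps k v) = v) ∧ ∀ w, Mk 15 w → ps k w = w →
      ∃ u, Mk 15 u ∧ u * ps k u * w = 1 := by decide +kernel
  obtain ⟨m, hm⟩ := exists_two_part x
  have a := x2.odd (key k hk).1 m
  replace x1 := pow_mem x1 (2 * m + 1)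
  generalize x ^ (2 * m + 1) = s at *
  obtain ⟨w, w1, w2⟩ := S.CJ2 ((a.comp a).cen (key k hk).1) (hm.mul hm rfl)
  obtain ⟨u, u1, u2⟩ := (key k hk).2 w w1
    ((a w).uniq S.Einj (R_self.2 (w2 ▸ (Commute.refl s).mul_right rfl)))
  refine ⟨_, mul_mem (L_CO ι _) x1, a.zmul u1, ?_⟩
  rw [← map_one E, ← u2, map_mul, map_mul, w2, ← a u]
  show E u * s * (E u * s) = _
  group

theorem exF : ∃ F : W →* G, (∀ i, F (inc i) = E i) ∧ ∀ w, F w ∈ CO ι := by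
  obtain ⟨s, s1, s2, s3⟩ := S.mkInv (k := 9) (by simp)
  obtain ⟨t, t1, t2, t3⟩ := S.mkInv (k := 18) (by simp)
  have cJ := ((s2.comp t2).comp (s2.comp t2)).cen (by decide +kernel)
  have i1 : s * (s * t * (s * t)) * s⁻¹ = (s * t * (s * t))⁻¹ := by
    rw [mul_inv_rev, mul_inv_rev, inv_eq_of_mul_eq_one_right s3, inv_eq_of_mul_eq_one_right t3,
      show s * (s * t * (s * t)) * s = s * s * (t * s * (t * s)) by group, s3, one_mul]
  have i2 : t * (s * t * (s * t)) * t⁻¹ = (s * t * (s * t))⁻¹ := by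
    rw [mul_inv_rev, mul_inv_rev, inv_eq_of_mul_eq_one_right s3, inv_eq_of_mul_eq_one_right t3,
      show t * (s * t * (s * t)) * t = t * s * (t * s) * (t * t) by group, t3, mul_one]
  obtain ⟨a, ha⟩ := exists_odd_part (s * t * (s * t))
  have e1 := (s1 _ (S.CJo (fun v => (cJ v).pow_left _) ha))
  have e2 : (s * t * (s * t)) ^ 2 ^ a * (s * t * (s * t)) ^ 2 ^ a = 1 := by
    nth_rw 1 [← mul_inv_eq_iff_eq_mul.2 e1.symm]
    rw [← conj_pow, i1, inv_pow, inv_mul_cancel]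
  obtain ⟨w, w1, w2⟩ := S.CJ2 cJ ⟨a, (T2.of_sq e2).eq_one ha⟩
  have key : ∀ w, Mk 15 w → ps 9 w = w⁻¹ → ps 18 w = w⁻¹ → ∃ u, Mk 15 u ∧ u * ps 18 u = 1 ∧
      ps 9 u * ps 9 (ps 18 (ps 9 u)) * w = 1 := by decide +kernel
  obtain ⟨u, u1, u2, u3⟩ := key w w1 ((s2 w).uniq S.Einj (by rw [R, map_inv, w2, i1]))
    ((t2 w).uniq S.Einj (by rw [R, map_inv, w2, i2]))
  have e3 : E u * t * (E u * t) = 1 := by
    rw [show E u * t * (E u * t) = E u * (t * E u * t⁻¹) * (t * t) by group, t2 u, t3, ← map_mul,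
      u2, map_one, one_mul]
  have e4 : s * (E u * t) * (s * (E u * t)) = 1 := by
    rw [show s * (E u * t) * (s * (E u * t)) = s * E u * s⁻¹ * (s * t * s * E u * (s * t * s)⁻¹) *
      (s * t * (s * t)) by group, s2 u, ((s2.comp t2).comp s2) u, ← w2, ← map_mul, ← map_mul, u3,
      map_one]
  obtain ⟨F, F1, F2, F3⟩ := exists_homW s2 (t2.zmul u1) s3 e3 (by
    rw [eq_inv_of_mul_eq_one_left e4, mul_inv_rev, inv_eq_of_mul_eq_one_right s3,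
      inv_eq_of_mul_eq_one_right e3])
  refine ⟨F, F1, fun w => ?_⟩
  have key : ∀ w : W, w = inc w.j ∨ w = inc w.j * cw 256 ∨ w = inc w.j * cw 512 ∨
      w = inc w.j * cw 256 * cw 512 := by decide +kernel
  have m1 : F (inc w.j) ∈ CO ι := F1 _ ▸ L_CO ι _
  have m2 : F (cw 256) ∈ CO ι := F2 ▸ s1
  have m3 : F (cw 512) ∈ CO ι := F3 ▸ mul_mem (L_CO ι _) t1
  rcases key w with q | q | q | q <;> rw [q] <;> simp only [map_mul, mul_mem, m1, m2, m3]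

end Sv

end Cfsg.Agent.H20.HE
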