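import Cfsg.Agent.H20.HE7
import Cfsg.Agent.H87.Transfer

/-! A standard subgroup `L = 2²·L₃(4)`: the Sylow 2-subgroup. -/

set_option autoImplicit false
set_option synthInstance.maxSize 4096
set_option linter.unusedSectionVars false

namespace Cfsg.Agent.H20.HE

open Cfsg Subgroup H8
open scoped commutatorElement Pointwise

variable {X G : Type*} [Group X] [Group G]

theorem relIndex_dvd_two {R H : Subgroup G}
    (h : ∀ a ∈ R, ∀ b ∈ R, a ∉ H → b ∉ H → a * b ∈ H) : (R ⊓ H).relIndex R ∣ 2 := by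
  refine index_dvd_two_iff.2 ?_
  by_cases q : ∃ a ∈ R, a ∉ H
  · obtain ⟨a, h1, h2⟩ := q
    exact ⟨⟨a, h1⟩, fun b => or_iff_not_imp_right.2 fun r =>
      ⟨mul_mem b.2 h1, h _ b.2 _ h1 (fun s => r ⟨b.2, s⟩) h2⟩⟩
  · push Not at q
    exact ⟨1, fun b => Or.inr ⟨b.2, q _ b.2⟩⟩

theorem card_le_two {R H : Subgroup G}
    (h : ∀ a ∈ R, ∀ b ∈ R, a ∉ H → b ∉ H → a * b ∈ H) :
    Nat.card R ≤ Nat.card (R ⊓ H : Subgroup G) * 2 := by
  rw [card_eq_card_mul_relIndex (inf_le_left (a := R) (b := H))]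
  exact Nat.mul_le_mul_left _ (Nat.le_of_dvd two_pos (relIndex_dvd_two h))

theorem T2.of_cube {x y : G} (h : T2 x) (e : Commute (x * (x * x)) y) : Commute x y := by
  obtain ⟨m, hm⟩ := h
  obtain ⟨i, hi⟩ := (mem_zpowers_pow_iff (g := x) (k := 3)).2
    (((by norm_num : Nat.Coprime 3 2).pow_right m).coprime_dvd_right (orderOf_dvd_of_pow_eq_one hm))
  rw [← hi, pow_three]
  exact e.zpow_left i

theorem mem_range_self' {H : Type*} [Group H] (F : H →* G) (w : H) : F w ∈ F.range := ⟨w, rfl⟩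

/-- The action of the semidirect product on `J`. -/
noncomputable def aw (w : W) (v : V) : V := (w * inc v * w⁻¹).j

theorem inc_aw (w : W) (v : V) : inc (aw w v) = w * inc v * w⁻¹ :=
  W.ext' rfl (e_ind (P := fun e => c4 0 = xe (xe e (c4 0)) e) (by decide +kernel) w.e)

theorem big_cent (w : W) (hw : w * w = 1) :
    ∃ A : Subgroup W, 64 ≤ Nat.card A ∧ ∀ y ∈ A, y * w = w * y := by
  have k1 : ∀ w : W, w * w = 1 → (w = inc w.j ∧ (Mk 12 w.j ∨ Mk 3 w.j)) ∨ ∃ s < 256,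
      (cw s * w * (cw s)⁻¹).v ∈ [256, 260, 264, 268, 512, 513, 514, 515, 768] := by decide +kernel
  have k2 : ∀ r ∈ [256, 260, 264, 268, 512, 513, 514, 515, 768],
      64 ≤ cntN (fun k => decide (cw k * cw r = cw r * cw k)) 1024 := by decide +kernel
  have k3 : ∀ v : V, (Mk 12 v → ∀ u, Mk 12 u → u * v = v * u) ∧
      (Mk 3 v → ∀ u, Mk 3 u → u * v = v * u) := by decide +kernel
  rcases k1 w hw with ⟨q, r | r⟩ | ⟨s, -, q⟩
  · exact ⟨(sub 12).map inc, by rw [card_map_of_injective inc_inj, card_12], by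
      rintro _ ⟨u, hu, rfl⟩; rw [q, ← map_mul, (k3 _).1 r u hu, map_mul]⟩
  · exact ⟨(sub 3).map inc, by rw [card_map_of_injective inc_inj, card_3], by
      rintro _ ⟨u, hu, rfl⟩; rw [q, ← map_mul, (k3 _).2 r u hu, map_mul]⟩
  · refine ⟨MulAut.conj (cw s)⁻¹ • centralizer {cw s * w * (cw s)⁻¹}, ?_, fun y hy => by
      simpa [mul_assoc] using (cj_comm (cw s) (show Commute _ _ from
        mem_centralizer_singleton_iff.1 (mem_conj_smul.1 hy))).eq⟩
    rw [card_conj_smul, Nat.card_congr (Equiv.subtypeEquivRight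
      fun _ => mem_centralizer_singleton_iff), card_PW, ← cw_v (cw s * w * (cw s)⁻¹)]
    exact k2 _ q

structure Sw (ι : X →* G) (e : V →* X) (h l₁ l₂ : X) (F : W →* G) : Prop
    extends Sv ι e h l₁ l₂ where
  hF : ∀ i, F (inc i) = ι.comp e i
  FO : ∀ w, F w ∈ CO ι

namespace Sw

variable [Finite G] {ι : X →* G} {e : V →* X} {h l₁ l₂ : X} {F : W →* G} (S : Sw ι e h l₁ l₂ F)
include S

local notation "E" => MonoidHom.comp ι e

theorem Finj : Function.Injective F :=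
  inj_W fun q => S.E_ne (v := c 80) (by decide +kernel) ((S.hF _).symm.trans q)

theorem aF (w : W) : Ac E (F w) (aw w) := fun v => by
  rw [R, ← S.hF, ← S.hF, inc_aw, map_mul, map_mul, map_inv]

theorem a9 : Ac E (F (cw 256)) (ps 9) := (S.aF _).congr (by decide +kernel)

theorem a18 : Ac E (F (cw 512)) (ps 18) := (S.aF _).congr (by decide +kernel)

theorem EF (v : V) : E v ∈ F.range := ⟨_, S.hF v⟩

theorem zP {P : Subgroup G} (hP : IsPGroup 2 P) (hF : F.range ≤ P) {p : G} (hp : p ∈ P) :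
    R E p (c 80) (c 80) := by
  have : Nontrivial P := ⟨⟨⟨_, hF (S.EF (c 1))⟩, 1, fun q =>
    S.E_ne (v := c 1) (by decide +kernel) (congrArg Subtype.val q)⟩⟩
  obtain ⟨y, hy⟩ := have := hP.center_nontrivial; exists_ne (1 : center P)
  have hc : ∀ p ∈ P, Commute p y.1.1 := fun p hp =>
    congrArg Subtype.val (mem_center_iff.1 y.2 ⟨p, hp⟩)
  obtain ⟨w, w1, w2⟩ := S.CJ2 (fun v => (hc _ (hF (S.EF v))).symm) (T2.of_mem hP y.1.2)
  have key : ∀ w, Mk 15 w → ps 9 w = w → ps 18 w = w → w = 1 ∨ w = c 80 := by decide +kernel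
  rcases key w w1 ((S.a9 w).uniq S.Einj (R_self.2 (w2 ▸ hc _ (hF ⟨_, rfl⟩))))
    ((S.a18 w).uniq S.Einj (R_self.2 (w2 ▸ hc _ (hF ⟨_, rfl⟩)))) with rfl | rfl
  · exact absurd (Subtype.ext (Subtype.ext (w2.symm.trans (map_one E)))) hy
  · exact R_self.2 (w2 ▸ hc p hp)

theorem PNJ {P : Subgroup G} (hP : IsPGroup 2 P) (hF : F.range ≤ P) : P ≤ NJ E := by
  by_contra hn
  obtain ⟨x, ⟨xP, xN⟩, hx⟩ := SetLike.exists_of_lt (lt_inf_normalizer_of_lt hP
    (inf_lt_left.2 hn : P ⊓ NJ E < P))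
  have m : ∀ v, E v ∈ P ⊓ NJ E := fun v => ⟨hF (S.EF v), E_NJ E v⟩
  have f1 : ∀ p ∈ P ⊓ NJ E, R E p (c 64) (c 64) ∨ R E p (c 64) (c 64 * c 80) := fun p hp => by
    obtain ⟨y, k, hk, n, rfl, a⟩ := S.DEC hp.2
    have b : ∀ v, R E (E y * n) v (y * ps k v * y⁻¹) := (ac_e y).comp a
    have key : ∀ k < 72, ∀ y, y * ps k (c 80) * y⁻¹ = c 80 →
        y * ps k (c 64) * y⁻¹ = c 64 ∨ y * ps k (c 64) * y⁻¹ = c 64 * c 80 := by decide +kernel
    exact (key k hk y ((b _).uniq S.Einj (S.zP hP hF hp.1))).imp ((b _).cast rfl) ((b _).cast rfl)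
  obtain ⟨y, k, hk, n, e1, a⟩ := S.DEC (inv_mem ((mem_normalizer_iff.1 xN _).1 (m (c 64))).2)
  have b : ∀ v, R E (x * E (c 64) * x⁻¹)⁻¹ v (y * ps k v * y⁻¹) := e1 ▸ (ac_e y).comp a
  have key : ∀ k < 72, ∀ y, (∀ t ∈ [1, 2, 4, 8], y * ps k (c t) * y⁻¹ = c t ∨
      y * ps k (c t) * y⁻¹ = c 80 * c t) → ∀ t ∈ [1, 2, 4, 8], y * ps k (c t) * y⁻¹ = c t := by
    decide +kernel
  have q := key k hk y fun t _ => by
    refine (f1 _ ((mem_normalizer_iff.1 (inv_mem xN) _).1 (m (c t)))).imp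
      (fun r => (b _).uniq S.Einj ?_) fun r => (b _).uniq S.Einj ?_
    · rw [R, show (x * E (c 64) * x⁻¹)⁻¹ * E (c t) * (x * E (c 64) * x⁻¹)⁻¹⁻¹ = x * (E (c 64))⁻¹ *
        (x⁻¹ * E (c t) * x⁻¹⁻¹ * E (c 64) * (x⁻¹ * E (c t) * x⁻¹⁻¹)⁻¹) * x⁻¹ * E (c t) by group, r]
      group
    · rw [R, show (x * E (c 64) * x⁻¹)⁻¹ * E (c t) * (x * E (c 64) * x⁻¹)⁻¹⁻¹ = x * (E (c 64))⁻¹ *
        (x⁻¹ * E (c t) * x⁻¹⁻¹ * E (c 64) * (x⁻¹ * E (c t) * x⁻¹⁻¹)⁻¹) * x⁻¹ * E (c t) by group, r,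
        map_mul, map_mul]
      nth_rw 2 [← S.zP hP hF xP]
      group
  have g : ∀ t ∈ [1, 2, 4, 8], Commute (x * E (c 64) * x⁻¹) (E (c t)) := fun t ht =>
    Commute.inv_left_iff.1 (R_self.1 ((b _).cast rfl (q t ht)))
  obtain ⟨w, w1, w2⟩ := S.CJ2 (ind (P := fun v => Commute (x * E (c 64) * x⁻¹) (E v)) (by simp)
    (fun _ _ p q => map_mul E _ _ ▸ p.mul_right q) (g 1 (by simp)) (g 2 (by simp)) (g 4 (by simp))
    (g 8 (by simp))) ((T2.e E _).conj x)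
  have fin : ∀ {p w}, p ∈ P → Mk 63 w → R E p (c 64) w → p ∈ NJ E := fun hp hw r =>
    S.syl_norm (hP.to_le (inf_le_left (b := NN ι))) inf_le_right
      (by rintro _ ⟨v, rfl⟩; exact ⟨hF (S.EF v), LN ι _⟩) ⟨hp, (NN ι).inv_mem_iff.1 (S.tight
        (S.E_ne (v := c 64) (by decide +kernel)) (sq63 (by decide +kernel)) (S.ZK (by decide +kernel))
        (by rw [inv_inv, r]; exact S.ZK hw))⟩
  have key : ∀ w, Mk 207 w → Mk 63 (ps 18 w) := by decide +kernel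
  rcases S.DZ w1 ⟨x, c 64, by decide +kernel, by decide +kernel, w2⟩ with r | r
  · exact hx ⟨xP, fin xP r w2.symm⟩
  · exact hx ⟨xP, (mul_mem_cancel_left S.a18.nj).1
      (fin (mul_mem (hF ⟨_, rfl⟩) xP) (key w r) ((S.a18 w).comp w2.symm))⟩

theorem Pdec {P : Subgroup G} (hP : IsPGroup 2 P) (hF : F.range ≤ P) {p : G} (hp : p ∈ P) :
    p ∈ F.range ∨ ((∀ v, Mk 12 v → ∃ w, Mk 3 w ∧ R E p v w) ∧
      (∀ v, Mk 3 v → ∃ w, Mk 12 w ∧ R E p v w) ∧ ∃ g ∈ P, Ac E g (ps 36)) := by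
  obtain ⟨y, k, hk, n, rfl, a⟩ := S.DEC (S.PNJ hP hF hp)
  have hn := (mul_mem_cancel_left (hF (S.EF y))).1 hp
  have key : ∀ k < 72, ps k (c 80) = c 80 → ∃ j < 4, (∀ v, aw (cw (256 * j)) (ps k v) = v) ∨
      ((∀ v, Mk 12 v → Mk 3 (ps k v)) ∧ (∀ v, Mk 3 v → Mk 12 (ps k v)) ∧
        ∀ v, aw (cw (256 * j)) (ps k v) = ps 36 v) := by decide +kernel
  have k2 : ∀ y v, (Mk 12 v → Mk 12 (y * v * y⁻¹)) ∧ (Mk 3 v → Mk 3 (y * v * y⁻¹)) := by
    decide +kernel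
  obtain ⟨j, -, q | q⟩ := key k hk ((a _).uniq S.Einj (S.zP hP hF hn))
  · obtain ⟨w, -, r⟩ := S.CJ2 (((S.aF _).comp a).cen q) (T2.of_mem hP (mul_mem (hF ⟨_, rfl⟩) hn))
    exact Or.inl (mul_mem (S.EF y) ((mul_mem_cancel_left (mem_range_self' F _)).1 (r ▸ S.EF w)))
  · exact Or.inr ⟨fun v hv => ⟨_, (k2 y _).2 (q.1 v hv), (ac_e y).comp a v⟩,
      fun v hv => ⟨_, (k2 y _).1 (q.2.1 v hv), (ac_e y).comp a v⟩,
      _, mul_mem (hF ⟨_, rfl⟩) hn, ((S.aF _).comp a).congr q.2.2⟩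

theorem exu {P : Subgroup G} (hP : IsPGroup 2 P) (hF : F.range ≤ P) {g : G} (hg : g ∈ P)
    (a : Ac E g (ps 36)) : ∃ u, u * u = 1 ∧ Ac E u (ps 63) := by
  obtain ⟨y, k, hk, m, -, -, rfl, b, hH, -⟩ := S.decJ (S.cent (S.E_ne (v := c 64) (by decide +kernel))
    (sq63 (by decide +kernel)) (S.ZK (by decide +kernel)) (R_self.1 ((a _).cast rfl
      (by decide +kernel)))) a.nj
  have key : ∀ k < 72, ∀ y, (∀ t ∈ [1, 2, 4, 8], y * ps k (c t) * y⁻¹ = ps 36 (c t)) → k = 36 := by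
    decide +kernel
  obtain rfl := key k hk y fun t _ => ((ac_e y).comp b _).uniq S.Einj (a _)
  have hm := T2.of_mem hP ((mul_mem_cancel_left (hF (S.EF y))).1 hg)
  have m2 : Commute (m * m) (ι h) := by
    refine mul_inv_eq_iff_eq_mul.1 ?_
    rw [show m * m * ι h * (m * m)⁻¹ = m * (m * ι h * m⁻¹) * m⁻¹ by group]
    rcases hH with q | q <;> rw [q]
    · exact q
    · rw [← conj_inv, q, inv_inv]
  obtain ⟨w, w1, w2⟩ := S.CJ2 ((b.comp b).cen (by decide +kernel)) (hm.mul hm rfl)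
  have k2 : ∀ w, Mk 15 w → ps 4 w = w → ps 36 w = w → ∃ u, Mk 15 u ∧ u * ps 36 u * w = 1 := by
    decide +kernel
  obtain ⟨u, u1, u2⟩ := k2 w w1 ((R_map (S.ah w)).uniq S.Einj (R_self.2 (w2 ▸ m2.symm)))
    ((b w).uniq S.Einj (R_self.2 (w2 ▸ (Commute.refl m).mul_right rfl)))
  refine ⟨F (cw 256) * (E u * m) * (F (cw 256))⁻¹, cj_sq' _ ?_, ((S.a9.comp (b.zmul u1)).comp
    (S.a9.inv (f' := ps 9) (by decide +kernel))).congr (by decide +kernel)⟩
  rw [← map_one E, ← u2, map_mul, map_mul, w2, ← b u]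
  group

theorem small {u : G} (u2 : u * u = 1) (a : Ac E u (ps 63)) {Q : Subgroup G} (hQ : IsPGroup 2 Q)
    (h1 : Q ≤ centralizer {u}) : Nat.card Q ≤ 32 := by
  have uZ : ∀ d, Mk 63 d → Commute u (E d) := fun d => S.cenZ ((a _).cast rfl (by decide +kernel))
    ((a _).cast rfl (by decide +kernel))
  have uN := S.cent (S.E_ne (v := c 64) (by decide +kernel)) (sq63 (by decide +kernel))
    (S.ZK (by decide +kernel)) (uZ _ (by decide +kernel))
  have u1 : u ∉ N1 ι e := fun q => by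
    obtain ⟨x, rfl⟩ := S.I2 (S.inn q uZ) (T2.of_sq u2)
    obtain ⟨v, hv⟩ := S.LJ a.nj (T2.of_sq u2)
    have key : ∀ v, v * c 1 * v⁻¹ ≠ ps 63 (c 1) := by decide +kernel
    exact key v ((R.of_e v _).uniq S.Einj (hv ▸ a _))
  obtain ⟨P, hP, hZ⟩ := exists_isSylowIn_ge (H := centralizer {u}) (Q := (sub 63).map E)
    ((pgE E).to_le (map_le_range _ _)) (by
      rintro _ ⟨d, hd, rfl⟩
      exact mem_centralizer_singleton_iff.2 (uZ d hd).eq.symm)
  refine (hP.card_le hQ h1).trans ?_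
  have uP : u ∈ P := hP.le_of_le_normalizer' (T2.of_sq u2).pg
    (zpowers_le.2 (mem_centralizer_singleton_iff.2 rfl)) (zpowers_le.2
      (H10.mem_normalizer_of_conj_mem fun y hy => by
        rwa [← mem_centralizer_singleton_iff.1 (hP.le hy), mul_inv_cancel_right])) (mem_zpowers u)
  obtain ⟨l, hl⟩ := S.conjN (hP.isPGroup.to_le (inf_le_left (b := NN ι))) inf_le_right
  have cN : ∀ {x}, x ∈ NN ι → ι l * x * (ι l)⁻¹ ∈ NN ι := fun hx =>
    mul_mem (mul_mem (LN ι l) hx) (inv_mem (LN ι l))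
  obtain ⟨y, k, hk, m, hm, hL, e0, b, hH, -⟩ := S.decJ (cN uN) (hl u ⟨uP, uN⟩)
  have b' : ∀ v, R E (ι l * u * (ι l)⁻¹) v (y * ps k v * y⁻¹) := e0 ▸ (ac_e y).comp b
  have s2 := cj_sq' (ι l) u2
  have m2 : Commute (m * m) (ι h) := by
    refine mul_inv_eq_iff_eq_mul.1 ?_
    rw [show m * m * ι h * (m * m)⁻¹ = m * (m * ι h * m⁻¹) * m⁻¹ by group]
    rcases hH with q | q <;> rw [q]
    · exact q
    · rw [← conj_inv, q, inv_inv]
  have e1 : E (y * ps k y) = (m * m)⁻¹ := eq_inv_of_mul_eq_one_left (by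
    rw [map_mul, ← b y, ← s2, e0]; group)
  have key : ∀ k < 72, Lk k → ∀ y, ps 4 (y * ps k y) = y * ps k y →
      (∀ t ∈ [1, 2, 4, 8], y * ps k (y * ps k (c t) * y⁻¹) * y⁻¹ = c t) →
      (∀ t ∈ [64, 128], y * ps k (c t) * y⁻¹ = c t) → (∀ v, Mk 12 v → Mk 12 (y * ps k v * y⁻¹)) ∨
      ∃ τ, Mk 15 τ ∧ ∀ v, y * ps k v * y⁻¹ = v → Mk 63 v ∨ Mk 63 (v * τ) := by decide +kernel
  have k2 : ∀ τ, Mk 15 τ → ∀ v, Mk 63 (v * τ) → ∀ w, Mk 63 (w * τ) → Mk 63 (v * w) := by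
    decide +kernel
  obtain ⟨τ, τ1, τ2⟩ := (key k hk hL y ((R_map (S.ah _)).uniq S.Einj
    (R_self.2 (e1 ▸ m2.symm.inv_right))) (fun t _ => R_sq S.Einj s2 (b' _) (b' _)) fun t ht => by
      have : Mk 63 (c t) := by revert t; decide +kernel
      exact (b' _).uniq S.Einj (R_self.2 (((memK.1 (S.ZK this) l).mul_left (uZ _ this)).mul_left
        (memK.1 (S.ZK this) l).inv_left))).resolve_left fun q => u1 (by
    simpa [mul_assoc] using mul_mem (mul_mem (inv_mem (L_N1 ι e l))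
      (N1_of (cN uN) fun v hv => ⟨_, q v hv, b' v⟩)) (L_N1 ι e l))
  have fix : ∀ x ∈ P, x ∈ ι.range → ∃ v, (Mk 63 v ∨ Mk 63 (v * τ)) ∧ E v = ι l * x * (ι l)⁻¹ := by
    rintro _ hx ⟨p, rfl⟩
    have e2 : ι (l * p * l⁻¹) = ι l * ι p * (ι l)⁻¹ := by simp
    obtain ⟨v, hv⟩ := S.LJ (e2 ▸ hl _ ⟨hx, LN ι p⟩) (e2 ▸ (T2.of_mem hP.isPGroup hx).conj _)
    rw [e2] at hv
    exact ⟨v, τ2 v ((b' v).uniq S.Einj (R_self.2 (hv ▸ cj_comm' _
      (mem_centralizer_singleton_iff.1 (hP.le hx)).symm))), hv⟩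
  have two : ∀ x ∈ P, x ∈ ι.range → ∀ x' ∈ P, x' ∈ ι.range → x ∉ KK ι → x' ∉ KK ι → x * x' ∈ KK ι :=
    fun x h1 h2 x' h3 h4 h5 h6 => by
      have t : ∀ {v x}, Mk 63 v → E v = ι l * x * (ι l)⁻¹ → x ∈ KK ι := fun p q => by
        simpa [q, mul_assoc] using nK' (LN ι l) (S.ZK p)
      obtain ⟨v, v1, v2⟩ := fix x h1 h2
      obtain ⟨w, w1, w2⟩ := fix x' h3 h4
      exact t (k2 τ τ1 v (v1.resolve_left fun q => h5 (t q v2)) w
        (w1.resolve_left fun q => h6 (t q w2))) (by rw [map_mul, v2, w2]; group)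
  have PN : P ≤ NN ι := by
    by_contra hn
    obtain ⟨x, ⟨xP, xN⟩, hx⟩ := SetLike.exists_of_lt (lt_inf_normalizer_of_lt hP.isPGroup
      (inf_lt_left.2 hn : P ⊓ NN ι < P))
    have m : ∀ d, Mk 63 d → x * E d * x⁻¹ ∈ P ⊓ NN ι := fun d hd =>
      (mem_normalizer_iff.1 xN _).1 ⟨hZ ⟨d, hd, rfl⟩, LN ι _⟩
    have t : ∀ d, Mk 63 d → d ≠ 1 → x * E d * x⁻¹ ∉ KK ι := fun d d1 d2 q => hx ⟨xP,
      (NN ι).inv_mem_iff.1 (S.tight (S.E_ne d2) (sq63 (mk63 d d1)) (S.ZK d1) (by rwa [inv_inv]))⟩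
    refine t (c 64 * c 128) (by decide +kernel) (by decide +kernel) ?_
    rw [map_mul, show x * (E (c 64) * E (c 128)) * x⁻¹ = x * E (c 64) * x⁻¹ * (x * E (c 128) * x⁻¹) by
      group]
    exact two _ (m _ (by decide +kernel)).1 (S.NL (fun d hd => (m d hd).2) (by decide +kernel)) _
      (m _ (by decide +kernel)).1 (S.NL (fun d hd => (m d hd).2) (by decide +kernel))
      (t _ (by decide +kernel) (by decide +kernel)) (t _ (by decide +kernel) (by decide +kernel))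
  have c1 := card_le_two (H := N1 ι e) fun a ha b hb => S.N1_or (PN ha) (PN hb)
  have sq : ∀ {x}, x ∈ P → ∀ {f : V → V}, (∀ d, Mk 63 d → Mk 63 (f d) ∧ R E x d (f d)) →
      f (f (f (c 64))) = c 64 → f (c 64) = c 64 := fun hx f q r => by
    have p1 := q (c 64) (by decide +kernel)
    have p2 := q _ p1.1
    exact p1.2.uniq S.Einj (R_self.2 ((T2.of_mem hP.isPGroup hx).of_cube
      (R_self.1 (((q _ p2.1).2.comp (p2.2.comp p1.2)).cast rfl r))))
  have c2 := card_le_two (R := P ⊓ N1 ι e) (H := centralizer {E (c 64), E (c 128)})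
    fun a ha b hb p q => by
      obtain ⟨k, hk, x⟩ := S.actZ (PN ha.1)
      obtain ⟨k', hk', y⟩ := S.actZ (PN hb.1)
      have key : ∀ k ∈ Θ, (∀ d, Mk 63 d → Mk 63 (ps k d)) ∧ ∀ k' ∈ Θ,
          (ps k (ps k (ps k (c 64))) = c 64 → ps k (c 64) = c 64) →
          (ps k' (ps k' (ps k' (c 64))) = c 64 → ps k' (c 64) = c 64) →
          (ps k (ps k' (ps k (ps k' (ps k (ps k' (c 64)))))) = c 64 → ps k (ps k' (c 64)) = c 64) →
          (∀ t ∈ [64, 128], ps k (c t) = c t) ∨ (∀ t ∈ [64, 128], ps k' (c t) = c t) ∨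
          ∀ t ∈ [64, 128], ps k (ps k' (c t)) = c t := by decide +kernel
      have t : ∀ {x} {f : V → V}, (∀ d, Mk 63 d → R E x d (f d)) → (∀ t ∈ [64, 128], f (c t) = c t) →
          x ∈ centralizer {E (c 64), E (c 128)} := fun q r => by
        rintro _ (rfl | rfl)
        · exact (R_self.1 ((q _ (by decide +kernel)).cast rfl (r 64 (by simp)))).eq.symm
        · exact (R_self.1 ((q _ (by decide +kernel)).cast rfl (r 128 (by simp)))).eq.symm
      have xy : ∀ d, Mk 63 d → R E (a * b) d (ps k (ps k' d)) := fun d hd =>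
        (x _ ((key k' hk').1 d hd)).comp (y d hd)
      rcases (key k hk).2 k' hk' (sq ha.1 fun d hd => ⟨(key k hk).1 d hd, x d hd⟩)
        (sq hb.1 fun d hd => ⟨(key k' hk').1 d hd, y d hd⟩)
        (sq (f := fun d => ps k (ps k' d)) (mul_mem ha.1 hb.1) fun d hd =>
          ⟨(key k hk).1 _ ((key k' hk').1 d hd), xy d hd⟩) with r | r | r
      exacts [absurd (t x r) p, absurd (t y r) q, t xy r]
  have inL : ∀ x ∈ P ⊓ N1 ι e ⊓ centralizer {E (c 64), E (c 128)}, x ∈ ι.range := fun x hx =>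
    S.I2 (S.inn hx.1.2 fun d => S.cenZ (R_self.2 (hx.2 _ (by simp)).symm)
      (R_self.2 (hx.2 _ (by simp)).symm)) (T2.of_mem hP.isPGroup hx.1.1)
  have c3 := card_le_two (H := KK ι) (R := P ⊓ N1 ι e ⊓ centralizer {E (c 64), E (c 128)})
    fun a ha b hb => two a ha.1.1 (inL a ha) b hb.1.1 (inL b hb)
  have c4 : Nat.card (P ⊓ N1 ι e ⊓ centralizer {E (c 64), E (c 128)} ⊓ KK ι : Subgroup G) ≤ 4 := by
    rw [← card_63, ← card_map_of_injective S.Einj]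
    exact card_le_of_le fun x hx => S.K2 x hx.2 (T2.of_mem hP.isPGroup hx.1.1.1)
  omega

theorem pgF : IsPGroup 2 F.range :=
  IsPGroup.of_card (n := 10) (by rw [← Nat.card_congr (MonoidHom.ofInjective S.Finj).toEquiv, card_W]; rfl)

theorem syl2 [IsSimpleGroup G] : IsSylowIn 2 F.range ⊤ := by
  obtain ⟨P, hP, hF⟩ := exists_isSylowIn_ge S.pgF le_top
  suffices P ≤ F.range from le_antisymm this hF ▸ hP
  intro p hp
  by_contra hn
  obtain ⟨g, hg, a⟩ := ((S.Pdec hP.isPGroup hF hp).resolve_left hn).2.2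
  obtain ⟨u, u2, b⟩ := S.exu hP.isPGroup hF hg a
  obtain ⟨K, hK, h2, -⟩ := H87.thompson_transfer_involution (H := P) (M := F.range) (x := u)
    (Nat.not_even_iff_odd.1 fun q => hP.not_dvd (by simpa using q.two_dvd)) (by
      rw [← inf_eq_right.2 hF]
      refine ((Nat.dvd_prime Nat.prime_two).1 (relIndex_dvd_two fun a ha b hb p q => ?_)).resolve_left
        fun q => hn (relIndex_eq_one.1 q hp).2
      obtain ⟨w, w1, w2⟩ := ((S.Pdec hP.isPGroup hF hb).resolve_left q).1 (c 1) (by decide +kernel)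
      obtain ⟨v, v1, v2⟩ := ((S.Pdec hP.isPGroup hF ha).resolve_left p).2.1 w w1
      refine (S.Pdec hP.isPGroup hF (mul_mem ha hb)).resolve_right fun r => ?_
      obtain ⟨t, t1, t2⟩ := r.1 (c 1) (by decide +kernel)
      have key : ∀ v, Mk 12 v → Mk 3 v → Mk 15 v := by decide +kernel
      exact absurd (R15 S.Einj (inv_mem (S.PNJ hP.isPGroup hF (mul_mem ha hb))) t2.symm
        (key t (t2.uniq S.Einj (v2.comp w2) ▸ v1) t1)) (by decide +kernel))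
    (by rw [sq, u2]) (by
      rintro g ⟨w, hw⟩
      obtain ⟨A, a1, a2⟩ := big_cent w (S.Finj (by rw [map_mul, hw, cj_sq' g u2, map_one]))
      have := S.small u2 b (Q := MulAut.conj g⁻¹ • A.map F)
        (isPGroup_conj_smul (S.pgF.to_le (map_le_range _ _)) _) fun x hx => by
          obtain ⟨y, y1, y2⟩ := mem_conj_smul.1 hx
          have := cj_comm g (Commute.map (a2 y y1) F)
          exact mem_centralizer_singleton_iff.2 (by simpa [y2, hw, mul_assoc] using this.eq)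
      rw [card_conj_smul, card_map_of_injective S.Finj] at this
      omega)
  rcases hK.eq_bot_or_eq_top with rfl | rfl
  · have := card_le_card_group F.range
    rw [← Nat.card_congr (MonoidHom.ofInjective S.Finj).toEquiv, card_W, ← index_bot, h2] at this
    omega
  · simp at h2

end Sw

end Cfsg.Agent.H20.HE
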