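import Cfsg.Agent.H99.HNDefs
import Cfsg.Agent.H62.ElemAb
import Cfsg.Agent.H49.V8

/-! The abstract part of `HSbStmt`. -/

set_option autoImplicit false

namespace Cfsg.Agent.H20.HN

open Cfsg Subgroup Cfsg.Agent.H99.HN
open scoped MatrixGroups

universe u

theorem card_GL : Nat.card (GL (Fin 3) (ZMod 2)) = 168 := by
  rw [Matrix.card_GL_field]; simp [Fin.prod_univ_succ]

theorem simple_GL : IsSimpleGroup (GL (Fin 3) (ZMod 2)) := by
  have := H49.SL32_simple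
  exact (MulEquiv.ofBijective (Matrix.SpecialLinearGroup.toGL : SL(3, ZMod 2) →* _)
    ((Nat.bijective_iff_injective_and_card _).2 ⟨Matrix.SpecialLinearGroup.toGL_injective,
      by rw [H49.card_SL32, card_GL]⟩)).symm.isSimpleGroup

theorem top_of_42 {F : Subgroup (GL (Fin 3) (ZMod 2))} (h : 42 ∣ Nat.card F) : F = ⊤ := by
  have := simple_GL
  obtain ⟨c, hc⟩ := h
  have hi := F.index_mul_card
  rcases F.normalCore_normal.eq_bot_or_eq_top with l | l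
  · exfalso
    have h2 : F.normalCore.index ∣ F.index.factorial := by
      rw [normalCore_eq_ker, index_ker, index_eq_card, ← Nat.card_perm]
      exact card_subgroup_dvd_card _
    rw [l, index_bot, card_GL] at h2
    rw [card_GL, hc] at hi
    have h3 : F.index ≤ 4 := by
      by_contra k
      have : 5 * (42 * 1) ≤ F.index * (42 * c) := Nat.mul_le_mul (by omega)
        (Nat.mul_le_mul_left _ (Nat.pos_of_ne_zero fun l => by simp [l] at hi))
      omega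
    exact absurd (Nat.le_of_dvd (by decide) (h2.trans (Nat.factorial_dvd_factorial h3))) (by decide)
  · exact top_le_iff.1 (l ▸ F.normalCore_le)

/-- `4³` -/
abbrev Z444 : Type := Multiplicative (ZMod 4 × ZMod 4 × ZMod 4)

variable {X : Type u} [Group X]

theorem hsb_abs [Finite X] {V : Subgroup X} (hc : IsMulCommutative V) (h2 : ∀ v ∈ V, v ^ 2 = 1)
    (h8 : Nat.card V = 8) {f : Z444 →* X} (hf : Function.Injective f)
    (hr : f.range = centralizer (V : Set X))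
    (hp : ∀ q ∈ [2, 3, 7], ∃ n ∈ normalizer (V : Set X), n ^ q = 1 ∧ n ∉ centralizer (V : Set X)) :
    HSb V := by
  refine ⟨hc, h2, h8, ?_⟩
  set M := normalizer (V : Set X) with hM
  have hVM : V ≤ M := le_normalizer
  have hAM : centralizer (V : Set X) ≤ M := centralizer_le_normalizer _
  obtain ⟨d, hd3, φ, hφ⟩ := H62.exists_hom_GL_ker_eq_centralizer (V.subgroupOf M) (p := 2)
    inferInstance fun x hx => Subtype.ext (h2 _ hx)
  rw [Nat.card_congr (subgroupOfEquivOfLe hVM).toEquiv, h8] at hd3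
  obtain rfl : 3 = d := Nat.pow_right_injective (le_refl 2) hd3
  have hk : φ.ker = (centralizer (V : Set X)).subgroupOf M := by
    rw [hφ]
    ext x
    exact ⟨fun i y hy => congrArg Subtype.val (i ⟨y, hVM hy⟩ hy),
      fun i y hy => Subtype.ext (i y hy)⟩
  have key : ∀ q ∈ [2, 3, 7], q.Prime → q ∣ Nat.card φ.range := fun q hq pq => by
    obtain ⟨n, hn, e, k⟩ := hp q hq
    have := Fact.mk pq
    have o : orderOf (φ ⟨n, hn⟩) = q := orderOf_eq_prime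
      (by rw [← map_pow, show (⟨n, hn⟩ : M) ^ q = 1 from Subtype.ext e, map_one])
      fun l => k (hk.le l)
    exact o ▸ orderOf_dvd_natCard _ ⟨_, rfl⟩
  have hs' : Function.Surjective φ := MonoidHom.range_eq_top.1 (top_of_42
    (Nat.Coprime.mul_dvd_of_dvd_of_dvd (by decide : Nat.Coprime 6 7)
      (Nat.Coprime.mul_dvd_of_dvd_of_dvd (by decide : Nat.Coprime 2 3) (key 2 (by simp) Nat.prime_two)
        (key 3 (by simp) Nat.prime_three)) (key 7 (by simp) (by decide))))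
  have e : Z444 ≃* centralizer (V : Set X) := (MonoidHom.ofInjective hf).trans (MulEquiv.subgroupCongr hr)
  have h7 : pCore 2 M = φ.ker := by
    refine le_antisymm ?_ (H3.le_pCore (by
      rw [hk]
      exact (IsPGroup.of_card (n := 6) (by rw [← Nat.card_congr e.toEquiv]; simp)).comap_subtype))
    have := simple_GL
    rcases (Normal.map (inferInstance : (pCore 2 M).Normal) φ hs').eq_bot_or_eq_top with i | i
    · rwa [Subgroup.map_eq_bot_iff] at i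
    · obtain ⟨n, hn⟩ := IsPGroup.iff_card.1 ((H3.pCore_isPGroup 2 M).map φ)
      rw [i, card_top, card_GL] at hn
      exact absurd (Nat.Prime.dvd_of_dvd_pow Nat.prime_three (hn ▸ (by norm_num : 3 ∣ 168)))
        (by norm_num)
  exact ⟨⟨(MulEquiv.subgroupCongr (h7.trans hk)).trans ((subgroupOfEquivOfLe hAM).trans e.symm)⟩,
    ⟨(QuotientGroup.quotientMulEquivOfEq h7).trans
      (QuotientGroup.quotientKerEquivOfSurjective φ hs')⟩⟩

theorem pow_val_add {y : X} (h : y ^ 4 = 1) (a b : ZMod 4) : y ^ (a + b).val = y ^ a.val * y ^ b.val := by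
  rw [ZMod.val_add, ← pow_eq_pow_mod _ h, pow_add]

theorem exists_hom4 {x y z : X} (xy : Commute x y) (xz : Commute x z) (yz : Commute y z)
    (x4 : x ^ 4 = 1) (y4 : y ^ 4 = 1) (z4 : z ^ 4 = 1)
    (h : ∀ i ∈ [0, 2], ∀ j ∈ [0, 2], ∀ k ∈ [0, 2], x ^ i * y ^ j * z ^ k = 1 → i = 0 ∧ j = 0 ∧ k = 0) :
    ∃ f : Z444 →* X, Function.Injective f ∧ x ∈ f.range ∧ y ∈ f.range ∧ z ∈ f.range ∧
      ∀ H : Subgroup X, x ∈ H → y ∈ H → z ∈ H → f.range ≤ H := by
  let f : Z444 →* X := MonoidHom.mk'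
    (fun v => x ^ v.toAdd.1.val * y ^ v.toAdd.2.1.val * z ^ v.toAdd.2.2.val) fun v w => by
      simp only [toAdd_mul, Prod.fst_add, Prod.snd_add, pow_val_add x4, pow_val_add y4, pow_val_add z4]
      rw [(((xz.pow_pow _ _).mul_left (yz.pow_pow _ _)).symm).mul_mul_mul_comm,
        (xy.pow_pow _ _).mul_mul_mul_comm]
  have hf : ∀ v, f v = x ^ v.toAdd.1.val * y ^ v.toAdd.2.1.val * z ^ v.toAdd.2.2.val := fun _ => rfl
  refine ⟨f, (injective_iff_map_eq_one f).2 fun v hv => ?_,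
    ⟨Multiplicative.ofAdd (1, 0, 0), by simp [hf, show ZMod.val (1 : ZMod 4) = 1 from rfl]⟩,
    ⟨Multiplicative.ofAdd (0, 1, 0), by simp [hf, show ZMod.val (1 : ZMod 4) = 1 from rfl]⟩,
    ⟨Multiplicative.ofAdd (0, 0, 1), by simp [hf, show ZMod.val (1 : ZMod 4) = 1 from rfl]⟩, ?_⟩
  · have k1 : ∀ v : Z444, (v * v).toAdd.1.val ∈ [0, 2] ∧ (v * v).toAdd.2.1.val ∈ [0, 2] ∧
        (v * v).toAdd.2.2.val ∈ [0, 2] := by decide +kernel
    have k2 : ∀ v : Z444, (v * v).toAdd.1.val = 0 ∧ (v * v).toAdd.2.1.val = 0 ∧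
        (v * v).toAdd.2.2.val = 0 → v.toAdd.1.val ∈ [0, 2] ∧ v.toAdd.2.1.val ∈ [0, 2] ∧
        v.toAdd.2.2.val ∈ [0, 2] := by decide +kernel
    have k3 : ∀ v : Z444, v.toAdd.1.val = 0 ∧ v.toAdd.2.1.val = 0 ∧ v.toAdd.2.2.val = 0 → v = 1 := by
      decide +kernel
    have k4 := k2 v (h _ (k1 v).1 _ (k1 v).2.1 _ (k1 v).2.2 (by rw [← hf, map_mul, hv, one_mul]))
    exact k3 v (h _ k4.1 _ k4.2.1 _ k4.2.2 hv)
  · rintro H hx hy hz _ ⟨v, rfl⟩
    exact mul_mem (mul_mem (pow_mem hx _) (pow_mem hy _)) (pow_mem hz _)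

theorem mem_zp {x y : X} (h : x * x = 1) (hy : y ∈ zpowers x) : y = 1 ∨ y = x := by
  obtain ⟨n, rfl⟩ := hy
  obtain ⟨k, rfl | rfl⟩ := Int.even_or_odd' n
  · exact Or.inl (by simp only [zpow_mul, zpow_two, h, one_zpow])
  · exact Or.inr (by simp only [zpow_add, zpow_mul, zpow_two, h, one_zpow, zpow_one, one_mul])

/-! ### the model -/

/-- the unitriangular matrices -/
def ut (β : H4.J2S.F4) : M4 := ⟨1, β, 0, 1⟩
/-- the nilpotent upper triangular matrices -/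
def nt (β : H4.J2S.F4) : M4 := ⟨0, β, 0, 0⟩
/-- scalars -/
def sc (α : H4.J2S.F4) : M4 := ⟨α, 0, 0, α⟩

theorem two0 : (2 : H4.J2S.F4) = 0 := by decide

theorem m1 {A B : M4} (hA : A.det = 1) (h : 1 = A * 1 * B) : B = A.adj := by
  obtain ⟨a, b, c, d⟩ := A
  obtain ⟨e, f, g, k⟩ := B
  have h1 : 1 = (a * 1 + b * 0) * e + (a * 0 + b * 1) * g := congrArg M4.a h
  have h2 : 0 = (a * 1 + b * 0) * f + (a * 0 + b * 1) * k := congrArg M4.b h
  have h3 : 0 = (c * 1 + d * 0) * e + (c * 0 + d * 1) * g := congrArg M4.c h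
  have h4 : 1 = (c * 1 + d * 0) * f + (c * 0 + d * 1) * k := congrArg M4.d h
  change a * d + b * c = 1 at hA
  refine M4.ext ?_ ?_ ?_ ?_
  · change e = d
    linear_combination (-e) * hA - d * h1 - b * h3 - b * d * g * two0
  · change f = b
    linear_combination (-f) * hA - d * h2 - b * h4 - b * d * k * two0
  · change g = c
    linear_combination (-g) * hA - c * h1 - a * h3 - a * c * e * two0
  · change k = a
    linear_combination (-k) * hA - c * h2 - a * h4 - a * c * f * two0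

theorem m3 (X : M4) (β γ) : ut β * (ut γ * X * ut γ) * ut β = ut (β + γ) * X * ut (β + γ) := by
  have e : ∀ X Y : M4, X * Y = ⟨X.a * Y.a + X.b * Y.c, X.a * Y.b + X.b * Y.d,
    X.c * Y.a + X.d * Y.c, X.c * Y.b + X.d * Y.d⟩ := fun _ _ => rfl
  simp only [e, ut]
  refine M4.ext ?_ ?_ ?_ ?_ <;> ring

theorem m2 : ∀ A : M4, A.det = 1 → ∀ β γ, β ≠ 0 → γ ≠ 0 → β + γ ≠ 0 → ∀ b,
    nt β = A * M4.tw b (nt β) * A.adj → nt γ = A * M4.tw b (nt γ) * A.adj →
    b = false ∧ A = ut A.b ∧ A.adj = ut A.b := by decide +kernel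

theorem m4 : ∀ β γ, β ≠ 0 → γ ≠ 0 → β + γ ≠ 0 → ∀ X : M4, X.tr = 0 →
    ((X + nt β).q = 0 ↔ X.q = 0) → ((X + nt γ).q = 0 ↔ X.q = 0) → X + (sc X.a + nt X.b) = 0 := by
  decide +kernel
theorem m5 : ∀ α β γ : H4.J2S.F4, β ≠ 0 → γ ≠ 0 → β + γ ≠ 0 →
    α + 0 = 0 ∨ α + β = 0 ∨ α + γ = 0 ∨ α + (β + γ) = 0 := by decide +kernel

theorem m6 : ∀ β, ut β * sc .w * ut β + sc .w = 0 ∧ (sc .w + nt β).q ≠ 0 ∧ (1 + nt β).det = 1 ∧
    (nt β).det = 0 ∧ (nt β).tr = 0 := by decide +kernel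

theorem m7 : ∀ β γ, nt β + nt γ = nt (β + γ) := by decide +kernel

theorem m8 : ∀ b, M4.tw b 1 = 1 := by decide +kernel

/-- coordinates on `Af0` -/
def f2 : Multiplicative (ZMod 2 × ZMod 2 × ZMod 2) →* A12 :=
  MonoidHom.mk' (fun v => u0 ^ v.toAdd.1.val * x2 ^ v.toAdd.2.1.val * x4 ^ v.toAdd.2.2.val)
    (by decide +kernel)

theorem f2_inj : Function.Injective f2 := (injective_iff_map_eq_one _).2 (by decide +kernel)

theorem uA : u0 ∈ Af0 := subset_closure (by simp)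
theorem x2A : x2 ∈ Af0 := subset_closure (by simp)
theorem x4A : x4 ∈ Af0 := subset_closure (by simp)

theorem f2_range : f2.range = Af0 := by
  refine le_antisymm ?_ ((closure_le _).2 ?_)
  · rintro _ ⟨v, rfl⟩
    exact mul_mem (mul_mem (pow_mem uA _) (pow_mem x2A _)) (pow_mem x4A _)
  · rintro _ (rfl | rfl | rfl)
    exacts [⟨Multiplicative.ofAdd (1, 0, 0), by decide +kernel⟩,
      ⟨Multiplicative.ofAdd (0, 1, 0), by decide +kernel⟩,
      ⟨Multiplicative.ofAdd (0, 0, 1), by decide +kernel⟩]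

theorem card_Af0 : Nat.card Af0 = 8 := by
  rw [← f2_range, ← Nat.card_congr (MonoidHom.ofInjective f2_inj).toEquiv]; simp

theorem Af0_ind {P : A12 → Prop} (h : ∀ v, P (f2 v)) {a : A12} (ha : a ∈ Af0) : P a := by
  obtain ⟨v, rfl⟩ := f2_range.ge ha
  exact h v

theorem Af0_facts {a : A12} (ha : a ∈ Af0) : a * a = 1 ∧ a * t0 = t0 * a ∧ a ≠ t0 :=
  Af0_ind (P := fun a => a * a = 1 ∧ a * t0 = t0 * a ∧ a ≠ t0) (by decide +kernel) ha

theorem Af0_Ep : Af0 ≤ Ep0 := (closure_le _).2 (by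
  rintro _ (rfl | rfl | rfl)
  · exact mul_mem (subset_closure (by simp)) (subset_closure (by simp))
  all_goals exact subset_closure (by simp))

/-- order three -/
def γ3 : A12 := dd 1 2 2 4 * dd 3 6 6 5
/-- order seven -/
def γ7 : A12 := dd 1 2 2 4 * dd 4 3 3 6 * dd 6 7 7 5
/-- order two -/
def γ2 : A12 := dd 0 1 2 3

theorem norm_Af0 {γ : A12} (h : ∀ v, ∃ w, f2 w = γ * f2 v * γ⁻¹) : γ ∈ normalizer (Af0 : Set A12) :=
  mem_normalizer_fintype fun _ ha => Af0_ind (P := fun a => γ * a * γ⁻¹ ∈ Af0)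
    (fun v => f2_range.le (h v)) ha

/-- normalizes `Af0`, centralizes `t0`, does not centralize `Af0` -/
def Gf (γ : A12) : Prop :=
  (∀ v, ∃ w, f2 w = γ * f2 v * γ⁻¹) ∧ γ * t0 = t0 * γ ∧ x4 * γ ≠ γ * x4

theorem gf2 : Gf γ2 := by unfold Gf; decide +kernel
theorem gf3 : Gf γ3 := by unfold Gf; decide +kernel
theorem gf7 : Gf γ7 := by unfold Gf; decide +kernel

theorem γ_rel : γ2 ^ 2 = 1 ∧ γ3 ^ 3 = 1 ∧ γ7 ^ 7 = 1 ∧ γ3 = γ3 ^ 2 * γ3 ^ 2 ∧ γ7 = γ7 ^ 4 * γ7 ^ 4 ∧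
    γ3 * u0 * γ3⁻¹ = x2 ∧ γ3 * x2 * γ3⁻¹ = x4 ∧ u0 * u0 = 1 ∧ t0 * t0 = 1 ∧ u0 ≠ 1 ∧ u0 ≠ x2 ∧
    t0 ≠ 1 := by decide +kernel

theorem x_ne : (x2 ≠ 1 ∧ x2 ≠ u0) ∧ (x4 ≠ 1 ∧ x4 ≠ u0) ∧ x2 * x4 ≠ 1 ∧ x2 * x4 ≠ u0 := by
  decide +kernel

theorem x_ind : ∀ i ∈ [0, 1], ∀ j ∈ [0, 1], ∀ k ∈ [0, 1],
    (u0 ^ i * x2 ^ j * x4 ^ k = 1 ∨ u0 ^ i * x2 ^ j * x4 ^ k = t0) → i = 0 ∧ j = 0 ∧ k = 0 := by
  decide +kernel

end Cfsg.Agent.H20.HN
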