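import Cfsg.Agent.H93.LT4Defs
import Cfsg.Agent.H42.LT3A
import Cfsg.Agent.H95.AutAlt
import Cfsg.Agent.S0102

/-! `No7Stmt`, `ZpStmt`, `InvStmt` of `H93.LT4Defs`. -/

set_option autoImplicit false
set_option linter.unusedSectionVars false

namespace Cfsg.Agent.H20.LT

open Subgroup Cfsg.Agent.H85 Cfsg.Agent.H93.LT Cfsg.Agent.H42.LT
open scoped commutatorElement

universe u

section Abs

variable {H : Type u} [Group H] {L : Type} [Group L] {φ : H →* L}

theorem comm_eq (hk : φ.ker = center H) {x x' y y' : H} (e1 : φ x = φ x') (e2 : φ y = φ y') :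
    ⁅x, y⁆ = ⁅x', y'⁆ := by
  have h1 : x⁻¹ * x' ∈ center H := hk ▸ (by rw [MonoidHom.mem_ker, map_mul, map_inv, e1, inv_mul_cancel])
  have h2 : y⁻¹ * y' ∈ center H := hk ▸ (by rw [MonoidHom.mem_ker, map_mul, map_inv, e2, inv_mul_cancel])
  obtain ⟨c, hc, rfl⟩ : ∃ c ∈ center H, x' = x * c := ⟨_, h1, by group⟩
  obtain ⟨d, hd, rfl⟩ : ∃ d ∈ center H, y' = y * d := ⟨_, h2, by group⟩
  have c1 := mem_center_iff.1 hc
  have d1 := mem_center_iff.1 hd
  simp only [commutatorElement_def, mul_inv_rev]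
  calc x * y * x⁻¹ * y⁻¹ = x * (y * c) * c⁻¹ * (x⁻¹ * d) * d⁻¹ * y⁻¹ := by group
    _ = x * (c * y) * (c⁻¹ * (d * x⁻¹)) * d⁻¹ * y⁻¹ := by rw [c1 y, d1 x⁻¹]; group
    _ = x * (c * y) * ((c⁻¹ * d) * x⁻¹) * d⁻¹ * y⁻¹ := by group
    _ = x * c * (y * d) * (c⁻¹ * x⁻¹) * (d⁻¹ * y⁻¹) := by rw [d1 c⁻¹]; group

theorem aut_one (hk : φ.ker = center H) (hp : commutator H = ⊤) {ψ : H →* H}
    (e : ∀ x, φ (ψ x) = φ x) (x : H) : ψ x = x := by
  have : commutator H ≤ ψ.eqLocus (MonoidHom.id H) := by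
    rw [commutator_def, commutator_le]
    intro a _ b _
    exact (map_commutatorElement ψ a b).trans (comm_eq hk (e a) (e b))
  exact this (hp.ge (mem_top x))

theorem center_three [Finite H] (hs : Function.Surjective φ) (hk : φ.ker = center H)
    (hp : commutator H = ⊤) (ho : Odd (Nat.card (center H))) (hL : Nat.card L ∣ 2520) :
    IsPGroup 3 (center H) := by
  have : Finite L := Finite.of_surjective φ hs
  have hpL : commutator L = ⊤ := by
    rw [commutator_def, ← map_top_of_surjective φ hs, ← map_commutator, ← commutator_def, hp]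
  refine IsPGroup.of_card (n := (Nat.card (center H)).primeFactorsList.length)
    (Nat.eq_prime_pow_of_unique_prime_dvd Nat.card_pos.ne' fun {p} pp hd => by_contra fun h3 => ?_)
  have := Fact.mk pp
  have h2 : p ≠ 2 := fun e => (Nat.not_even_iff_odd.2 ho) (even_iff_two_dvd.2 (e ▸ hd))
  refine S0102.result hpL (p := p) (fun P => ?_) φ hs hk.le hp (hk ▸ hd)
  obtain ⟨n, hn⟩ := IsPGroup.iff_card.1 P.isPGroup'
  have h4 : p ^ n ∣ 2520 := hn ▸ (card_subgroup_dvd_card _).trans hL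
  rcases n with _ | _ | n
  · exact isCyclic_of_card_dvd_prime (p := p) (by rw [hn]; simp)
  · exact isCyclic_of_card_dvd_prime (p := p) (by rw [hn]; simp)
  · exfalso
    have h5 : p ^ 2 ∣ 2 ^ 3 * 3 ^ 2 * 35 := (pow_dvd_pow p (by omega)).trans h4
    have h6 : p ^ 2 ∣ 35 := (Nat.Coprime.mul_right
      (Nat.Coprime.pow _ _ ((Nat.coprime_primes pp Nat.prime_two).2 h2))
      (Nat.Coprime.pow _ _ ((Nat.coprime_primes pp Nat.prime_three).2 h3))).dvd_of_dvd_mul_left h5
    have h7 : p ≤ 5 := by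
      have := Nat.le_of_dvd (by decide) h6
      nlinarith
    have := pp.two_le
    interval_cases p <;> simp at h6

theorem cube_comm (hk : φ.ker = center H) {p q : H} (p3 : φ p ^ 3 = 1) (c : Commute (φ p) (φ q)) :
    ⁅p, q⁆ ∈ center H ∧ ⁅p, q⁆ ^ 3 = 1 := by
  have h1 : ⁅p, q⁆ ∈ center H := hk ▸ (by
    rw [MonoidHom.mem_ker, map_commutatorElement]; exact c.commutator_eq)
  have h2 : p ^ 3 ∈ center H := hk ▸ (by rw [MonoidHom.mem_ker, map_pow, p3])
  refine ⟨h1, ?_⟩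
  have e : p * q = ⁅p, q⁆ * q * p := by simp [commutatorElement_def]
  generalize ⁅p, q⁆ = w at *
  have c1 := mem_center_iff.1 h1
  have e1 : ∀ n : ℕ, p ^ n * q = w ^ n * (q * p ^ n) := fun n => by
    induction n with
    | zero => simp
    | succ n ih =>
      rw [pow_succ', mul_assoc, ih, ← mul_assoc, (show Commute p w from c1 p).pow_right n, mul_assoc,
        ← mul_assoc p, e, pow_succ w]
      simp only [mul_assoc]
  have e2 := e1 3
  rw [mem_center_iff.1 h2 q] at e2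
  simpa using e2

theorem core [Finite H] (hs : Function.Surjective φ) (hk : φ.ker = center H)
    (hp : commutator H = ⊤) (ho : Odd (Nat.card (center H))) (hL : Nat.card L ∣ 2520) {p q : H}
    (p3 : φ p ^ 3 = 1) (q3 : φ q ^ 3 = 1) (c : Commute (φ p) (φ q)) (p1 : φ p ≠ 1)
    (hq : φ q ∉ zpowers (φ p)) : center H = zpowers ⁅p, q⁆ := by
  have : Finite L := Finite.of_surjective φ hs
  have : Fact (Nat.Prime 3) := ⟨Nat.prime_three⟩
  have hZ := center_three hs hk hp ho hL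
  obtain ⟨w0, -⟩ := cube_comm hk p3 c
  have zp : ∀ {x : L}, x ^ 3 = 1 → IsPGroup 3 (zpowers x) := fun {x} e =>
    IsPGroup.of_card_dvd_pow (n := 1) (by rw [Nat.card_zpowers]; exact orderOf_dvd_of_pow_eq_one e)
  have hQ : IsPGroup 3 (zpowers (φ p) ⊔ zpowers (φ q) : Subgroup L) :=
    IsPGroup.to_sup_of_normal_left' (zp p3) (zp q3) (zpowers_le_of_mem (centralizer_le_normalizer _ (by
      rintro _ ⟨n, rfl⟩; exact (c.zpow_left n).eq)))
  obtain ⟨P, hP⟩ := (hQ.comap_of_ker_isPGroup φ (hk ▸ hZ)).exists_le_sylow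
  have h1 : zpowers (φ p) ⊔ zpowers (φ q) = (P : Subgroup H).map φ := by
    have l : zpowers (φ p) ⊔ zpowers (φ q) ≤ (P : Subgroup H).map φ := by
      rw [← map_comap_eq_self_of_surjective hs (zpowers (φ p) ⊔ zpowers (φ q))]
      exact map_mono hP
    refine eq_of_le_of_card_ge l ?_
    obtain ⟨n, hn⟩ := IsPGroup.iff_card.1 (P.isPGroup'.map φ)
    obtain ⟨m, hm⟩ := IsPGroup.iff_card.1 hQ
    have h4 : 3 ^ n ∣ 2520 := hn ▸ (card_subgroup_dvd_card _).trans hL
    have h5 : n ≤ 2 := by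
      by_contra k
      exact absurd ((pow_dvd_pow 3 (show 3 ≤ n by omega)).trans h4) (by decide)
    have h6 : Nat.card (zpowers (φ p)) = 3 := by rw [Nat.card_zpowers, orderOf_eq_prime p3 p1]
    have h7 : 2 ≤ m := by
      by_contra k
      refine hq ((eq_of_le_of_card_ge (le_sup_left (a := zpowers (φ p)) (b := zpowers (φ q))) ?_).ge
        (mem_sup_right (mem_zpowers _)))
      rw [hm, h6]
      exact Nat.pow_le_pow_right (n := 3) (by decide) (show m ≤ 1 by omega)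
    rw [hn, hm]
    exact Nat.pow_le_pow_right (by decide) (by omega)
  refine le_antisymm ?_ (zpowers_le_of_mem w0)
  have h2 : center H ≤ P := fun x hx => hP (by
    rw [mem_comap, (hk.ge hx : φ x = 1)]; exact one_mem _)
  refine le_trans (le_inf (le_inf le_rfl (hp.ge.trans' le_top)) h2)
    ((H8.center_inf_commutator_inf_sylow_le P).trans (commutator_le.2 fun x hx y hy => ?_))
  have h3 : ∀ x ∈ (P : Subgroup H), ∃ x' ∈ closure ({p, q} : Set H), φ x = φ x' := fun x hx => by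
    have : φ x ∈ (closure ({p, q} : Set H)).map φ := by
      refine (show zpowers (φ p) ⊔ zpowers (φ q) ≤ _ from sup_le ?_ ?_) (h1.ge ⟨x, hx, rfl⟩) <;>
        exact zpowers_le_of_mem ⟨_, subset_closure (by simp), rfl⟩
    obtain ⟨x', h, e⟩ := this
    exact ⟨x', h, e.symm⟩
  obtain ⟨x', hx', e1⟩ := h3 x hx
  obtain ⟨y', hy', e2⟩ := h3 y hy
  rw [comm_eq hk e1 e2]
  have hn : (zpowers ⁅p, q⁆).Normal := ⟨fun n hn g => by
    rw [mem_center_iff.1 (zpowers_le_of_mem w0 hn) g]; simpa using hn⟩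
  let π := QuotientGroup.mk' (zpowers ⁅p, q⁆)
  have c2 : Commute (π p) (π q) := commutatorElement_eq_one_iff_commute.1 (by
    rw [← map_commutatorElement]; exact (QuotientGroup.eq_one_iff _).2 (mem_zpowers _))
  have h4 := isMulCommutative_closure (k := π '' {p, q}) (by
    rintro _ ⟨a, rfl | rfl, rfl⟩ _ ⟨b, rfl | rfl, rfl⟩
    exacts [rfl, c2, c2.symm, rfl])
  rw [← MonoidHom.map_closure] at h4
  refine (QuotientGroup.eq_one_iff _).1 ?_
  change π _ = 1
  rw [map_commutatorElement, commutatorElement_eq_one_iff_mul_comm]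
  exact setLike_mul_comm (s := (closure {p, q}).map π) ⟨_, hx', rfl⟩ ⟨_, hy', rfl⟩

theorem core_inv [Finite H] (hs : Function.Surjective φ) (hk : φ.ker = center H)
    (hp : commutator H = ⊤) (ho : Odd (Nat.card (center H))) (hL : Nat.card L ∣ 2520) {p q : H}
    (p3 : φ p ^ 3 = 1) (q3 : φ q ^ 3 = 1) (c : Commute (φ p) (φ q)) (p1 : φ p ≠ 1)
    (hq : φ q ∉ zpowers (φ p)) {ψ : H →* H} (e1 : φ (ψ p) = φ p) (e2 : φ (ψ q) = (φ q)⁻¹) {w : H}
    (hw : w ∈ center H) : ψ w = w⁻¹ := by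
  obtain ⟨w0, -⟩ := cube_comm hk p3 c
  obtain ⟨n, rfl⟩ := (core hs hk hp ho hL p3 q3 c p1 hq).le hw
  have : ψ ⁅p, q⁆ = ⁅p, q⁆⁻¹ := by
    rw [map_commutatorElement, comm_eq hk e1 (e2.trans (map_inv φ q).symm)]
    have := mem_center_iff.1 (inv_mem w0) q
    calc ⁅p, q⁻¹⁆ = q⁻¹ * (⁅p, q⁆⁻¹ * q) := by simp only [commutatorElement_def]; group
      _ = _ := by rw [← this]; group
  simp only [map_zpow, this, inv_zpow]

theorem card6 : Nat.card A6 = 360 := by
  have := two_mul_nat_card_alternatingGroup (α := Fin 6)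
  rw [Nat.card_perm, Nat.card_fin] at this
  simp [Nat.factorial] at this ⊢
  omega

theorem card7 : Nat.card A7 = 2520 := by
  have := two_mul_nat_card_alternatingGroup (α := Fin 7)
  rw [Nat.card_perm, Nat.card_fin] at this
  simp [Nat.factorial] at this ⊢
  omega

/-- two independent commuting elements of order three -/
def Pair {L : Type} [Group L] (x y : L) : Prop :=
  x ^ 3 = 1 ∧ y ^ 3 = 1 ∧ Commute x y ∧ x ≠ 1 ∧ y ∉ zpowers x

theorem not_zp {x y : L} (x3 : x ^ 3 = 1) (h0 : y ≠ 1) (h1 : y ≠ x) (h2 : y ≠ x * x) :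
    y ∉ zpowers x := by
  rintro ⟨n, rfl⟩
  have e : x ^ n = x ^ (n % 3) := by
    conv_lhs => rw [← Int.mul_ediv_add_emod n 3, zpow_add, zpow_mul, zpow_ofNat, x3, one_zpow, one_mul]
  rcases (by omega : n % 3 = 0 ∨ n % 3 = 1 ∨ n % 3 = 2) with k | k | k <;> rw [k] at e
  · exact h0 (e.trans (zpow_zero x))
  · exact h1 (e.trans (zpow_one x))
  · exact h2 (e.trans (zpow_two x))

open Equiv in
def x6 : A6 := ⟨swap 3 4 * swap 4 5, Perm.mem_alternatingGroup.2 (by
  rw [map_mul, Perm.sign_swap (by decide), Perm.sign_swap (by decide)]; rfl)⟩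
open Equiv in
def y6 : A6 := ⟨swap 0 1 * swap 1 2, Perm.mem_alternatingGroup.2 (by
  rw [map_mul, Perm.sign_swap (by decide), Perm.sign_swap (by decide)]; rfl)⟩
open Equiv in
def x7 : A7 := ⟨swap 3 4 * swap 4 5, Perm.mem_alternatingGroup.2 (by
  rw [map_mul, Perm.sign_swap (by decide), Perm.sign_swap (by decide)]; rfl)⟩
open Equiv in
def y7 : A7 := ⟨swap 0 1 * swap 1 2, Perm.mem_alternatingGroup.2 (by
  rw [map_mul, Perm.sign_swap (by decide), Perm.sign_swap (by decide)]; rfl)⟩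

theorem pair6 : Pair x6 y6 :=
  ⟨by decide, by decide, (by decide : x6 * y6 = y6 * x6), by decide,
    not_zp (by decide) (by decide) (by decide) (by decide)⟩

theorem pair7 : Pair x7 y7 :=
  ⟨by decide, by decide, (by decide : x7 * y7 = y7 * x7), by decide,
    not_zp (by decide) (by decide) (by decide) (by decide)⟩

theorem zp_abs [Finite H] (hs : Function.Surjective φ) (hk : φ.ker = center H)
    (hp : commutator H = ⊤) (ho : Odd (Nat.card (center H))) (hL : Nat.card L ∣ 2520) {x y : L}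
    (h : Pair x y) : center H = ⊥ ∨ (Nat.card (center H) = 3 ∧ ∀ P : Subgroup H, Nat.card P = 27 →
      ¬ IsMulCommutative P) := by
  have : Fact (Nat.Prime 3) := ⟨Nat.prime_three⟩
  obtain ⟨p, rfl⟩ := hs x
  obtain ⟨q, rfl⟩ := hs y
  obtain ⟨p3, q3, c, p1, hq⟩ := h
  have h1 : Nat.card (center H) ∣ 3 := by
    rw [core hs hk hp ho hL p3 q3 c p1 hq, Nat.card_zpowers]
    exact orderOf_dvd_of_pow_eq_one (cube_comm hk p3 c).2
  rcases (Nat.dvd_prime Nat.prime_three).1 h1 with e | e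
  · exact Or.inl (card_eq_one.1 e)
  refine Or.inr ⟨e, fun P hP hc => ?_⟩
  have h2 : ¬ 3 ∣ P.index := fun k => by
    have h3 := P.card_mul_index
    have h4 := φ.ker.card_mul_index
    rw [index_ker, MonoidHom.range_eq_top.2 hs, card_top, hk, e, ← h3, hP] at h4
    obtain ⟨i, hi⟩ := k
    have : 27 ∣ Nat.card L := ⟨i, by rw [hi] at h4; omega⟩
    exact absurd (this.trans hL) (by decide)
  let Q : Sylow 3 H := (IsPGroup.of_card (n := 3) hP).toSylow h2
  have h3 : (Q : Subgroup H) ⊓ center H = ⊥ := by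
    rw [eq_bot_iff, ← Subgroup.commutator_self_eq_bot_iff.mpr hc]
    refine le_trans ?_ (H8.center_inf_commutator_inf_sylow_le Q)
    rw [hp, inf_top_eq, inf_comm]
  have h4 := (H8.isSylowIn_inf_normal Q (center H)).not_dvd
  rw [h3, Subgroup.relIndex_bot_left, e] at h4
  exact h4 dvd_rfl

theorem exists_alpha (hs : Function.Surjective φ) (hk : φ.ker = center H) (ψ : MulAut H) :
    ∃ α : MulAut L, ∀ x, α (φ x) = φ (ψ x) := by
  have hk2 : φ.ker = (φ.comp ψ.toMonoidHom).ker := by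
    ext x
    rw [MonoidHom.mem_ker (f := φ.comp _), MonoidHom.comp_apply, ← MonoidHom.mem_ker, hk,
      mem_center_iff, mem_center_iff]
    refine ⟨fun m g => ?_, fun m g => ψ.injective (by simpa using m (ψ g))⟩
    obtain ⟨g, rfl⟩ := ψ.surjective g
    simpa using congrArg ψ (m g)
  refine ⟨(QuotientGroup.quotientKerEquivOfSurjective φ hs).symm.trans
    ((QuotientGroup.quotientMulEquivOfEq hk2).trans (QuotientGroup.quotientKerEquivOfSurjective _
      (hs.comp ψ.surjective))), fun x => ?_⟩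
  have : (QuotientGroup.quotientKerEquivOfSurjective φ hs).symm (φ x) = QuotientGroup.mk x :=
    (MulEquiv.symm_apply_eq _).2 rfl
  rw [MulEquiv.trans_apply, this]
  rfl

/-- an involutory automorphism of `A₆` fixing `S₄` inverts an element of order three -/
theorem a6_inv {α : MulAut A6} (hα : ∀ x, α (α x) = x) {r : A6} (ho : Odd (orderOf r)) (r1 : r ≠ 1)
    (r5 : orderOf r ≠ 5) (hr : α r = r)
    (h24 : 24 ∣ Nat.card (α.toMonoidHom.eqLocus (MonoidHom.id _))) :
    (∀ x, α x = x) ∨ ∃ v, Pair r v ∧ α v = v⁻¹ := by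
  have : Fact (Nat.Prime 3) := ⟨Nat.prime_three⟩
  have o3 : orderOf r = 3 := by
    have h1 := S5057.order_le r
    have h2 : orderOf r ≠ 1 := fun e => r1 (orderOf_eq_one_iff.1 e)
    have := Nat.odd_iff.1 ho
    omega
  have r3 : r ^ 3 = 1 := o3 ▸ pow_orderOf_eq_one r
  have c3 : ∀ y, Commute r y → y ^ 3 = 1 := fun y c => by
    have h1 := S5057.order_le y
    have h2 := S5057.order_le (r * y)
    have h3 := orderOf_pos y
    by_cases k : 3 ∣ orderOf y
    · rw [← show orderOf y = 3 by omega, pow_orderOf_eq_one]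
    · rw [c.orderOf_mul_eq_mul_orderOf_of_coprime
        (o3 ▸ (Nat.Prime.coprime_iff_not_dvd Nat.prime_three).2 k), o3] at h2
      rw [orderOf_eq_one_iff.1 (show orderOf y = 1 by omega), one_pow]
  by_cases hy : ∀ y, Commute r y → α y = y
  · left
    set F := α.toMonoidHom.eqLocus (MonoidHom.id _)
    obtain ⟨P, hP⟩ := (IsPGroup.of_card (p := 3) (n := 1) (G := zpowers r)
      (by rw [Nat.card_zpowers, o3, pow_one])).exists_le_sylow
    have c9 : Nat.card P = 3 ^ 2 := by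
      rw [P.card_eq_multiplicity, card6, show 360 = 3 ^ 2 * 40 from rfl,
        Nat.factorization_mul (by decide) (by decide), Nat.factorization_pow]
      simp [Nat.prime_three.factorization, Nat.factorization_eq_zero_of_not_dvd (show ¬ 3 ∣ 40 by decide)]
    have := IsPGroup.isMulCommutative_of_card_eq_prime_sq c9
    have h9 : 9 ∣ Nat.card F := (show 9 = Nat.card P from c9.symm) ▸ card_dvd_of_le fun y m =>
      hy y (setLike_mul_comm (s := (P : Subgroup A6)) (hP (mem_zpowers r)) m)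
    obtain ⟨c', h72⟩ := Nat.Coprime.mul_dvd_of_dvd_of_dvd (by decide : Nat.Coprime 8 9)
      ((by decide : 8 ∣ 24).trans h24) h9
    have hi := F.index_mul_card
    have hF : F = ⊤ := by
      have := alternatingGroup.isSimpleGroup (α := Fin 6) (by simp)
      rcases F.normalCore_normal.eq_bot_or_eq_top with l | l
      · exfalso
        have h2 : F.normalCore.index ∣ F.index.factorial := by
          rw [normalCore_eq_ker, index_ker, index_eq_card, ← Nat.card_perm]
          exact card_subgroup_dvd_card _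
        rw [l, index_bot, card6] at h2
        rw [card6, h72] at hi
        have h3 : F.index ≤ 5 := by
          by_contra k
          have : 6 * (8 * 9 * 1) ≤ F.index * (8 * 9 * c') := Nat.mul_le_mul (by omega)
            (Nat.mul_le_mul_left _ (Nat.pos_of_ne_zero fun l => by simp [l] at hi))
          omega
        exact absurd (Nat.le_of_dvd (by decide) (h2.trans (Nat.factorial_dvd_factorial h3))) (by decide)
      · exact top_le_iff.1 (l ▸ F.normalCore_le)
    exact fun x => hF.ge (mem_top x)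
  · push Not at hy
    obtain ⟨y, c, hy⟩ := hy
    have e : α (y⁻¹ * α y) = (y⁻¹ * α y)⁻¹ := by rw [map_mul, map_inv, hα, mul_inv_rev, inv_inv]
    have c2 : Commute r (y⁻¹ * α y) := c.inv_right.mul_right (hr ▸ c.map α)
    refine Or.inr ⟨_, ⟨r3, c3 _ c2, c2, r1, ?_⟩, e⟩
    have v3 := c3 _ c2
    have v1 : y⁻¹ * α y ≠ 1 := fun l => hy (inv_mul_eq_one.1 l).symm
    generalize y⁻¹ * α y = v at *
    rintro ⟨n, rfl⟩
    simp only [map_zpow, hr] at e v3 v1
    refine v1 ?_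
    rwa [pow_succ, pow_two, mul_eq_one_iff_eq_inv.2 e, one_mul] at v3

end Abs

variable {G : Type u} [Group G]

theorem qt_hom {A : Subgroup G} {L : Type} [Group L] (h : Qt A L) :
    ∃ φ : A →* L, Function.Surjective φ ∧ φ.ker = center A := by
  obtain ⟨e⟩ := h
  refine ⟨e.toMonoidHom.comp (QuotientGroup.mk' _), e.surjective.comp (QuotientGroup.mk'_surjective _), ?_⟩
  rw [MonoidHom.ker_comp_of_injective _ _ e.injective, QuotientGroup.ker_mk']

theorem perf {A : Subgroup G} (h : Sd8 A) : commutator A = ⊤ := h.1.1.1.commutator_eq_top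

theorem zp : ZpStmt.{u} := by
  intro G _ _ A hA hq
  have key : ∀ {L : Type} [Group L], Qt A L → Nat.card L ∣ 2520 → ∀ {x y : L}, Pair x y →
      center A = ⊥ ∨ (Nat.card (center A) = 3 ∧ ∀ P : Subgroup G, P ≤ A → Nat.card P = 27 →
      ¬ IsMulCommutative P) := fun h hL _ _ hp => by
    obtain ⟨φ, hs, hk⟩ := qt_hom h
    refine (zp_abs hs hk (perf hA) hA.2.1 hL hp).imp_right fun k => ⟨k.1, fun P l c m => ?_⟩
    exact k.2 (P.subgroupOf A) ((Nat.card_congr (subgroupOfEquivOfLe l).toEquiv).trans c) inferInstance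
  rcases hq with h | h
  · exact key h (by rw [card6]; decide) pair6
  · exact key h (by rw [card7]) pair7

theorem mem_center {A : Subgroup G} {x : A} : x ∈ center A ↔ (x : G) ∈ centralizer (A : Set G) :=
  mem_center_iff.trans ⟨fun h g hg => congrArg Subtype.val (h ⟨g, hg⟩), fun h g => Subtype.ext (h g g.2)⟩

variable [Finite G] (h : St G)

theorem pow_Z {x : G} (hx : x ∈ h.A) (hk : x ∈ h.K) : x ^ Nat.card (center h.A) = 1 :=
  congrArg (fun y : center h.A => ((y : h.A) : G))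
    (pow_card_eq_one' (x := (⟨⟨x, hx⟩, mem_center.2 hk⟩ : center h.A)))

theorem aA : h.a ∈ h.A := h.sylD.le h.d8.aD
theorem bA : h.b ∈ h.A := h.sylD.le h.d8.symm.aD
theorem zA : h.z ∈ h.A := h.sylD.le h.d8.zD

theorem zK : h.z ∉ h.K := fun k => by
  obtain ⟨-, zz, z1, -⟩ := h.d8.rel
  obtain ⟨m, e⟩ := h.sd.2.1
  have := pow_Z h (zA h) k
  rw [e, pow_succ, pow_mul, pow_two, zz, one_pow, one_mul] at this
  exact z1 this

theorem zC : h.z ∈ h.C0 :=
  ⟨(h.DA.ge h.d8.zD).1, fun _ hx => (h.d8.zc hx).symm⟩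

theorem no7 : No7Stmt.{u} := by
  intro G _ _ h h168 c hc
  obtain ⟨aa, zz, z1, ab, -⟩ := h.d8.rel
  have bb := h.d8.symm.rel.1
  have key : ∀ f ∈ h.C0, Commute h.r f → Commute h.s (f * h.z) → False := fun f hf rf sf => by
    let π := h.A.normalizerMonoidHom
    let el : ∀ {x : G}, x ∈ h.A → h.N := fun c => ⟨_, le_normalizer c⟩
    let F : h.N := ⟨f, h.syl.le hf.1⟩
    have m0 := @hm0 _ _ _ _ _ π
    have m2 := @hm2 _ _ _ _ _ π
    have m3 := @hm3 _ _ _ _ _ π
    have mem : ∀ {x : G} (hx : x ∈ h.A), π (el hx) ∈ (MulAut.conj : h.A →* MulAut h.A).range :=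
      fun hx => ⟨⟨_, hx⟩, MulEquiv.ext fun _ => Subtype.ext rfl⟩
    refine abs7 (K := (MulAut.conj : h.A →* MulAut h.A).range) (f := π F) (a := π (el (aA h)))
      (b := π (el (bA h))) (z := π (el (zA h))) (r := π (el h.hr.mem)) (s := π (el h.hs.mem))
      (m0 aa) (m0 bb) (m0 zz) (fun l => zK h ?_)
      ((m2 (w := el (aA h) * el (zA h)) ab).trans (map_mul π _ _)) (m3 (h.d8.zc h.d8.aD))
      (m3 (h.d8.zc h.d8.symm.aD)) (m3 (hf.2 _ h.d8.aD).symm) (m3 (hf.2 _ h.d8.symm.aD).symm) (m3 rf)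
      (map_mul π _ _ ▸ m3 (y := F * el (zA h)) sf) (m2 h.hr.zr)
      ((m2 (w := el (aA h) * el (zA h)) h.hr.ar).trans (map_mul π _ _)) (m2 h.hs.zr)
      ((m2 (w := el (bA h) * el (zA h)) h.hs.ar).trans (map_mul π _ _)) (mem (aA h)) (mem (bA h))
      (mem h.hr.mem) (mem h.hs.mem) ?_
    · rw [← MonoidHom.mem_ker, normalizerMonoidHom_ker] at l
      exact l
    · rw [← index_ker, ← h168]
      congr 1
      ext x
      rw [MonoidHom.mem_ker, mem_center_iff, MulEquiv.ext_iff]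
      simp only [MulAut.conj_apply, MulAut.one_apply, mul_inv_eq_iff_eq_mul]
      exact forall_congr' fun _ => eq_comm
  by_contra! hn
  have hz := mul_mem hc (zC h)
  rcases h.hr.fix c hc with e1 | e1 <;> rcases h.hs.fix c hc with e2 | e2
  · exact hn.1 (h.iso c hc e1 e2)
  · exact key c hc e1 e2
  · exact key _ hz e1 (by rw [mul_assoc, zz, mul_one]; exact e2)
  · exact hn.2 (h.iso _ hz e1 e2)

theorem exists_psi {A : Subgroup G} {g : G} (hg : g ∈ normalizer (A : Set G)) :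
    ∃ ψ : MulAut A, ∀ x : A, (ψ x : G) = cn (x : G) g :=
  ⟨(A.normalizerMonoidHom ⟨g, hg⟩)⁻¹, fun x => by
    simp only [← map_inv]; exact congrArg (g⁻¹ * x * ·) (inv_inv g)⟩

theorem not_inn {L : Type} [Group L] {φ : h.A →* L} (hk : φ.ker = center h.A) {f : G}
    (hf : f ∈ h.C0) (ff : f * f = 1) (fK : f ∉ h.K) (fz : f * h.z ∉ h.K) {ψ : MulAut h.A}
    (hψ : ∀ x : h.A, (ψ x : G) = cn (x : G) f) (l : h.A) (e : ∀ x, φ (l * ψ x * l⁻¹) = φ x) : False := by
  have : Fact (Nat.Prime 2) := ⟨Nat.prime_two⟩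
  have h1 : f * (l : G)⁻¹ ∈ h.K := fun x hx => by
    have := congrArg Subtype.val (aut_one hk (perf h.sd)
      (ψ := (MulAut.conj l).toMonoidHom.comp ψ.toMonoidHom) e ⟨x, hx⟩)
    change (l : G) * ψ ⟨x, hx⟩ * (l : G)⁻¹ = x at this
    rw [hψ] at this
    conv_rhs => rw [← this]
    simp only [cn]; group
  obtain ⟨k, hk, rfl⟩ : ∃ k ∈ h.K, f = k * l := ⟨_, h1, by group⟩
  have c : Commute k (l : G) := (hk _ l.2).symm
  have h2 : (l : G) * l ∈ h.K := by
    rw [c.symm.mul_mul_mul_comm] at ff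
    rw [eq_inv_of_mul_eq_one_right ff]
    exact inv_mem (mul_mem hk hk)
  have h3 := pow_Z h (mul_mem l.2 l.2) h2
  have h4 : k * l = k ^ Nat.card (center h.A) * (l : G) ^ Nat.card (center h.A) := by
    obtain ⟨m, e⟩ := h.sd.2.1
    rw [← c.mul_pow, e, pow_succ, pow_mul, pow_two, ff, one_pow, one_mul]
  rw [(Commute.refl (l : G)).mul_pow] at h3
  have hk' := pow_mem hk (Nat.card (center h.A))
  have hl' := pow_mem l.2 (Nat.card (center h.A))
  rw [h4] at hf fK fz
  generalize k ^ Nat.card (center h.A) = k' at *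
  generalize (l : G) ^ Nat.card (center h.A) = l' at *
  have h5 : l' ∈ centralizer (h.D : Set G) :=
    (mul_mem_cancel_left (centralizer_le h.sylD.le hk')).1 hf.2
  have h6 : l' ∈ h.D := (h.sylD.eq_of_le (Q := h.D ⊔ zpowers l') (h.sylD.2.1.to_sup_of_normal_left'
    (IsPGroup.of_card_dvd_pow (n := 1) (by
      rw [Nat.card_zpowers]; exact orderOf_dvd_of_pow_eq_one (by rw [pow_one, pow_two, h3])))
    (zpowers_le_of_mem (centralizer_le_normalizer _ h5))) le_sup_left
    (sup_le h.sylD.le (zpowers_le_of_mem hl'))).le (mem_sup_right (mem_zpowers _))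
  rcases h.d8.zen h6 (h5 _ h.d8.aD).symm (h5 _ h.d8.symm.aD).symm with rfl | rfl
  · exact fK (by simpa using hk')
  · exact fz (by rwa [mul_assoc, h.d8.rel.2.1, mul_one])

theorem inv : InvStmt.{u} := by
  intro G _ _ h hq f hf ff fK fz rf w hw
  obtain ⟨ψ, hψ⟩ := exists_psi (h.syl.le hf.1)
  have hw' : (⟨w, hw.1⟩ : h.A) ∈ center h.A := mem_center.2 hw.2
  suffices ψ ⟨w, hw.1⟩ = ⟨w, hw.1⟩⁻¹ from (hψ ⟨w, hw.1⟩).symm.trans (congrArg Subtype.val this)
  generalize (⟨w, hw.1⟩ : h.A) = w' at hw'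
  rcases hq with q | q <;> obtain ⟨φ, hs, hk⟩ := qt_hom q <;> obtain ⟨α, hα⟩ := exists_alpha hs hk ψ
  · obtain ⟨aa, zz, z1, ab, -, az, -⟩ := h.d8.rel
    have mem : ∀ {x : G} (hx : x ∈ h.A), Commute x f → α (φ ⟨x, hx⟩) = φ ⟨x, hx⟩ := fun hx c =>
      (hα _).trans (congrArg φ (Subtype.ext ((hψ _).trans (H3.LTB.cn_comm c))))
    have m1 := @hm0 _ _ _ _ _ φ
    have m2 := @hm2 _ _ _ _ _ φ
    have m3 := @hm3 _ _ _ _ _ φ
    have z1 : φ ⟨_, zA h⟩ ≠ 1 := fun l => zK h (mem_center.1 (hk.le l))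
    have zr := m2 (x := ⟨_, zA h⟩) (y := ⟨_, h.hr.mem⟩) (w := ⟨_, aA h⟩) h.hr.zr
    have ar := (m2 (x := ⟨_, aA h⟩) (y := ⟨_, h.hr.mem⟩) (w := ⟨_, aA h⟩ * ⟨_, zA h⟩) h.hr.ar).trans
      (map_mul φ _ _)
    have ab' := (m2 (x := ⟨_, aA h⟩) (y := ⟨_, bA h⟩) (w := ⟨_, aA h⟩ * ⟨_, zA h⟩) ab).trans
      (map_mul φ _ _)
    have zb := m3 (x := ⟨_, zA h⟩) (y := ⟨_, bA h⟩) (h.d8.zc h.d8.symm.aD)
    have za := m3 (x := ⟨_, zA h⟩) (y := ⟨_, aA h⟩) (h.d8.zc h.d8.aD)
    have a2 := m1 (x := ⟨_, aA h⟩) aa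
    have nc : ¬ Commute (φ ⟨_, zA h⟩) (φ ⟨_, h.hr.mem⟩) := fun c => by
      rw [H3.LTB.cn_comm c] at zr
      rw [← zr, H3.LTB.cn_comm zb] at ab'
      exact z1 (by simpa using ab')
    have h24 := dvd24 (F := α.toMonoidHom.eqLocus (MonoidHom.id _)) a2
      (m1 (x := ⟨_, bA h⟩) h.d8.symm.rel.1) (m1 zz) z1 ab' za zb zr ar (mem _ (hf.2 _ h.d8.aD))
      (mem _ (hf.2 _ h.d8.symm.aD)) (mem _ rf)
    have r5 : orderOf (φ ⟨_, h.hr.mem⟩) ≠ 5 := fun e => nc (by
      generalize φ ⟨_, h.hr.mem⟩ = r at zr ar e ⊢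
      generalize φ ⟨_, zA h⟩ = z at zr ar za ⊢
      generalize φ ⟨_, aA h⟩ = a at zr ar za a2
      have r3 : cn z (r ^ 3) = z := by
        rw [pow_succ, pow_two, H10.LT.cn_cn, H10.LT.cn_cn, zr, ar, H10.LT.cn_mul, ar, zr, mul_assoc,
          za.eq, ← mul_assoc, a2, one_mul]
      have c : Commute z (r ^ 3) := H10.LT.of_cn r3
      have := c.pow_right 2
      rwa [← pow_mul, show 3 * 2 = 5 + 1 from rfl, pow_succ, ← e, pow_orderOf_eq_one, one_mul] at this)
    rcases a6_inv (α := α) (r := φ ⟨_, h.hr.mem⟩) (fun x => by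
        obtain ⟨x, rfl⟩ := hs x
        rw [hα, hα]
        refine congrArg φ (Subtype.ext ?_)
        rw [hψ, hψ, ← H10.LT.cn_cn, ff]; simp [cn])
      (h.hr.odd.of_dvd_nat ((orderOf_map_dvd φ _).trans (orderOf_mk _ _).dvd))
      (fun e => nc (e ▸ Commute.one_right _)) r5 (mem _ rf) h24 with k | ⟨v, k, e⟩
    · exact (not_inn h hk hf ff fK fz hψ 1 fun x => by simp [← hα, k]).elim
    · obtain ⟨q, rfl⟩ := hs v
      exact core_inv hs hk (perf h.sd) h.sd.2.1 (by rw [card6]; decide) k.1 k.2.1 k.2.2.1 k.2.2.2.1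
        k.2.2.2.2 (ψ := ψ.toMonoidHom) ((hα _).symm.trans (mem _ rf)) ((hα _).symm.trans e) hw'
  · obtain ⟨ρ, hρ⟩ := H95.AutAlt.exists_conj (α := Fin 7) (by simp) (by simp) α
    rcases Int.units_eq_one_or (Equiv.Perm.sign ρ) with e | e
    · obtain ⟨l, hl⟩ := hs ⟨ρ⁻¹, Equiv.Perm.mem_alternatingGroup.2 (by simp [e])⟩
      refine (not_inn h hk hf ff fK fz hψ l fun x => Subtype.ext ?_).elim
      rw [map_mul, map_mul, map_inv, ← hα, hl, coe_mul, coe_mul, coe_inv, hρ]
      group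
    · obtain ⟨l, hl⟩ := hs ⟨Equiv.swap 0 1 * ρ⁻¹, Equiv.Perm.mem_alternatingGroup.2 (by
        rw [map_mul, Equiv.Perm.sign_swap (by decide), Equiv.Perm.sign_inv, e]; rfl)⟩
      have k : ∀ x, ((φ (l * ψ x * l⁻¹) : A7) : Equiv.Perm (Fin 7)) =
          Equiv.swap 0 1 * ((φ x : A7) : Equiv.Perm (Fin 7)) * (Equiv.swap 0 1)⁻¹ := fun x => by
        rw [map_mul, map_mul, map_inv, ← hα, hl, coe_mul, coe_mul, coe_inv, hρ]
        group
      obtain ⟨p, hp⟩ := hs x7
      obtain ⟨q, hq⟩ := hs y7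
      have k2 := pair7
      rw [← hp, ← hq] at k2
      have := core_inv hs hk (perf h.sd) h.sd.2.1 (by rw [card7]) k2.1 k2.2.1 k2.2.2.1 k2.2.2.2.1
        k2.2.2.2.2 (ψ := (MulAut.conj l).toMonoidHom.comp ψ.toMonoidHom)
        (Subtype.ext ((k p).trans (by rw [hp]; decide))) (Subtype.ext ((k q).trans (by rw [hq]; decide)))
        hw'
      change l * ψ w' * l⁻¹ = w'⁻¹ at this
      rw [mul_inv_eq_iff_eq_mul, ← mem_center_iff.1 (inv_mem hw') l] at this
      exact mul_left_cancel this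

end Cfsg.Agent.H20.LT
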