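import Cfsg.Agent.H48.M2Defs

/-! The two extended arks of a pure four-group of the second kind commute. -/

set_option autoImplicit false

namespace Cfsg.Agent.H48.M2

open Cfsg Subgroup Cfsg.Agent.H48 Cfsg.Agent.H48.Rec Cfsg.Agent.H49 Cfsg.Agent.H95.Par
open Cfsg.Agent.H97.Gr (DD ZZ)
open Cfsg.Agent.H97.Yt (M)

namespace BC

theorem sng_le {N N' : Subgroup M} (h : Sng N) (le : N' ≤ N) : Sng N' :=
  fun u hu ne => ⟨(h u (le hu) ne).1, le.trans (h u (le hu) ne).2⟩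

theorem mem_sup {A Q : Subgroup M} {y x : M} (hy : y ∈ Q) (hx : x ∈ A ⊔ zpowers y) :
    x ∈ Q ⊔ A :=
  (sup_le le_sup_right ((zpowers_le_of_mem hy).trans le_sup_left) : A ⊔ zpowers y ≤ Q ⊔ A) hx

end BC

theorem bc_of (hBu : BuStmt) (hIdx : IdxStmt) : BcStmt := by
  intro w w' h x hx x' hx'
  obtain ⟨-, -, c16, -, le1, sg, hq, -⟩ := hBu w w' h
  obtain ⟨-, -, -, -, le2, -, -, -⟩ := hBu w' w h.symm
  rw [U0_comm] at le2
  obtain ⟨N1, m1, -, c1⟩ := hIdx _ _ h.t1.ark le1 sg x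
    fun u hu ne => BC.mem_sup (hq u hu ne).2 hx
  have l1 : N1 ≤ U0 w w' := fun u hu => ((m1 u).1 hu).1
  obtain ⟨N2, m2, -, c2⟩ := hIdx _ _ h.t2.ark (l1.trans le2) (BC.sng_le sg l1) x'
    fun u hu ne => BC.mem_sup (hq u (l1 hu) ne).1 hx'
  by_contra hne
  have sub : (N2 : Set M) ⊆ {1, x * x' * x⁻¹ * x'⁻¹} := by
    intro u hu
    by_cases e : u = 1
    · exact Or.inl e
    · obtain ⟨a, b⟩ := (m2 u).1 hu
      obtain ⟨a', b'⟩ := (m1 u).1 a
      exact Or.inr ((lx (sg u a' e).1).toXS.commutator_eq_z (b'.resolve_left e)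
        (b.resolve_left e) hne).symm
  have h2 : Nat.card N2 ≤ 2 := by
    have h3 := Set.ncard_le_ncard sub (Set.toFinite _)
    have h4 := Set.ncard_insert_le (1 : M) {x * x' * x⁻¹ * x'⁻¹}
    rw [Set.ncard_singleton] at h4
    exact le_trans h3 h4
  omega

end Cfsg.Agent.H48.M2
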