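import Cfsg.Agent.H1.MlD

/-! Project ML: basic lemmas on `JJ`, `fx`, `kr`, `BO`, `Nice`, `Tv`, `Tz`. -/

set_option autoImplicit false
set_option linter.unusedSectionVars false

namespace Cfsg.Agent.H20.ML

open Subgroup Cfsg.Agent.H83 Cfsg.Agent.H1.ML
open scoped commutatorElement

variable {G : Type*} [Group G] {M : Type*} [AddCommGroup M] [DistribMulAction G M]

section JJ

variable {𝒜 : Subgroup G → Prop} {P Q A : Subgroup G}

theorem JJ_le : JJ 𝒜 P ≤ P := sSup_le fun _ h => h.1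

theorem le_JJ (h : A ≤ P) (hA : 𝒜 A) : A ≤ JJ 𝒜 P := le_sSup ⟨h, hA⟩

theorem JJ_le_iff : JJ 𝒜 P ≤ Q ↔ ∀ A ≤ P, 𝒜 A → A ≤ Q :=
  ⟨fun h _ h1 h2 => (le_JJ h1 h2).trans h, fun h => sSup_le fun A hA => h A hA.1 hA.2⟩

theorem JJ_mono (h : P ≤ Q) : JJ 𝒜 P ≤ JJ 𝒜 Q :=
  JJ_le_iff.2 fun _ h1 h2 => le_JJ (h1.trans h) h2

theorem JJ_le_of_le (h : JJ 𝒜 P ≤ Q) : JJ 𝒜 P ≤ JJ 𝒜 Q :=
  JJ_le_iff.2 fun _ h1 h2 => le_JJ ((le_JJ h1 h2).trans h) h2

theorem JJ_idem : JJ 𝒜 (JJ 𝒜 P) = JJ 𝒜 P := le_antisymm JJ_le (JJ_le_of_le le_rfl)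

theorem JJ_eq_of_between (h1 : JJ 𝒜 Q ≤ P) (h2 : P ≤ Q) : JJ 𝒜 P = JJ 𝒜 Q :=
  le_antisymm (JJ_mono h2) (JJ_le_of_le h1)

theorem cj_JJ_le {g : G} (h : ∀ A, 𝒜 A → 𝒜 (cj g A)) (h1 : cj g (JJ 𝒜 P) ≤ Q) :
    cj g (JJ 𝒜 P) ≤ JJ 𝒜 Q :=
  cj_le_iff.2 (JJ_le_iff.2 fun A h2 h3 =>
    cj_le_iff.1 (le_JJ ((cj_mono g (le_JJ h2 h3)).trans h1) (h A h3)))

theorem cj_JJ {g : G} (h : ∀ A, 𝒜 A → 𝒜 (cj g A)) (h' : ∀ A, 𝒜 A → 𝒜 (cj g⁻¹ A))
    (P : Subgroup G) : cj g (JJ 𝒜 P) = JJ 𝒜 (cj g P) := by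
  refine le_antisymm (cj_JJ_le h (cj_mono g JJ_le)) ?_
  rw [← cj_le_cj_iff (g := g⁻¹), cj_inv_cj]
  exact cj_JJ_le h' ((cj_mono _ JJ_le).trans (cj_inv_cj g P).le)

theorem norm_JJ {g : G} (h : ∀ A, 𝒜 A → 𝒜 (cj g A)) (h' : ∀ A, 𝒜 A → 𝒜 (cj g⁻¹ A))
    (hg : g ∈ normalizer (P : Set G)) : g ∈ normalizer (JJ 𝒜 P : Set G) := by
  rw [← cj_eq_self_iff, cj_JJ h h', cj_eq_self hg]

theorem norm_of_cj_le [Finite G] {g : G} (h : cj g P ≤ P) : g ∈ normalizer (P : Set G) :=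
  cj_eq_self_iff.1 (eq_of_le_of_card_ge h (card_cj g P).ge)

theorem norm_JJ_of_le [Finite G] {g : G} (h : ∀ A, 𝒜 A → 𝒜 (cj g A))
    (h1 : cj g (JJ 𝒜 P) ≤ P) : g ∈ normalizer (JJ 𝒜 P : Set G) := norm_of_cj_le (cj_JJ_le h h1)

end JJ

theorem mem_fx {A : Subgroup G} {d : M} : d ∈ fx M A ↔ ∀ a ∈ A, a • d = d := Iff.rfl

theorem mem_kr {D : AddSubgroup M} {g : G} : g ∈ kr G D ↔ ∀ d ∈ D, g • d = d := Iff.rfl

theorem fx_anti {A B : Subgroup G} (h : A ≤ B) : fx M B ≤ fx M A := fun _ hd a ha => hd a (h ha)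

theorem le_kr_iff {A : Subgroup G} {D : AddSubgroup M} : A ≤ kr G D ↔ D ≤ fx M A :=
  ⟨fun h _ hd _ ha => h ha _ hd, fun h _ ha _ hd => h hd _ ha⟩

theorem fx_bot : fx M (⊥ : Subgroup G) = ⊤ :=
  eq_top_iff.2 fun d _ a ha => by rw [mem_bot.1 ha, one_smul]

theorem fx_sup (A B : Subgroup G) : fx M (A ⊔ B) = fx M A ⊓ fx M B := by
  refine le_antisymm (le_inf (fx_anti le_sup_left) (fx_anti le_sup_right)) ?_
  rw [← le_kr_iff, sup_le_iff, le_kr_iff, le_kr_iff]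
  exact ⟨inf_le_left, inf_le_right⟩

theorem smul_mem_fx_cj {A : Subgroup G} {g : G} {d : M} : g • d ∈ fx M (cj g A) ↔ d ∈ fx M A := by
  refine ⟨fun h a ha => ?_, fun h a ha => ?_⟩
  · have := h _ (conj_mem_cj ha)
    rw [mul_smul, mul_smul, inv_smul_smul] at this
    exact smul_left_cancel g this
  · have := h _ (mem_cj.1 ha)
    rw [mul_smul, mul_smul, inv_smul_eq_iff] at this
    exact this

theorem mem_fx_cj {A : Subgroup G} {g : G} {d : M} : d ∈ fx M (cj g A) ↔ g⁻¹ • d ∈ fx M A := by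
  rw [← smul_mem_fx_cj (g := g) (d := g⁻¹ • d), smul_inv_smul]

theorem smul_mem_fx {A : Subgroup G} {g : G} (hg : g ∈ normalizer (A : Set G)) {d : M} :
    g • d ∈ fx M A ↔ d ∈ fx M A := by
  rw [← smul_mem_fx_cj (g := g) (A := A) (d := d), cj_eq_self hg]

theorem relIndex_cj (g : G) (A B : Subgroup G) : (cj g A).relIndex (cj g B) = A.relIndex B :=
  relIndex_map_map_of_injective _ _ (MulAut.conj g).injective

theorem card_fx_cj {D : AddSubgroup M} {g : G} (hD : ∀ d, g • d ∈ D ↔ d ∈ D) (A : Subgroup G) :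
    Nat.card (D ⊓ fx M (cj g A) : AddSubgroup M) = Nat.card (D ⊓ fx M A : AddSubgroup M) := by
  refine (Nat.card_congr ((MulAction.toPerm g).subtypeEquiv fun d => ?_)).symm
  exact and_congr (hD d).symm smul_mem_fx_cj.symm

theorem cj_kr {D : AddSubgroup M} {g : G} (hD : ∀ d, g • d ∈ D ↔ d ∈ D) :
    cj g (kr G D) = kr G D := by
  ext x
  rw [mem_cj]
  refine ⟨fun h d hd => ?_, fun h d hd => ?_⟩
  · have := h (g⁻¹ • d) ((hD _).1 (by rwa [smul_inv_smul]))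
    rw [mul_smul, mul_smul, smul_inv_smul] at this
    exact smul_left_cancel _ this
  · rw [mul_smul, mul_smul, h _ ((hD d).2 hd), inv_smul_smul]

theorem BO_cj {D : AddSubgroup M} {g : G} (hD : ∀ d, g • d ∈ D ↔ d ∈ D) {A : Subgroup G}
    (h : BO D A) : BO D (cj g A) := by
  refine ⟨fun a ha b hb => ?_, fun B hB h1 => ?_⟩
  · rw [← cj_kr hD, mem_cj]
    convert h.1 _ (mem_cj.1 ha) _ (mem_cj.1 hb) using 1
    simp only [commutatorElement_def]; group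
  · obtain ⟨B, rfl⟩ : ∃ B', B = cj g B' := ⟨cj g⁻¹ B, (cj_cj_inv g B).symm⟩
    rw [← cj_kr hD, ← cj_inf, cj_le_cj_iff] at h1
    rw [card_fx_cj hD, card_fx_cj hD, relIndex_cj]
    exact h.2 B (cj_le_cj_iff.1 hB) h1

theorem BO_top_cj (g : G) {A : Subgroup G} (h : BO (⊤ : AddSubgroup M) A) :
    BO (⊤ : AddSubgroup M) (cj g A) := BO_cj (fun _ => Iff.rfl) h

theorem Nice_cj {p : ℕ} (g : G) {A : Subgroup G} (h : Nice M p A) : Nice M p (cj g A) := by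
  refine ⟨isPGroup_cj h.1 g, fun e => h.2.1 (cj_eq_bot_iff.1 e), BO_top_cj g h.2.2.1,
    fun B hB h1 v hv h2 a ha h3 => ?_⟩
  obtain ⟨B, rfl⟩ : ∃ B', B = cj g B' := ⟨cj g⁻¹ B, (cj_cj_inv g B).symm⟩
  rw [relIndex_cj] at h1
  have := h.2.2.2 B (cj_le_cj_iff.1 hB) h1 (g⁻¹ • v) (mem_fx_cj.1 hv)
    (by rw [smul_comm, h2, smul_zero]) _ (mem_cj.1 ha) fun e => h3 (mem_cj.2 e)
  have e := congrArg (g • ·) this
  simp only [Finset.smul_sum, smul_zero] at e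
  rw [← e]
  refine Finset.sum_congr rfl fun i _ => ?_
  rw [show g⁻¹ * a * g = g⁻¹ * a * g⁻¹⁻¹ by group, conj_pow, smul_smul, smul_smul]
  congr 1; group

theorem Qp_cj (g : G) {P : Subgroup G} (h : Qp M P) : Qp M (cj g P) := by
  obtain ⟨A, h1, h2, h3⟩ := h
  exact ⟨cj g A, cj_mono g h1, fun e => h2 (cj_eq_bot_iff.1 e), BO_top_cj g h3⟩

theorem Qp_mono {P Q : Subgroup G} (hPQ : P ≤ Q) (h : Qp M P) : Qp M Q := by
  obtain ⟨A, h1, h2, h3⟩ := h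
  exact ⟨A, h1.trans hPQ, h2, h3⟩

theorem Tv_cj (g : G) {a : G} {v : M} (h : Tv a v) : Tv (g * a * g⁻¹) (g • v) where
  alt d := by
    rcases h.alt (g⁻¹ • d) with e | e
    · left; rw [mul_smul, mul_smul, e, smul_inv_smul]
    · right; rw [mul_smul, mul_smul, e, smul_add, smul_inv_smul]
  ex := by
    obtain ⟨d, hd⟩ := h.ex
    exact ⟨g • d, fun e => hd (smul_left_cancel g (by
      rwa [mul_smul, mul_smul, inv_smul_smul] at e))⟩
  fix := by rw [mul_smul, mul_smul, inv_smul_smul, h.fix]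

theorem cj_zpowers (g a : G) : cj g (zpowers a) = zpowers (g * a * g⁻¹) :=
  MonoidHom.map_zpowers _ _

theorem Tz_cj (g : G) {A : Subgroup G} (h : Tz M A) : Tz M (cj g A) := by
  obtain ⟨a, v, h, rfl⟩ := h
  exact ⟨_, _, Tv_cj g h, cj_zpowers g a⟩

theorem cj_JNice (p : ℕ) (g : G) (P : Subgroup G) :
    cj g (JJ (Nice M p) P) = JJ (Nice M p) (cj g P) :=
  cj_JJ (𝒜 := Nice M p) (fun _ h => Nice_cj g h) (fun _ h => Nice_cj g⁻¹ h) P

theorem cj_JTz (g : G) (P : Subgroup G) : cj g (JJ (Tz M) P) = JJ (Tz M) (cj g P) :=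
  cj_JJ (𝒜 := Tz M) (fun _ h => Tz_cj g h) (fun _ h => Tz_cj g⁻¹ h) P

theorem norm_JNice (p : ℕ) (P : Subgroup G) :
    normalizer (P : Set G) ≤ normalizer (JJ (Nice M p) P : Set G) :=
  fun g hg => norm_JJ (𝒜 := Nice M p) (fun _ h => Nice_cj g h) (fun _ h => Nice_cj g⁻¹ h) hg

theorem norm_JTz (P : Subgroup G) : normalizer (P : Set G) ≤ normalizer (JJ (Tz M) P : Set G) :=
  fun g hg => norm_JJ (𝒜 := Tz M) (fun _ h => Tz_cj g h) (fun _ h => Tz_cj g⁻¹ h) hg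

/-- a proper subgroup of a `p`-group lies in a normal subgroup of index `p` -/
theorem exists_index_p [Finite G] {p : ℕ} [Fact p.Prime] {J J0 : Subgroup G} (hJ : IsPGroup p J)
    (h : J0 < J) : ∃ K : Subgroup G, J0 ≤ K ∧ K ≤ J ∧ K.relIndex J = p ∧
      J ≤ normalizer (K : Set G) := by
  have hp : p.Prime := Fact.out
  obtain ⟨k, hk⟩ := hJ.exists_card_eq
  obtain ⟨n, hn⟩ := (hJ.to_subgroup (J0.subgroupOf J)).exists_card_eq
  have hlt : n < k := by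
    by_contra hc
    refine h.not_ge (subgroupOf_eq_top.1 (eq_top_of_le_card _ ?_))
    rw [hk, hn]
    exact Nat.pow_le_pow_right hp.pos (not_lt.1 hc)
  obtain ⟨k, rfl⟩ : ∃ k', k = k' + 1 := ⟨k - 1, by omega⟩
  obtain ⟨K, hK, hle⟩ := Sylow.exists_subgroup_card_pow_prime_le p (G := J) (n := n) (m := k)
    (by rw [hk]; exact pow_dvd_pow p (Nat.le_succ k)) _ hn (by omega)
  have hi : K.index = p := by
    have := K.index_mul_card
    rw [hK, hk, pow_succ'] at this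
    exact Nat.eq_of_mul_eq_mul_right (pow_pos hp.pos k) this
  have hn : K.Normal := normal_of_index_eq_minFac_card (by
    rw [hi, hk, hp.pow_minFac (Nat.succ_ne_zero k)])
  have e : (K.map J.subtype).subgroupOf J = K := comap_map_eq_self_of_injective J.subtype_injective K
  refine ⟨K.map J.subtype, ?_, map_subtype_le K, by rw [relIndex, e, hi], ?_⟩
  · rw [← map_subgroupOf_eq_of_le h.le]
    exact map_mono hle
  · rw [← normal_subgroupOf_iff_le_normalizer (map_subtype_le K), e]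
    exact hn

end Cfsg.Agent.H20.ML
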