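import Mathlib
import Cfsg.Agent.H57.STBlock
import Cfsg.Agent.H21.Tilde
import Cfsg.Agent.H8.Tate
import Cfsg.Agent.H58.Simple
import Cfsg.Agent.H20.PPart

/-!
# Sylow 3-subgroups of order 9 with a weakly closed subgroup of order 3

Counting the elements whose 3-part is not conjugate into the weakly closed subgroup.
-/

set_option autoImplicit false

namespace Cfsg.Agent.H20.Nine

open Cfsg Subgroup H18

universe u

variable {G : Type u} [Group G] [Fintype G]

open Classical in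
/-- The `p`-section of `u`. -/
noncomputable def sec (p : ℕ) (u : G) : Finset G := Finset.univ.filter fun g => IsConj u (ppart p g)

open Classical in
/-- The `p`-regular elements of the centraliser of `u`. -/
noncomputable def reg (p : ℕ) (u : G) : Finset G :=
  Finset.univ.filter fun y => y * u = u * y ∧ ¬ p ∣ orderOf y

theorem mem_sec {p : ℕ} {u g : G} : g ∈ sec p u ↔ IsConj u (ppart p g) := by simp only [sec,
  Finset.mem_filter, Finset.mem_univ, true_and]

theorem mem_reg {p : ℕ} {u y : G} : y ∈ reg p u ↔ y * u = u * y ∧ ¬ p ∣ orderOf y := by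
  simp only [reg, Finset.mem_filter, Finset.mem_univ, true_and]

open Classical in
theorem card_cent (u : G) : Nat.card (centralizer ({u} : Set G)) =
    (Finset.univ.filter fun c => c * u = u * c).card := by
  rw [← Fintype.card_subtype, ← Nat.card_eq_fintype_card]
  exact Nat.card_congr (Equiv.subtypeEquivRight fun _ => mem_centralizer_singleton_iff)

theorem card_sec_le {p : ℕ} [hp : Fact p.Prime] {u : G} (hu : ∃ k : ℕ, orderOf u = p ^ k) :
    Nat.card (centralizer ({u} : Set G)) * (sec p u).card ≤ Nat.card G * (reg p u).card := by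
  classical
  have h := Finset.mul_card_image_le_card_of_maps_to (s := (Finset.univ : Finset G) ×ˢ reg p u)
    (t := sec p u) (f := fun z => z.1 * (u * z.2) * z.1⁻¹) ?_
    (Nat.card (centralizer ({u} : Set G))) ?_
  · rwa [Finset.card_product, Finset.card_univ, ← Nat.card_eq_fintype_card] at h
  · rintro ⟨k, y⟩ hz
    obtain ⟨h1, h2⟩ := mem_reg.1 (Finset.mem_product.1 hz).2
    rw [mem_sec, ppart_conj, ppart_eq_iff.2 (pPart_mul h1.symm hu h2)]
    exact isConj_iff.2 ⟨k, rfl⟩
  · intro g hg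
    obtain ⟨k, hk⟩ := isConj_iff.1 (mem_sec.1 hg)
    obtain ⟨y, h1, h2, -, h4⟩ := pPart_conj (isPPart_ppart (p := p) g) k⁻¹
    rw [← hk, show k⁻¹ * (k * u * k⁻¹) * k⁻¹⁻¹ = u by group] at h1 h2
    rw [card_cent u]
    refine Finset.card_le_card_of_injOn (fun c => (k * c, c⁻¹ * y * c)) (fun c hc => ?_)
      fun c _ d _ h => mul_left_cancel (Prod.ext_iff.1 h).1
    have hc : c * u = u * c := (Finset.mem_filter.1 hc).2
    have hc' : u = c * u * c⁻¹ := by rw [hc]; group
    simp only [Finset.coe_filter, Finset.mem_product, Finset.mem_univ, true_and, Set.mem_ofPred_eq]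
    refine ⟨mem_reg.2 ⟨?_, ?_⟩, ?_⟩
    · calc c⁻¹ * y * c * u = c⁻¹ * (y * u) * c := by rw [mul_assoc, hc]; group
        _ = c⁻¹ * (c * u * c⁻¹ * y) * c := by rw [← h2.eq, ← hc']
        _ = _ := by group
    · have := H21.orderOf_conj y c⁻¹
      rw [inv_inv] at this
      rwa [this]
    · calc k * c * (u * (c⁻¹ * y * c)) * (k * c)⁻¹ = k * (c * u * c⁻¹ * y) * k⁻¹ := by group
        _ = g := by rw [← hc', h1]; group

theorem three_mul_reg_lt {u x : G} (hu : orderOf u = 3) (hx : orderOf x = 3)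
    (hc : x * u = u * x) (hxu : x ∉ zpowers u) :
    3 * (reg 3 u).card < Nat.card (centralizer ({u} : Set G)) := by
  classical
  have hp : Nat.Prime 3 := Nat.prime_three
  have hpp : ∀ (i : ℕ) (y : G), y ∈ reg 3 u → IsPPart 3 (u ^ i * y) (u ^ i) := fun i y hy => by
    obtain ⟨h1, h2⟩ := mem_reg.1 hy
    refine pPart_mul (Commute.pow_left h1.symm i) ?_ h2
    have : orderOf (u ^ i) ∣ 3 ^ 1 := by rw [pow_one, ← hu]; exact orderOf_pow_dvd i
    obtain ⟨k, -, hk⟩ := (Nat.dvd_prime_pow hp).1 this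
    exact ⟨k, hk⟩
  rw [card_cent u]
  have h := Finset.card_le_card_of_injOn (s := Finset.range 3 ×ˢ reg 3 u)
    (t := (Finset.univ.filter fun c => c * u = u * c).erase x) (fun z => u ^ z.1 * z.2) ?_ ?_
  · rw [Finset.card_product, Finset.card_range, Finset.card_erase_of_mem (by simpa using hc)] at h
    have : 0 < (Finset.univ.filter fun c => c * u = u * c).card :=
      Finset.card_pos.2 ⟨1, by simp⟩
    omega
  · rintro ⟨i, y⟩ hz
    have hy := (Finset.mem_product.1 hz).2
    simp only [Finset.coe_erase, Finset.coe_filter, Finset.mem_univ, true_and, Set.mem_sdiff,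
      Set.mem_ofPred_eq, Set.mem_singleton_iff]
    refine ⟨?_, fun h => hxu ?_⟩
    · rw [mul_assoc, (mem_reg.1 hy).1, ← mul_assoc, ← mul_assoc, ← pow_succ, ← pow_succ']
    · have h1 := hpp i y hy
      rw [h] at h1
      rw [← pPart_unique hp h1 (pPart_self hp ⟨1, hx⟩)]
      exact pow_mem (mem_zpowers u) i
  · rintro ⟨i, y⟩ hz ⟨j, w⟩ hw h
    obtain ⟨hi, hy⟩ := Finset.mem_product.1 hz
    obtain ⟨hj, hw⟩ := Finset.mem_product.1 hw
    have h1 := hpp i y hy
    simp only at h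
    rw [h] at h1
    have h2 := pPart_unique hp h1 (hpp j w hw)
    have h3 : i = j := pow_injOn_Iio_orderOf (by rw [hu]; simpa using hi)
      (by rw [hu]; simpa using hj) h2
    subst h3
    rw [mul_left_cancel h]

theorem mul_reg_le {p : ℕ} [hp : Fact p.Prime] (R : Sylow p G) {u : G}
    (hR : ∀ a ∈ R, a * u = u * a)
    (h : ∀ n ∈ normalizer ((R : Subgroup G) : Set G), n * u = u * n → ∀ a ∈ R, n * a = a * n) :
    Nat.card R * (reg p u).card ≤ Nat.card (centralizer ({u} : Set G)) := by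
  classical
  have hle : (R : Subgroup G) ≤ centralizer ({u} : Set G) := fun a ha =>
    mem_centralizer_singleton_iff.2 (hR a ha)
  obtain ⟨K, hK, hc⟩ := H58.exists_normal_complement_of_normalizer_le (R.subtype hle) (by
    intro n hn a ha
    refine Subtype.ext (h n ?_ (mem_centralizer_singleton_iff.1 n.2) a ha).symm
    refine mem_normalizer_fintype fun b hb => ?_
    exact (mem_normalizer_iff.1 hn ⟨b, hle hb⟩).1 hb)
  have h1 := hc.card_mul_card
  have h2 : Nat.card (R.subtype hle) = Nat.card R :=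
    Nat.card_congr (subgroupOfEquivOfLe hle).toEquiv
  have h3 : K.index = Nat.card R := by rw [← h2]; exact hc.symm.index_eq_card
  rw [← h1, mul_comm]
  refine Nat.mul_le_mul ?_ h2.ge
  have := Fintype.ofFinite K
  rw [Nat.card_eq_fintype_card, ← Finset.card_univ]
  refine Finset.card_le_card_of_surjOn (fun k : K => (k.1 : G)) fun y hy => ?_
  obtain ⟨h4, h5⟩ := mem_reg.1 hy
  let y' : centralizer ({u} : Set G) := ⟨y, mem_centralizer_singleton_iff.2 h4⟩
  have h6 : y' ∈ K := by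
    rw [← QuotientGroup.eq_one_iff, ← orderOf_eq_one_iff]
    obtain ⟨k, hk⟩ := IsPGroup.iff_card.1 R.isPGroup'
    have h7 : orderOf (y' : _ ⧸ K) ∣ p ^ k := by
      rw [← hk]
      rw [← h3]; exact orderOf_dvd_natCard _
    have h8 : orderOf (y' : _ ⧸ K) ∣ orderOf y := by
      rw [show orderOf y = orderOf y' from orderOf_coe y']
      exact orderOf_map_dvd (QuotientGroup.mk' K) y'
    exact Nat.eq_one_of_dvd_coprimes
      (((Nat.Prime.coprime_iff_not_dvd hp.out).2 h5).pow_left k) h7 h8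
  exact ⟨⟨y', h6⟩, by simp, rfl⟩

omit [Fintype G] in
theorem mem_zp {x y : G} (hx : orderOf x = 3) : y ∈ zpowers x ↔ y = 1 ∨ y = x ∨ y = x⁻¹ := by
  classical
  have h3 : x ^ 3 = 1 := by rw [← hx, pow_orderOf_eq_one]
  have h2 : x ^ 2 = x⁻¹ := eq_inv_of_mul_eq_one_left (by rw [← pow_succ, h3])
  rw [(isOfFinOrder_iff_pow_eq_one.2 ⟨3, by norm_num, h3⟩).mem_zpowers_iff_mem_range_orderOf, hx]
  simp [Finset.range_add_one, h2, eq_comm]
  tauto

/-- A Sylow `3`-subgroup of order `9` and an element of order `3` generating a weakly closed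
subgroup. -/
structure ND (R : Sylow 3 G) (x : G) : Prop where
  card : Nat.card R = 9
  mem : x ∈ R
  ord : orderOf x = 3
  fus : ∀ g, g * x * g⁻¹ ∈ R → g * x * g⁻¹ = x ∨ g * x * g⁻¹ = x⁻¹

omit [Fintype G] in
theorem comm_of_nine {R : Subgroup G} (h : Nat.card R = 9) {a b : G} (ha : a ∈ R) (hb : b ∈ R) :
    a * b = b * a := by
  have : Fact (Nat.Prime 3) := ⟨Nat.prime_three⟩
  have := IsPGroup.isMulCommutative_of_card_eq_prime_sq (p := 3) (G := R) h
  exact congrArg Subtype.val (this.is_comm.comm (⟨a, ha⟩ : R) ⟨b, hb⟩)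

namespace ND

variable {R : Sylow 3 G} {x : G}

omit [Fintype G] in
theorem comm (h : ND R x) {a b : G} (ha : a ∈ R) (hb : b ∈ R) : a * b = b * a :=
  comm_of_nine h.card ha hb

omit [Fintype G] in
theorem zp_le (h : ND R x) {y : G} (hy : y ∈ zpowers x) : y ∈ R :=
  (zpowers_le (H := R)).2 h.mem hy

omit [Fintype G] in
theorem conj_mem (h : ND R x) {y k : G} (hy : y ∈ zpowers x) (hk : k * y * k⁻¹ ∈ R) :
    k * y * k⁻¹ ∈ zpowers x := by
  rcases (mem_zp h.ord).1 hy with rfl | rfl | rfl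
  · simp
  · rcases h.fus k hk with h1 | h1 <;> rw [h1]
    exacts [mem_zpowers _, inv_mem (mem_zpowers _)]
  · have h0 : k * x⁻¹ * k⁻¹ = (k * x * k⁻¹)⁻¹ := by group
    rw [h0] at hk ⊢
    rcases h.fus k ((inv_mem_iff (H := (R : Subgroup G))).1 hk) with h1 | h1 <;> rw [h1]
    exacts [inv_mem (mem_zpowers _), inv_mem (inv_mem (mem_zpowers _))]

omit [Fintype G] in
theorem index_eq (h : ND R x) : ((zpowers x).subgroupOf R).index = 3 := by
  have h1 := ((zpowers x).subgroupOf R).card_mul_index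
  have h2 : Nat.card ((zpowers x).subgroupOf R) = Nat.card (zpowers x) :=
    Nat.card_congr (subgroupOfEquivOfLe (H := zpowers x) (K := R) fun _ => h.zp_le).toEquiv
  rw [h2, Nat.card_zpowers, h.ord] at h1
  have := h.card
  change 3 * _ = Nat.card R at h1
  omega

omit [Fintype G] in
theorem normal (h : ND R x) : ((zpowers x).subgroupOf R).Normal :=
  ⟨fun a ha k => h.conj_mem ha (k * a * k⁻¹).2⟩

omit [Fintype G] in
theorem dich (h : ND R x) {u v : G} (hu : u ∈ R) (hu' : u ∉ zpowers x) (hv : v ∈ R) :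
    v ∈ zpowers x ∨ u⁻¹ * v ∈ zpowers x ∨ u * v ∈ zpowers x := by
  have := h.normal
  have : Fact (Nat.Prime 3) := ⟨Nat.prime_three⟩
  let π := QuotientGroup.mk' ((zpowers x).subgroupOf R)
  have hπ : ∀ a : R, π a = 1 ↔ (a : G) ∈ zpowers x := fun a => QuotientGroup.eq_one_iff a
  have h1 : π ⟨u, hu⟩ ≠ 1 := fun h1 => hu' ((hπ _).1 h1)
  have h2 : orderOf (π ⟨u, hu⟩) = 3 := orderOf_eq_prime (by
    have := pow_card_eq_one' (x := π ⟨u, hu⟩)
    rwa [show Nat.card (_ ⧸ _) = 3 from h.index_eq] at this) h1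
  have h3 : π ⟨v, hv⟩ ∈ zpowers (π ⟨u, hu⟩) := by
    rw [zpowers_eq_top_of_prime_card h.index_eq h1]; trivial
  rcases (mem_zp h2).1 h3 with h4 | h4 | h4
  · exact Or.inl ((hπ _).1 h4)
  · exact Or.inr (Or.inl ((hπ ((⟨u, hu⟩ : R)⁻¹ * ⟨v, hv⟩)).1 (by rw [map_mul, map_inv, h4]; simp)))
  · exact Or.inr (Or.inr ((hπ ((⟨u, hu⟩ : R) * ⟨v, hv⟩)).1 (by rw [map_mul, h4]; simp)))

omit [Fintype G] in
theorem exists_notMem (h : ND R x) : ∃ u ∈ R, u ∉ zpowers x := by
  by_contra! h1
  have := h.index_eq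
  rw [subgroupOf_eq_top.2 h1, index_top] at this
  omega

theorem exists_inv (h : ND R x) (hG : commutator G = ⊤) :
    ∃ n ∈ normalizer ((R : Subgroup G) : Set G), ∀ v ∈ R, n * v * n⁻¹ * v ∈ zpowers x := by
  have : Fact (Nat.Prime 3) := ⟨Nat.prime_three⟩
  have h1 := H8.commutator_inf_sylow_eq_commutator_normalizer R
    (IsPGroup.isMulCommutative_of_card_eq_prime_sq (p := 3) h.card)
  rw [hG, top_inf_eq] at h1
  obtain ⟨a, ha, n, hn, han⟩ : ∃ a ∈ R, ∃ n ∈ normalizer ((R : Subgroup G) : Set G),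
      a * n * a⁻¹ * n⁻¹ ∉ zpowers x := by
    by_contra! h2
    obtain ⟨u, hu, hu'⟩ := h.exists_notMem
    refine hu' ((?_ : (R : Subgroup G) ≤ zpowers x) hu)
    rw [h1]
    exact commutator_le.2 h2
  have hN : ∀ v ∈ R, n * v * n⁻¹ ∈ R := fun v hv => (mem_normalizer_iff.1 hn v).1 hv
  have hz : ∀ v ∈ zpowers x, n * v * n⁻¹ ∈ zpowers x := fun v hv =>
    h.conj_mem hv (hN v (h.zp_le hv))
  have ha' : a ∉ zpowers x := fun h2 => han (by
    rw [show a * n * a⁻¹ * n⁻¹ = a * (n * a⁻¹ * n⁻¹) by group]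
    exact mul_mem h2 (hz _ (inv_mem h2)))
  have hb : n * a * n⁻¹ * a ∈ zpowers x := by
    rcases h.dich ha ha' (hN a ha) with h2 | h2 | h2
    · have := h.conj_mem (k := n⁻¹) h2 (by simpa [mul_assoc] using ha)
      exact absurd (by simpa [mul_assoc] using this) ha'
    · refine absurd ?_ han
      rw [h.comm (inv_mem ha) (hN a ha)] at h2
      simpa [mul_assoc] using inv_mem h2
    · rwa [h.comm ha (hN a ha)] at h2
  refine ⟨n, hn, fun v hv => ?_⟩
  rcases h.dich ha ha' hv with h2 | h2 | h2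
  · exact mul_mem (hz v h2) h2
  · have h3 := h.comm (h.zp_le (hz _ h2)) ha
    have : n * v * n⁻¹ * v = (n * a * n⁻¹ * a) * (n * (a⁻¹ * v) * n⁻¹) * (a⁻¹ * v) := by
      rw [mul_assoc (n * a * n⁻¹), ← h3]; group
    rw [this]
    exact mul_mem (mul_mem hb (hz _ h2)) h2
  · have h3 := h.comm (h.zp_le (hz _ h2)) (inv_mem ha)
    have h4 := h.comm (inv_mem ha) (inv_mem (hN a ha))
    have : n * v * n⁻¹ * v = (n * a * n⁻¹ * a)⁻¹ * (n * (a * v) * n⁻¹) * (a * v) := by
      rw [mul_inv_rev (n * a * n⁻¹), h4, mul_assoc (n * a * n⁻¹)⁻¹, ← h3]; group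
    rw [this]
    exact mul_mem (mul_mem (inv_mem hb) (hz _ h2)) h2

/-- Every element of `R` outside `⟨x⟩` is conjugate into a given coset. -/
theorem conj_coset (h : ND R x) (hG : commutator G = ⊤) {u v : G} (hu : u ∈ R)
    (hu' : u ∉ zpowers x) (hv : v ∈ R) (hv' : v ∉ zpowers x) :
    IsConj u v ∨ IsConj (u * x) v ∨ IsConj (u * x⁻¹) v := by
  have key : ∀ w, u⁻¹ * w ∈ zpowers x → w = u ∨ w = u * x ∨ w = u * x⁻¹ := fun w hw => by
    rcases (mem_zp h.ord).1 hw with h1 | h1 | h1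
    · exact Or.inl (inv_mul_eq_one.1 h1).symm
    · exact Or.inr (Or.inl (by rw [← h1]; group))
    · exact Or.inr (Or.inr (by rw [← h1]; group))
  rcases h.dich hu hu' hv with h2 | h2 | h2
  · exact absurd h2 hv'
  · rcases key v h2 with h1 | h1 | h1 <;> rw [h1]
    exacts [Or.inl (IsConj.refl _), Or.inr (Or.inl (IsConj.refl _)),
      Or.inr (Or.inr (IsConj.refl _))]
  · obtain ⟨n, hn, hinv⟩ := h.exists_inv hG
    have h3 : u⁻¹ * (n * v * n⁻¹) ∈ zpowers x := by
      have h4 := mul_mem (hinv v hv) (inv_mem h2)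
      rwa [h.comm (inv_mem hu) ((mem_normalizer_iff.1 hn v).1 hv),
        show n * v * n⁻¹ * u⁻¹ = n * v * n⁻¹ * v * (u * v)⁻¹ by group]
    have h4 : IsConj (n * v * n⁻¹) v := (isConj_iff.2 ⟨n, rfl⟩).symm
    rcases key _ h3 with h1 | h1 | h1 <;> rw [h1] at h4
    exacts [Or.inl h4, Or.inr (Or.inl h4), Or.inr (Or.inr h4)]

end ND

open Classical in
/-- The elements whose `3`-part is not conjugate into `⟨x⟩`. -/
noncomputable def SS (x : G) : Finset G :=
  Finset.univ.filter fun g => ¬ ∃ k, k * ppart 3 g * k⁻¹ ∈ zpowers x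

theorem mem_SS {x g : G} : g ∈ SS x ↔ ¬ ∃ k, k * ppart 3 g * k⁻¹ ∈ zpowers x := by
  simp only [SS, Finset.mem_filter, Finset.mem_univ, true_and]

namespace ND

variable {R : Sylow 3 G} {x : G}

theorem SS_sub [DecidableEq G] (h : ND R x) (hG : commutator G = ⊤) {u : G} (hu : u ∈ R)
    (hu' : u ∉ zpowers x) : SS x ⊆ sec 3 u ∪ sec 3 (u * x) ∪ sec 3 (u * x⁻¹) := by
  have : Fact (Nat.Prime 3) := ⟨Nat.prime_three⟩
  intro g hg
  obtain ⟨k, hk⟩ := H57.ST.IV.exists_conj_mem R (pPart_isPElt (isPPart_ppart (p := 3) g))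
  have h1 : IsConj (k * ppart 3 g * k⁻¹) (ppart 3 g) := (isConj_iff.2 ⟨k, rfl⟩).symm
  simp only [Finset.mem_union, mem_sec]
  rcases h.conj_coset hG hu hu' hk fun h2 => mem_SS.1 hg ⟨k, h2⟩ with h2 | h2 | h2
  exacts [Or.inl (Or.inl (h2.trans h1)), Or.inl (Or.inr (h2.trans h1)), Or.inr (h2.trans h1)]

theorem card_SS_lt (h : ND R x) (hG : commutator G = ⊤) : 3 * (SS x).card < 2 * Nat.card G := by
  classical
  have : Fact (Nat.Prime 3) := ⟨Nat.prime_three⟩
  have hpos : 0 < Nat.card G := Nat.card_pos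
  have hel : ∀ u ∈ R, ∃ k : ℕ, orderOf u = 3 ^ k := fun u hu => isPElt_of_mem R.isPGroup' hu
  have hnot : ∀ u, u ∉ zpowers x → ∀ y ∈ zpowers x, u * y ∉ zpowers x := fun u hu y hy h1 =>
    hu (by simpa using mul_mem h1 (inv_mem hy))
  by_cases hc : ∀ u ∈ R, u ∉ zpowers x → ∀ n ∈ normalizer ((R : Subgroup G) : Set G),
      n * u = u * n → ∀ a ∈ R, n * a = a * n
  · have key : ∀ u ∈ R, u ∉ zpowers x → 9 * (sec 3 u).card ≤ Nat.card G := fun u hu hu' => by
      have h1 := card_sec_le (hel u hu)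
      have h2 := mul_reg_le R (fun a ha => h.comm ha hu) (hc u hu hu')
      rw [h.card] at h2
      have h3 : 0 < Nat.card (centralizer ({u} : Set G)) := Nat.card_pos
      nlinarith
    obtain ⟨u, hu, hu'⟩ := h.exists_notMem
    have h1 := (Finset.card_le_card (h.SS_sub hG hu hu')).trans
      ((Finset.card_union_le _ _).trans (Nat.add_le_add_right (Finset.card_union_le _ _) _))
    have h2 := key u hu hu'
    have h3 := key _ (mul_mem hu h.mem) (hnot u hu' x (mem_zpowers x))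
    have h4 := key _ (mul_mem hu (inv_mem h.mem)) (hnot u hu' _ (inv_mem (mem_zpowers x)))
    omega
  · push Not at hc
    obtain ⟨u, hu, hu', n, hn, hnu, a, ha, hna⟩ := hc
    have hx3 : x ^ 3 = 1 := by rw [← h.ord, pow_orderOf_eq_one]
    have hnx : n * x * n⁻¹ = x⁻¹ := by
      refine (h.fus n ((mem_normalizer_iff.1 hn x).1 h.mem)).resolve_left fun h1 => hna ?_
      have h2 : ∀ y ∈ zpowers x, Commute n y := fun y hy => by
        obtain ⟨i, rfl⟩ := hy
        exact Commute.zpow_right (mul_inv_eq_iff_eq_mul.1 h1) i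
      have h3 : Commute n u := hnu
      rcases h.dich hu hu' ha with h4 | h4 | h4
      · exact h2 a h4
      · simpa using (h3.mul_right (h2 _ h4)).eq
      · simpa using (h3.inv_right.mul_right (h2 _ h4)).eq
    have hxx : x ≠ x⁻¹ := fun h1 => by
      have : orderOf x ∣ 2 := orderOf_dvd_of_pow_eq_one (by rw [sq]; nth_rw 2 [h1]; simp)
      rw [h.ord] at this; omega
    have hu3 : u ^ 3 = 1 := by
      have h1 : u ^ 3 ∈ zpowers x := by
        have := h.normal
        have := ((zpowers x).subgroupOf R).pow_index_mem (⟨u, hu⟩ : R)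
        rwa [h.index_eq] at this
      have h2 : n * u ^ 3 * n⁻¹ = u ^ 3 := by
        rw [(Commute.pow_right hnu 3).eq, mul_inv_cancel_right]
      rcases (mem_zp h.ord).1 h1 with h3 | h3 | h3
      · exact h3
      · rw [h3, hnx] at h2; exact absurd h2.symm hxx
      · rw [h3, show n * x⁻¹ * n⁻¹ = (n * x * n⁻¹)⁻¹ by group, hnx, inv_inv] at h2
        exact absurd h2 hxx
    have key : ∀ v ∈ R, v ∉ zpowers x → v ^ 3 = 1 → 3 * (sec 3 v).card < Nat.card G :=
      fun v hv hv' hv3 => by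
      have h0 : orderOf v = 3 := orderOf_eq_prime hv3 fun h1 => hv' (h1 ▸ one_mem _)
      have h1 := card_sec_le (hel v hv)
      have h2 := three_mul_reg_lt h0 h.ord (h.comm h.mem hv) fun h3 => hv' (by
        rcases (mem_zp h0).1 h3 with h4 | h4 | h4
        · have := h.ord; rw [h4, orderOf_one] at this; omega
        · rw [h4]; exact mem_zpowers _
        · rw [h4]; simp)
      nlinarith
    have h1 : sec 3 (u * x⁻¹) ⊆ sec 3 (u * x) := fun g hg => mem_sec.2
      ((isConj_iff.2 ⟨n, by rw [← hnx, ← mul_assoc n, hnu]; group⟩).trans (mem_sec.1 hg))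
    have h2 := Finset.card_le_card (h.SS_sub hG hu hu')
    rw [Finset.union_assoc, Finset.union_eq_left.2 h1] at h2
    have h3 := h2.trans (Finset.card_union_le _ _)
    have h4 := key u hu hu' hu3
    have h5 := key _ (mul_mem hu h.mem) (hnot u hu' x (mem_zpowers x))
      (by rw [Commute.mul_pow (h.comm hu h.mem), hu3, hx3, one_mul])
    omega

end ND

end Cfsg.Agent.H20.Nine
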