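import Mathlib
import Cfsg.Agent.H20.Nine3
import Cfsg.Agent.H11.Isometry
import Cfsg.Agent.H19.GaloisNum
import Cfsg.Agent.H19.GaloisBlock

/-!
# Sylow 3-subgroups of order 9: two irreducible characters of consecutive degrees
-/

set_option autoImplicit false

namespace Cfsg.Agent.H20.Nine

open Cfsg Subgroup H18 H11 H19

universe u

variable {G : Type u} [Group G] [Fintype G]

open Classical in
noncomputable def phi (x g : G) : ℂ := if ∃ k, k * g * k⁻¹ ∈ zpowers x then 0 else 3

noncomputable def Th (x g : G) : ℂ := phi x (ppart 3 g)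

theorem phi_class (x : G) : IsClassFunction G (phi x) := fun g a => by
  have : (∃ k, k * (a * g * a⁻¹) * k⁻¹ ∈ zpowers x) ↔ ∃ k, k * g * k⁻¹ ∈ zpowers x :=
    ⟨fun ⟨k, hk⟩ => ⟨k * a, by convert hk using 1; group⟩,
      fun ⟨k, hk⟩ => ⟨k * a⁻¹, by convert hk using 1; group⟩⟩
  simp only [phi, this]

theorem Th_eq [DecidableEq G] (x g : G) : Th x g = if g ∈ SS x then 3 else 0 := by
  simp only [Th, phi, mem_SS, ite_not]

theorem Th_reg (x : G) {g : G} (hg : ¬ 3 ∣ orderOf g) : Th x g = 0 := by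
  have : Fact (Nat.Prime 3) := ⟨Nat.prime_three⟩
  rw [Th, ppart_eq_iff.2 (pPart_one_of_not_dvd hg), phi, if_pos ⟨1, by simp⟩]

namespace ND

variable {R : Sylow 3 G} {x : G}

open Classical in
theorem phi_of_mem (h : ND R x) {y : G} (hy : y ∈ R) :
    phi x y = if y ∈ zpowers x then 0 else 3 := by
  have : (∃ k, k * y * k⁻¹ ∈ zpowers x) ↔ y ∈ zpowers x :=
    ⟨fun ⟨k, hk⟩ => by
      have := h.conj_mem (k := k⁻¹) hk (by simpa [mul_assoc] using hy)
      simpa [mul_assoc] using this, fun hk => ⟨1, by simpa using hk⟩⟩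
  simp only [phi, this]

open Classical in
theorem Th_of_mem (h : ND R x) {y : G} (hy : y ∈ R) :
    Th x y = if y ∈ zpowers x then 0 else 3 := by
  have : Fact (Nat.Prime 3) := ⟨Nat.prime_three⟩
  rw [Th, ppart_eq_iff.2 (pPart_self Nat.prime_three (isPElt_of_mem R.isPGroup' hy)),
    h.phi_of_mem hy]

theorem isGen_res (h : ND R x) : IsGeneralizedCharacter R (fun y : R => phi x y) := by
  have := h.normal
  have h1 := isGen_sub (isGen_natCast_smul (isGen_one (G := R)) 3)
    (isGen_comp (isGen_of_isCharacter (isCharacter_regChar (G := R ⧸ (zpowers x).subgroupOf R)))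
      (QuotientGroup.mk' _))
  convert h1 using 2 with y
  rw [h.phi_of_mem y.2]
  simp only [Pi.sub_apply, Pi.smul_apply, smul_eq_mul, mul_one, QuotientGroup.mk'_apply]
  split_ifs with hy
  · rw [(QuotientGroup.eq_one_iff y).2 hy, regChar_one,
      show Nat.card (_ ⧸ _) = 3 from h.index_eq, sub_self]
  · rw [regChar_of_ne_one fun h2 =>
      hy ((QuotientGroup.eq_one_iff (N := (zpowers x).subgroupOf R) y).1 h2)]; simp

theorem isGen (h : ND R x) : IsGeneralizedCharacter G (Th x) := by
  have : Fact (Nat.Prime 3) := ⟨Nat.prime_three⟩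
  refine H57.ST.star_isGen (phi_class x) fun Q hQ => ?_
  obtain ⟨S, hS⟩ := hQ.exists_le_sylow
  obtain ⟨k, hk⟩ := MulAction.exists_smul_eq G S R
  let F : Q →* R := MonoidHom.codRestrict ((MulAut.conj k).toMonoidHom.comp Q.subtype) _
    fun y => by
      rw [← hk]
      exact smul_mem_pointwise_smul _ (MulAut.conj k) _ (hS y.2)
  convert isGen_comp h.isGen_res F using 2 with y
  exact (phi_class x _ _).symm

theorem sum_Th (x : G) : ∑ g, Th x g = 3 * (SS x).card := by
  classical
  simp only [Th_eq]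
  rw [Finset.sum_ite_mem, Finset.univ_inter, Finset.sum_const, nsmul_eq_mul, mul_comm]

theorem inner_one (h : ND R x) (hG : commutator G = ⊤) : classInner (Th x) (fun _ => 1) = 1 := by
  classical
  obtain ⟨m, hm⟩ := exists_int_classInner h.isGen isGen_one
  have h1 := hm
  simp only [classInner_def, map_one, mul_one, sum_Th] at h1
  have h0 : (Nat.card G : ℂ) ≠ 0 := Nat.cast_ne_zero.2 Nat.card_pos.ne'
  have h2 : (3 * (SS x).card : ℤ) = Nat.card G * m := by
    rw [inv_mul_eq_iff_eq_mul₀ h0] at h1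
    exact_mod_cast h1
  have h3 : (3 * (SS x).card : ℤ) < 2 * Nat.card G := by exact_mod_cast h.card_SS_lt hG
  obtain ⟨u, hu, hu'⟩ := h.exists_notMem
  have h4 : 0 < (SS x).card := by
    refine Finset.card_pos.2 ⟨u, by_contra fun h4 => ?_⟩
    have := h.Th_of_mem hu
    rw [Th_eq, if_neg h4, if_neg hu'] at this
    norm_num at this
  have h5 : (0 : ℤ) < Nat.card G := by exact_mod_cast (Nat.card_pos : 0 < Nat.card G)
  have h6 : m = 1 := by
    have : 0 < m := by by_contra! h7; nlinarith
    have : m < 2 := by by_contra! h7; nlinarith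
    omega
  rw [hm, h6, Int.cast_one]

theorem inner_self (h : ND R x) (hG : commutator G = ⊤) : classInner (Th x) (Th x) = 3 := by
  classical
  have h1 := h.inner_one hG
  rw [classInner_def] at h1 ⊢
  rw [← mul_one (3 : ℂ), ← h1, mul_left_comm, Finset.mul_sum _ _ (3 : ℂ)]
  congr 1
  refine Finset.sum_congr rfl fun g _ => ?_
  rw [Th_eq]; split_ifs <;> simp [map_ofNat]

theorem not_dvd (h : ND R x) (hG : commutator G = ⊤) {M : Ideal AlgInt} (hM : IsPModular 3 M)
    {ξ : IrrCharacter G} (hξ : ξ ∈ principalBlock M G) {ε : ℂ} (hε : ε = 1 ∨ ε = -1)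
    (hi : classInner (Th x) ξ.1 = ε) : ¬ 3 ∣ charDegree ξ.1 := by
  classical
  have : Fact (Nat.Prime 3) := ⟨Nat.prime_three⟩
  have hcl := isClassFunction_of_isGen h.isGen
  let c : G → ℂ := fun g => 3⁻¹ * Th x g⁻¹
  have hc : IsClassFunction G c := fun g a => by
    simp only [c]
    rw [show (a * g * a⁻¹)⁻¹ = a * g⁻¹ * a⁻¹ by group, hcl]
  have hv : ∀ g, c g ∈ Vr M := fun g => by
    simp only [c, Th_eq]
    split_ifs
    · rw [inv_mul_cancel₀ three_ne_zero]; exact one_mem _
    · rw [mul_zero]; exact zero_mem _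
  have h0 : (Nat.card G : ℂ) ≠ 0 := Nat.cast_ne_zero.2 Nat.card_pos.ne'
  have key : ∀ ζ : IrrCharacter G, H21.om ζ.1 c =
      classInner (Th x) ζ.1 * (Nat.card G / (3 * charDegree ζ.1 : ℕ)) := fun ζ => by
    have h1 : (charDegree ζ.1 : ℂ) ≠ 0 := Nat.cast_ne_zero.2 (H21.deg_ne_zero ζ)
    rw [H21.classInner_eq_om, ← H21.cast_deg, show c = (3⁻¹ : ℂ) • fun g => Th x g⁻¹ from rfl,
      H21.om_smul]
    push_cast
    field_simp
  have h1 := H21.val_om_sub_lt_one hM.2.1 (χ := H21.triv G) (ψ := ξ) hξ hc hv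
  have h9 : (Nat.card G).factorization 3 = 2 := by
    have := R.card_eq_multiplicity
    rw [show Nat.card (R : Subgroup G) = 3 ^ 2 from h.card] at this
    exact (Nat.pow_right_injective (by norm_num) this).symm
  have h2 : val M (H21.om (H21.triv G).1 c) < 1 := by
    rw [key, H21.triv_coe, h.inner_one hG, one_mul, H21.charDegree_one,
      val_natCast_div_lt_one_iff hM Nat.card_pos.ne' (by norm_num), h9]
    simp [Nat.prime_three.factorization_self]
  have h3 := val_sub_lt_one h2 h1
  rw [sub_sub_cancel, key, hi, map_mul] at h3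
  have h4 : val M ε = 1 := by rcases hε with rfl | rfl <;> simp
  rw [h4, one_mul, val_natCast_div_lt_one_iff hM Nat.card_pos.ne'
    (mul_ne_zero (by norm_num) (H21.deg_ne_zero ξ)), h9,
    Nat.factorization_mul (by norm_num) (H21.deg_ne_zero ξ), Finsupp.add_apply,
    Nat.prime_three.factorization_self] at h3
  intro hd
  have := (Nat.prime_three.dvd_iff_one_le_factorization (H21.deg_ne_zero ξ)).1 hd
  omega

/-- The two characters of consecutive degrees. -/
theorem exists_chars (h : ND R x) (hG : commutator G = ⊤) :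
    ∃ χ ψ : IrrCharacter G, χ ≠ H21.triv G ∧ ψ ≠ H21.triv G ∧
      charDegree ψ.1 = charDegree χ.1 + 1 ∧ ¬ 3 ∣ charDegree χ.1 ∧ ¬ 3 ∣ charDegree ψ.1 ∧
      ∀ g, 1 + χ.1 g - ψ.1 g = Th x g := by
  classical
  have : Fact (Nat.Prime 3) := ⟨Nat.prime_three⟩
  have h1 := h.inner_one hG
  have h2 := classInner_self_sub_smul_irr (φ := Th x) isIrrCharacter_one (m := 1)
    (by rw [h1, Int.cast_one])
  rw [h.inner_self hG, Int.cast_one, one_smul] at h2
  have h3 : classInner (Th x - fun _ => 1) (fun _ => 1) = 0 := by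
    rw [classInner_sub_left, h1, classInner_irr_self isIrrCharacter_one, sub_self]
  obtain ⟨ε, δ, α, β, hε, hδ, hα, hβ, hne, he⟩ := exists_of_classInner_self_eq_two
    (isGen_sub h.isGen isGen_one) (by rw [h2]; norm_num)
  have hT1 : Th x 1 = 0 := Th_reg x (by simp)
  -- reduce to `ε = 1`, `δ = -1`
  have main : ∀ α β : IrrCharacter G, α.1 ≠ β.1 → (Th x - fun _ => 1) = α.1 - β.1 →
      ∃ χ ψ : IrrCharacter G, χ ≠ H21.triv G ∧ ψ ≠ H21.triv G ∧
      charDegree ψ.1 = charDegree χ.1 + 1 ∧ ¬ 3 ∣ charDegree χ.1 ∧ ¬ 3 ∣ charDegree ψ.1 ∧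
      ∀ g, 1 + χ.1 g - ψ.1 g = Th x g := fun α β hne he => by
    have hT : Th x = (fun _ => 1) + α.1 - β.1 := by rw [add_sub_assoc, ← he]; abel
    have hd : charDegree β.1 = charDegree α.1 + 1 := by
      have := congrFun hT 1
      simp only [hT1, Pi.sub_apply, Pi.add_apply, ← H21.cast_deg] at this
      have h4 : (charDegree β.1 : ℂ) = charDegree α.1 + 1 := by linear_combination this
      exact_mod_cast h4
    rw [he, classInner_sub_left, classInner_irr α.2 isIrrCharacter_one,
      classInner_irr β.2 isIrrCharacter_one] at h3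
    have hβ1 : β.1 ≠ fun _ => 1 := fun h4 => by
      rw [h4, H21.charDegree_one] at hd
      have := H21.deg_pos α
      omega
    have hα1 : α.1 ≠ fun _ => 1 := fun h4 => by
      rw [if_pos h4, if_neg hβ1] at h3
      norm_num at h3
    obtain ⟨M, hM⟩ := exists_isPModular Nat.prime_three
    have hB := H21.blockPart_vanish_reg hM (H21.isPBlock_principal (G := G))
      (θ := Th x) (fun g hg => Th_reg x hg) (x := 1) (by simp)
    have ht := H21.blockPart_irr_of_mem (H21.triv_mem_principal (G := G) hM.2.1)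
    rw [H21.triv_coe] at ht
    rw [hT, H21.blockPart_sub, H21.blockPart_add, ht] at hB
    have hmem : α ∈ principalBlock M G ∧ β ∈ principalBlock M G := by
      have h5 := H21.cast_deg α
      have h6 := H21.cast_deg β
      have h7 := H21.deg_pos α
      by_cases ha : α ∈ principalBlock M G <;> by_cases hb : β ∈ principalBlock M G
      · exact ⟨ha, hb⟩
      · rw [H21.blockPart_irr_of_mem ha, H21.blockPart_irr_of_notMem hb] at hB
        simp only [Pi.sub_apply, Pi.add_apply, ← h5, Pi.zero_apply, sub_zero] at hB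
        have : 1 + charDegree α.1 = 0 := by exact_mod_cast hB
        omega
      · rw [H21.blockPart_irr_of_notMem ha, H21.blockPart_irr_of_mem hb] at hB
        simp only [Pi.sub_apply, ← h6, add_zero] at hB
        have : 1 = charDegree β.1 := by exact_mod_cast sub_eq_zero.1 hB
        omega
      · rw [H21.blockPart_irr_of_notMem ha, H21.blockPart_irr_of_notMem hb] at hB
        simp at hB
    refine ⟨α, β, fun h4 => hα1 (congrArg Subtype.val h4), fun h4 => hβ1 (congrArg Subtype.val h4),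
      hd, h.not_dvd hG hM hmem.1 (Or.inl rfl) ?_, h.not_dvd hG hM hmem.2 (Or.inr rfl) ?_,
      fun g => (congrFun hT g).symm⟩
    · rw [hT, classInner_sub_left, classInner_add_left, classInner_irr_self α.2,
        classInner_irr_of_ne β.2 α.2 hne.symm, classInner_irr_of_ne isIrrCharacter_one α.2 hα1.symm]
      ring
    · rw [hT, classInner_sub_left, classInner_add_left, classInner_irr_self β.2,
        classInner_irr_of_ne α.2 β.2 hne, classInner_irr_of_ne isIrrCharacter_one β.2 hβ1.symm]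
      ring
  have h4 := congrFun he 1
  have h5 := H21.cast_deg ⟨α, hα⟩
  have h6 := H21.cast_deg ⟨β, hβ⟩
  have h7 := H21.deg_pos ⟨α, hα⟩
  have h8 := H21.deg_pos ⟨β, hβ⟩
  simp only [Pi.sub_apply, hT1, Pi.add_apply, Pi.smul_apply, smul_eq_mul] at h4 h5 h6 h7 h8
  rw [← h5, ← h6] at h4
  rcases hε with rfl | rfl <;> rcases hδ with rfl | rfl
  · have : (0 : ℤ) - 1 = 1 * charDegree α + 1 * charDegree β := by exact_mod_cast h4
    omega
  · exact main ⟨α, hα⟩ ⟨β, hβ⟩ hne (by rw [he]; ext g; simp [sub_eq_add_neg])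
  · exact main ⟨β, hβ⟩ ⟨α, hα⟩ hne.symm (by rw [he]; ext g; simp [sub_eq_add_neg, add_comm])
  · have : (0 : ℤ) - 1 = -1 * charDegree α + -1 * charDegree β := by exact_mod_cast h4
    omega

end ND

end Cfsg.Agent.H20.Nine
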