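import Mathlib

/-! Transfer: a lift whose square lies in the commutator subgroup of a Sylow 2-subgroup. -/

set_option autoImplicit false

namespace Cfsg.Agent.H20.PcLift

open Subgroup MulAction
open scoped commutatorElement

variable {G : Type*} [Group G]

open Classical in
/-- the sign of a subgroup of index two -/
noncomputable def sgn {S : Subgroup G} (hS : S.index = 2) : G →* ℤˣ :=
  MonoidHom.mk' (fun g => if g ∈ S then 1 else -1) fun a b => by
    have := mul_mem_iff_of_index_two hS (a := a) (b := b)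
    by_cases ha : a ∈ S <;> by_cases hb : b ∈ S <;> simp_all

theorem sgn_mem {S : Subgroup G} (hS : S.index = 2) {g : G} (h : g ∈ S) : sgn hS g = 1 := by
  simp [sgn, h]

theorem sgn_not {S : Subgroup G} (hS : S.index = 2) {g : G} (h : g ∉ S) : sgn hS g = -1 := by
  simp [sgn, h]

theorem lift [Finite G] {S T : Subgroup G} (hS : S.index = 2)
    (ho : Odd ((⁅S, S⁆ : Subgroup G).relIndex S)) (hT : IsPGroup 2 T) (hi : Odd T.index) :
    ∃ y ∈ T, y ∉ S ∧ y * y ∈ (⁅T, T⁆ : Subgroup G) := by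
  classical
  have nS : S.Normal := normal_of_index_eq_two hS
  obtain ⟨x, hx⟩ : ∃ x, x ∉ S := by
    by_contra hn
    push Not at hn
    rw [(eq_top_iff' S).mpr hn, index_top] at hS
    exact absurd hS (by decide)
  let V : G →* Abelianization T := MonoidHom.transfer (Abelianization.of : T →* Abelianization T)
  have p2 : IsPGroup 2 (Abelianization T) := hT.to_quotient _
  have VS : ∀ s ∈ S, V s = 1 := by
    intro s hs
    have h1 : (⁅S, S⁆ : Subgroup G) ≤ V.ker :=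
      (commutator_mono le_top le_top).trans (Abelianization.commutator_subset_ker V)
    have h2 : s ^ (⁅S, S⁆ : Subgroup G).relIndex S ∈ (⁅S, S⁆ : Subgroup G) :=
      mem_subgroupOf.mp (pow_index_mem ((⁅S, S⁆ : Subgroup G).subgroupOf S) ⟨s, hs⟩)
    have h3 : V s ^ (⁅S, S⁆ : Subgroup G).relIndex S = 1 := by
      rw [← map_pow]; exact h1 h2
    obtain ⟨k, hk⟩ := p2 (V s)
    have c : Nat.Coprime ((⁅S, S⁆ : Subgroup G).relIndex S) (2 ^ k) :=
      Nat.Coprime.pow_right _ ((Nat.coprime_two_right).mpr ho)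
    exact orderOf_eq_one_iff.mp (Nat.eq_one_of_dvd_coprimes c (orderOf_dvd_of_pow_eq_one h3)
      (orderOf_dvd_of_pow_eq_one hk))
  obtain ⟨t, ht⟩ : ∃ t : T, Abelianization.of t = V x := QuotientGroup.mk_surjective (V x)
  let ψ : Abelianization T →* ℤˣ := Abelianization.lift ((sgn hS).comp T.subtype)
  have e : ψ (V x) = sgn hS x ^ T.index := by
    letI := Fintype.ofFinite (Quotient (orbitRel (zpowers x) (G ⧸ T)))
    simp only [V]
    rw [MonoidHom.transfer_eq_prod_quotient_orbitRel_zpowers_quot, map_prod,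
      index_eq_sum_minimalPeriod T x, ← Finset.prod_pow_eq_pow_sum]
    refine Finset.prod_congr rfl fun q _ => ?_
    simp [ψ, mul_comm]
    rw [← mul_assoc, Int.units_mul_self, one_mul]
  refine ⟨t, t.2, fun hh => ?_, ?_⟩
  · rw [← ht, sgn_not hS hx, hi.neg_one_pow] at e
    have : ψ (Abelianization.of t) = 1 := by simpa [ψ] using sgn_mem hS hh
    rw [this] at e
    exact absurd e (by decide)
  · have h1 : Abelianization.of (t * t) = 1 := by
      rw [map_mul, ht, ← map_mul]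
      exact VS _ (mul_self_mem_of_index_two hS x)
    have h2 : t * t ∈ commutator T := by
      rw [← Abelianization.ker_of]; exact h1
    have h3 := mem_map_of_mem T.subtype h2
    rwa [_root_.commutator_def, map_commutator, ← MonoidHom.range_eq_map, range_subtype] at h3

/-- ambient form, inside a subgroup `H` -/
theorem lift' [Finite G] {S T H : Subgroup G} (SH : S ≤ H) (TH : T ≤ H) (hS : S.relIndex H = 2)
    (ho : Odd ((⁅S, S⁆ : Subgroup G).relIndex S)) (hT : IsPGroup 2 T)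
    (hi : Odd (T.relIndex H)) : ∃ y ∈ T, y ∉ S ∧ y * y ∈ (⁅T, T⁆ : Subgroup G) := by
  have m : ∀ U : Subgroup G, U ≤ H →
      (⁅U.subgroupOf H, U.subgroupOf H⁆ : Subgroup H).map H.subtype = ⁅U, U⁆ := fun U h => by
    rw [map_commutator, subgroupOf_map_subtype, inf_eq_left.mpr h]
  obtain ⟨y, h1, h2, h3⟩ := lift (G := H) (S := S.subgroupOf H) (T := T.subgroupOf H) hS
    (by
      rw [← relIndex_map_map_of_injective _ _ H.subtype_injective, m S SH,
        subgroupOf_map_subtype, inf_eq_left.mpr SH]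
      exact ho)
    (hT.of_equiv (subgroupOfEquivOfLe TH).symm) hi
  refine ⟨y, h1, h2, ?_⟩
  rw [← m T TH]
  exact mem_map_of_mem H.subtype h3

/-- the commutator subgroup of `T₀⟨y⟩` -/
theorem comm_le {T₀ : Subgroup G} {y : G} {N : Subgroup G}
    (hn : T₀ ⊔ zpowers y ≤ normalizer (N : Set G)) (h1 : ∀ a ∈ T₀, ∀ b ∈ T₀, ⁅a, b⁆ ∈ N)
    (h2 : ∀ a ∈ T₀, ⁅a, y⁆ ∈ N) : (⁅T₀ ⊔ zpowers y, T₀ ⊔ zpowers y⁆ : Subgroup G) ≤ N := by
  have key : ∀ U : Subgroup G, U ≤ T₀ ⊔ zpowers y → ∀ g ∈ T₀ ⊔ zpowers y,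
      (∀ a ∈ T₀, ⁅a, g⁆ ∈ N) → ⁅y, g⁆ ∈ N → ∀ a ∈ T₀ ⊔ zpowers y, ⁅a, g⁆ ∈ N := by
    intro _ _ g _ c1 c2 a ha
    let W : Subgroup G :=
      { carrier := {a | a ∈ T₀ ⊔ zpowers y ∧ ⁅a, g⁆ ∈ N}
        one_mem' := ⟨one_mem _, by simp⟩
        mul_mem' := fun {a b} ha hb => ⟨mul_mem ha.1 hb.1, by
          have : ⁅a * b, g⁆ = a * ⁅b, g⁆ * a⁻¹ * ⁅a, g⁆ := by
            simp only [commutatorElement_def]; group
          rw [this]
          exact mul_mem ((mem_normalizer_iff.mp (hn ha.1) _).mp hb.2) ha.2⟩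
        inv_mem' := fun {a} ha => ⟨inv_mem ha.1, by
          have : ⁅a⁻¹, g⁆ = a⁻¹ * ⁅a, g⁆⁻¹ * a⁻¹⁻¹ := by
            simp only [commutatorElement_def]; group
          rw [this]
          exact (mem_normalizer_iff.mp (hn (inv_mem ha.1)) _).mp (inv_mem ha.2)⟩ }
    have : T₀ ⊔ zpowers y ≤ W := sup_le (fun a ha => ⟨mem_sup_left ha, c1 a ha⟩)
      (zpowers_le.mpr ⟨mem_sup_right (mem_zpowers y), c2⟩)
    exact (this ha).2
  have sw : ∀ a b : G, ⁅a, b⁆ ∈ N → ⁅b, a⁆ ∈ N := fun a b h => by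
    rw [← commutatorElement_inv]; exact inv_mem h
  have hyy : ∀ a ∈ T₀ ⊔ zpowers y, ⁅a, y⁆ ∈ N :=
    key ⊥ bot_le y (mem_sup_right (mem_zpowers y)) h2 (by simp)
  have ht : ∀ b ∈ T₀, ∀ a ∈ T₀ ⊔ zpowers y, ⁅a, b⁆ ∈ N := fun b hb =>
    key ⊥ bot_le b (mem_sup_left hb) (fun a ha => h1 a ha b hb) (sw _ _ (h2 b hb))
  refine commutator_le.mpr fun a ha b hb => ?_
  exact key ⊥ bot_le b hb (fun c hc => sw _ _ (ht c hc b hb)) (sw _ _ (hyy b hb)) a ha

end Cfsg.Agent.H20.PcLift
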