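import Cfsg.Agent.H4.SvDefs
import Cfsg.Agent.H27.SympBasic

/-! `Sp₆(2)` is generated by a Sylow `2`-subgroup and its conjugates by the simple reflections. -/

set_option autoImplicit false

namespace Cfsg.Agent.H20.SvGen

open Matrix Cfsg.Agent.H4.SV Cfsg.Agent.H27

def xx (i : Fin 3) : T9 :=
  ![⟨1, 0, 0, 0, 0, 0, 0, 0, 0⟩, ⟨0, 0, 1, 0, 0, 0, 0, 0, 0⟩, ⟨0, 0, 0, 0, 0, 0, 0, 0, 1⟩] i

def gn (i : ℕ) : M6 := if i < 3 then mat (xx (Fin.ofNat 3 i)) else (mat (xx (Fin.ofNat 3 i)))ᵀ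

def vc (u : ℕ) : Fin 3 ⊕ Fin 3 → ZMod 2 := Sum.elim (fun j => bt u j) fun j => bt u (j + 3)

def node (k : ℕ) : ℕ := [1, 3, 2, 7, 6, 5, 39, 4, 38, 37, 35, 51, 36, 34, 50, 33, 53, 55, 19, 57,
  32, 52, 54, 18, 58, 49, 23, 63, 21, 61, 25, 41, 48, 22, 60, 20, 62, 26, 43, 46, 17, 59, 29, 31,
  45, 9, 16, 56, 30, 44, 28, 47, 42, 11, 14, 27, 13, 24, 40, 15, 12, 10, 8].getD k 0

def par (k : ℕ) : ℕ := [0, 0, 1, 1, 2, 3, 3, 4, 4, 5, 6, 6, 7, 8, 8, 9, 9, 10, 11, 11, 12, 12, 13,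
  14, 14, 15, 16, 16, 16, 17, 18, 19, 20, 21, 21, 21, 22, 23, 24, 24, 25, 25, 26, 27, 29, 30, 32,
  32, 33, 34, 34, 36, 36, 37, 39, 40, 42, 46, 47, 48, 49, 54, 57].getD k 0

def gi (k : ℕ) : ℕ := [0, 3, 0, 4, 4, 1, 5, 1, 5, 5, 2, 4, 5, 2, 4, 2, 4, 4, 1, 3, 2, 4, 4, 1, 3,
  4, 1, 3, 5, 3, 3, 0, 4, 1, 3, 5, 3, 3, 0, 4, 1, 3, 3, 5, 0, 0, 1, 3, 3, 0, 5, 0, 4, 0, 5, 3, 0,
  3, 0, 0, 5, 4, 0].getD k 0

theorem chk : ∀ k < 63, 0 < k → par k < k ∧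
    ∀ i, (gn (gi k) *ᵥ vc (node (par k))) i = vc (node k) i := by decide +kernel

theorem surj : ∀ a b c d e f : ZMod 2, ∃ k < 64, ∀ i,
    Sum.elim ![a, b, c] ![d, e, f] i = vc (node k) i := by decide +kernel

theorem low : ∀ i : Fin 3, ∀ a b, ((mat (xx i))ᵀ * smat i) a b = (smat i * mat (xx i)) a b := by
  decide +kernel

def t0 : M6 := 1 + (1 : ZMod 2) • Matrix.vecMulVec (vc (node 0))
    (Matrix.J (Fin 3) (ZMod 2) *ᵥ vc (node 0))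

def t1 : M6 := mat ⟨0, 0, 0, 1, 0, 0, 0, 0, 0⟩

theorem first : t0 = t1 := by decide +kernel

theorem gen (e1 : Emb1Stmt) : GenStmt := by
  intro Y h1 h2
  have hg : ∀ i, ∃ y ∈ Y, y.1 = gn i := fun i => by
    unfold gn
    split_ifs
    · exact ⟨⟨_, e1.1 _⟩, h1 _ _ rfl, rfl⟩
    · exact ⟨⟨_, SymplecticGroup.transpose_mem (e1.1 _)⟩,
        h2 _ _ _ (Matrix.ext (low _)), rfl⟩
  have key : ∀ k < 63, spTv (vc (node k)) 1 ∈ Y := fun k => by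
    induction k using Nat.strong_induction_on with
    | _ k ih =>
      intro hk
      rcases Nat.eq_zero_or_pos k with rfl | h0
      · exact h1 _ ⟨0, 0, 0, 1, 0, 0, 0, 0, 0⟩ first
      obtain ⟨a, b⟩ := chk k hk h0
      obtain ⟨y, hy, e⟩ := hg (gi k)
      rw [← funext b, ← e, ← spTv_conj]
      exact mul_mem (mul_mem hy (ih _ a (by omega))) (inv_mem hy)
  refine sp_eq_top_of_spTv_mem _ fun w c => ?_
  rcases (by decide : ∀ c : ZMod 2, c = 0 ∨ c = 1) c with rfl | rfl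
  · rw [spTv_zero]; exact one_mem _
  obtain ⟨k, hk, e⟩ := surj (w (.inl 0)) (w (.inl 1)) (w (.inl 2)) (w (.inr 0)) (w (.inr 1))
    (w (.inr 2))
  obtain rfl : w = vc (node k) := funext fun i => by
    rw [← e]
    rcases i with i | i <;> fin_cases i <;> rfl
  rcases Nat.lt_succ_iff_lt_or_eq.1 hk with h | rfl
  · exact key k h
  · have : vc (node 63) = 0 := by decide +kernel
    rw [this, spTv_zero_vec]; exact one_mem _

end Cfsg.Agent.H20.SvGen
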