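import Cfsg.Agent.H34.PDefs
import Cfsg.Agent.H22.UHeis

/-!
# Overgroups of odd index of the Levi factor of a unitary group permute its root elements
-/

set_option autoImplicit false
set_option linter.unusedSectionVars false

namespace Cfsg.Agent.H20.UE

open Cfsg Cfsg.Agent.H63 Cfsg.Agent.H63.SL Cfsg.Agent.H34 Cfsg.Agent.H34.TW Cfsg.Agent.H34.UM
  Cfsg.Agent.H34.UE Cfsg.Agent.H31 Cfsg.Agent.H22.UH Subgroup Module
open Cfsg.Agent.H8 (IsSylowIn)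
open Cfsg.Agent.H27.End (Rt CQ mem_C comm_of_C is2_of_sq mem_N_of_conj conj_mem)
open scoped commutatorElement

universe u v

/-- Two involutions of `H` can be moved into one Sylow subgroup. -/
theorem dih2 {G : Type u} [Group G] [Finite G] {U H : Subgroup G} (hU : IsSylowIn 2 U H) {a b : G}
    (ha : a ∈ H) (hb : b ∈ H) (a2 : a * a = 1) (b2 : b * b = 1) :
    ∃ j : ℕ, ∃ k ∈ H, (a * b) ^ j * a * ((a * b) ^ j)⁻¹ = ((a * b) * (a * b)) ^ j * a ∧
      k * (((a * b) * (a * b)) ^ j * a) * k⁻¹ ∈ U ∧ k * b * k⁻¹ ∈ U := by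
  have : Fact (Nat.Prime 2) := ⟨Nat.prime_two⟩
  obtain ⟨e, m, ⟨j, rfl⟩, hm⟩ := Nat.exists_eq_two_pow_mul_odd (orderOf_pos (a * b)).ne'
  have ia : a⁻¹ = a := inv_eq_of_mul_eq_one_right a2
  have ib : b⁻¹ = b := inv_eq_of_mul_eq_one_right b2
  have h1 : ∀ n : ℕ, a * ((a * b) ^ n)⁻¹ = (a * b) ^ n * a := fun n => by
    have : a * (a * b)⁻¹ * a⁻¹ = a * b := by
      rw [mul_inv_rev, ia, ib, mul_assoc, mul_assoc, a2, mul_one]
    rw [← inv_pow, ← mul_inv_eq_iff_eq_mul, ← conj_pow, this]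
  have h2 : b * (a * b) ^ (2 * j + 1) * b⁻¹ = ((a * b) ^ (2 * j + 1))⁻¹ := by
    rw [← conj_pow, ← inv_pow, mul_inv_rev, ia, ib, mul_assoc, mul_assoc, b2, mul_one]
  have h3 : Is2 ((a * b) ^ (2 * j + 1)) :=
    ⟨e, by rw [← pow_mul, mul_comm (2 * j + 1), ← hm, pow_orderOf_eq_one]⟩
  have h4 : IsPGroup 2 (zpowers ((a * b) ^ (2 * j + 1)) ⊔ zpowers b : Subgroup G) :=
    (H27.End.isPGroup_zpowers h3).to_sup_of_normal_left' (H27.End.isPGroup_zpowers (is2_of_sq b2))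
      (zpowers_le.2 (mem_N_of_conj fun x hx => by
        obtain ⟨n, rfl⟩ := mem_zpowers_iff.1 hx
        rw [← conj_zpow, h2]
        exact zpow_mem (inv_mem (mem_zpowers _)) n))
  obtain ⟨k, hk, hk'⟩ := hU.exists_conj_le h4
    (sup_le (zpowers_le.2 (pow_mem (mul_mem ha hb) _)) (zpowers_le.2 hb))
  refine ⟨j, k, hk, ?_, hk' (H8.conj_mem_conj_smul.2 ?_),
    hk' (H8.conj_mem_conj_smul.2 (mem_sup_right (mem_zpowers b)))⟩
  · rw [mul_assoc, h1, ← mul_assoc, ← pow_add, ← pow_two, ← pow_mul, two_mul]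
  · rw [show ((a * b) * (a * b)) ^ j * a = (a * b) ^ (2 * j + 1) * b by
      rw [pow_succ, pow_mul, pow_two, mul_assoc _ (a * b), mul_assoc a b b, b2, mul_one]]
    exact mul_mem_sup (mem_zpowers _) (mem_zpowers _)

section Free

variable {G : Type u} [Group G] {F W : Type v} [Field F] [AddCommGroup W] [Module F W]
  {L Q Z : Subgroup G} {ζ : F → G} {p : G → W} {B : W →ₗ[F] W →ₗ[F] F} {Qf : W → F}

/-- The action on `Q / Z`. -/
def Br (Q Z : Subgroup G) (p : G → W) (A : G → W →ₗ[F] W) : Prop :=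
  ∀ g ∈ C[Z] ⊓ N[Q], ∀ y ∈ Q, p (g * y * g⁻¹) = A g (p y)

variable (H : Heis L Q Z ζ p B Qf)
include H

theorem z_cancel {a b : F} (e : ζ a = ζ b) : a = b := by
  have h1 : ζ (b + b) = 1 := by
    rw [← two_mul, H.two, zero_mul]
    exact mul_eq_left.1 ((H.ζadd 0 0).symm.trans (by rw [add_zero]))
  have := H.ζinj (a + b) (by rw [H.ζadd, e, ← H.ζadd, h1])
  linear_combination this - b * H.two

theorem z_conj {g : G} (hg : g ∈ C[Z]) (a : F) : g * ζ a * g⁻¹ = ζ a := by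
  rw [(comm_of_C hg ((H.ζmem _).2 ⟨a, rfl⟩)).eq, mul_inv_cancel_right]

theorem p_inv {y : G} (hy : y ∈ Q) : p y⁻¹ = -p y := by
  have := H.πmul _ (inv_mem hy) _ hy
  rw [inv_mul_cancel, (H.πker 1 (one_mem _)).2 (one_mem _)] at this
  exact eq_neg_of_add_eq_zero_left this.symm

theorem form0 {g : G} (hg : g ∈ C[Z] ⊓ N[Q]) {y y' : G} (hy : y ∈ Q) (hy' : y' ∈ Q) :
    B (p (g * y * g⁻¹)) (p (g * y' * g⁻¹)) = B (p y) (p y') := z_cancel H (by
  rw [← H.com _ (conj_mem hg.2 hy) _ (conj_mem hg.2 hy'), ← z_conj H hg.1, ← H.com _ hy _ hy']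
  simp only [commutatorElement_def]
  group)

theorem exists_br : ∃ A : G → W →ₗ[F] W, Br Q Z p A := by
  have key : ∀ g, ∃ f : W →ₗ[F] W, g ∈ C[Z] ⊓ N[Q] → ∀ y ∈ Q, p (g * y * g⁻¹) = f (p y) := by
    intro g
    by_cases hg : g ∈ C[Z] ⊓ N[Q]
    swap
    · exact ⟨0, fun h => absurd h hg⟩
    choose s hs hp using H.πsurj
    have h1 : ∀ y ∈ Q, p (g * y * g⁻¹) = p (g * s (p y) * g⁻¹) := fun y hy => by
      have h2 : (s (p y))⁻¹ * y ∈ Z := (H.πker _ (mul_mem (inv_mem (hs _)) hy)).1 (by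
        rw [H.πmul _ (inv_mem (hs _)) _ hy, p_inv H (hs _), hp, neg_add_cancel])
      rw [show g * y * g⁻¹ = g * s (p y) * g⁻¹ * (g * ((s (p y))⁻¹ * y) * g⁻¹) by group,
        (comm_of_C hg.1 h2).eq, mul_inv_cancel_right, H.πmul _ (conj_mem hg.2 (hs _)) _ (H.ZQ h2),
        (H.πker _ (H.ZQ h2)).2 h2, add_zero]
    refine ⟨⟨⟨fun w => p (g * s w * g⁻¹), fun w w' => ?_⟩, fun a w => ?_⟩, fun _ => h1⟩
    · have := h1 _ (mul_mem (hs w) (hs w'))
      rw [H.πmul _ (hs w) _ (hs w'), hp, hp] at this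
      rw [← this, ← H.πmul _ (conj_mem hg.2 (hs w)) _ (conj_mem hg.2 (hs w'))]
      congr 1
      group
    · refine sub_eq_zero.1 (H.nondeg _ fun w' => ?_)
      obtain ⟨y, hy, rfl⟩ := H.πsurj w'
      have hy' := conj_mem (inv_mem hg.2) hy
      rw [show y = g * (g⁻¹ * y * g⁻¹⁻¹) * g⁻¹ by group]
      simp only [map_sub, map_smul, LinearMap.sub_apply, LinearMap.smul_apply, RingHom.id_apply]
      rw [form0 H hg (hs _) hy', form0 H hg (hs _) hy', hp, hp, map_smul, LinearMap.smul_apply,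
        sub_self]
  choose A hA using key
  exact ⟨A, hA⟩

variable {A : G → W →ₗ[F] W} (hA : Br Q Z p A)
include hA

theorem A_mul {g g' : G} (hg : g ∈ C[Z] ⊓ N[Q]) (hg' : g' ∈ C[Z] ⊓ N[Q]) (w : W) :
    A (g * g') w = A g (A g' w) := by
  obtain ⟨y, hy, rfl⟩ := H.πsurj w
  rw [← hA _ (mul_mem hg hg') y hy, ← hA _ hg' y hy, ← hA _ hg _ (conj_mem hg'.2 hy)]
  congr 1
  group

theorem A_one (w : W) : A 1 w = w := by
  obtain ⟨y, hy, rfl⟩ := H.πsurj w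
  rw [← hA _ (one_mem _) y hy, one_mul, inv_one, mul_one]

theorem A_inv {g : G} (hg : g ∈ C[Z] ⊓ N[Q]) (w : W) : A g⁻¹ (A g w) = w := by
  rw [← A_mul H hA (inv_mem hg) hg, inv_mul_cancel, A_one H hA]

theorem A_inv' {g : G} (hg : g ∈ C[Z] ⊓ N[Q]) (w : W) : A g (A g⁻¹ w) = w := by
  rw [← A_mul H hA hg (inv_mem hg), mul_inv_cancel, A_one H hA]

theorem A_form {g : G} (hg : g ∈ C[Z] ⊓ N[Q]) (w w' : W) : B (A g w) (A g w') = B w w' := by
  obtain ⟨y, hy, rfl⟩ := H.πsurj w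
  obtain ⟨y', hy', rfl⟩ := H.πsurj w'
  rw [← hA _ hg y hy, ← hA _ hg y' hy', form0 H hg hy hy']

theorem A_qf {g : G} (hg : g ∈ C[Z] ⊓ N[Q]) (w : W) : Qf (A g w) = Qf w := by
  obtain ⟨y, hy, rfl⟩ := H.πsurj w
  refine z_cancel H ?_
  rw [← hA _ hg y hy, ← H.sq _ (conj_mem hg.2 hy), ← z_conj H hg.1, ← H.sq _ hy]
  group

theorem A_conj {g k : G} (hg : g ∈ C[Z] ⊓ N[Q]) (hk : k ∈ C[Z] ⊓ N[Q]) (w : W) :
    A (k * g * k⁻¹) (A k w) = A k (A g w) := by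
  rw [A_mul H hA (mul_mem hk hg) (inv_mem hk), A_inv H hA hk, A_mul H hA hk hg]

theorem mem_CQ {g : G} (hg : g ∈ C[Z] ⊓ N[Q]) (h : ∀ w, A g w = w) : g ∈ CQ Q Z :=
  ⟨hg.2, centralizer_le_normalizer _ hg.1, fun x hx =>
    (H.πker _ (mul_mem (conj_mem hg.2 hx) (inv_mem hx))).1 (by
      rw [H.πmul _ (conj_mem hg.2 hx) _ (inv_mem hx), hA g hg x hx, h, p_inv H hx, add_neg_cancel])⟩

/-- The set `[W, g]` is moved by conjugation. -/
theorem im_conj {g k : G} (hg : g ∈ C[Z] ⊓ N[Q]) (hk : k ∈ C[Z] ⊓ N[Q]) {x : W} :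
    (∃ w, A (k * g * k⁻¹) w = w + A k x) ↔ ∃ w, A g w = w + x := by
  constructor
  · rintro ⟨w, e⟩
    refine ⟨A k⁻¹ w, ?_⟩
    rw [← A_inv H hA hk (A g _), ← A_conj H hA hg hk, A_inv' H hA hk, e, map_add, A_inv H hA hk]
  · rintro ⟨w, e⟩
    exact ⟨A k w, by rw [A_conj H hA hg hk, e, map_add]⟩

theorem sg_conj {g k : G} (hg : g ∈ C[Z] ⊓ N[Q]) (hk : k ∈ C[Z] ⊓ N[Q]) {c b : W}
    (h : ∀ w, A g w = w + B b w • c + B c w • b) (w : W) :
    A (k * g * k⁻¹) w = w + B (A k b) w • A k c + B (A k c) w • A k b := by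
  rw [← A_inv' H hA hk w, A_conj H hA hg hk, h, A_form H hA hk, A_form H hA hk]
  simp only [map_add, map_smul]

end Free

section Model

variable {F E V : Type v} [Field F] [Field E] [AddCommGroup V] [Module E V] {i : F →+* E}
  {σ : E ≃+* E} {B : V →ₛₗ[(σ : E →+* E)] V →ₗ[E] E} {G : Type u} [Group G] {φ : sisom B →* G}
  {L : Subgroup G} {W : Type v} [AddCommGroup W] [Module F W]
  [FiniteDimensional E V] [Finite E] [Finite F] [Finite V] [Finite G] (c : UCtx i φ L)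
include c

theorem rt_form {v : V} (hv : Pt B v) {r : G} (hr : r ∈ Rt L (TT i φ v 1)) (hc : r ∈ C[ZV i φ v]) :
    ∃ x, Pt B x ∧ B v x = 0 ∧ r = TT i φ x 1 := by
  obtain ⟨m, hm, rfl⟩ := hr
  obtain ⟨s, rfl⟩ := c.surj hm
  rw [c.TT_conj s hv.1] at hc ⊢
  refine ⟨_, hv.map s, ?_, rfl⟩
  generalize hx : s.1 v = x at hc
  have px : Pt B x := hx ▸ hv.map s
  obtain ⟨t, h1, e⟩ := c.tt px.1 1
  have h2 := c.TT_conj t hv.1 1
  rw [e, (comm_of_C hc (TT_mem_ZV v 1)).eq, mul_inv_cancel_right] at h2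
  obtain ⟨l, hl⟩ := TT_line c (hv.map t) hv.1 one_ne_zero h2.symm
  rw [h1, map_one, one_mul] at hl
  have h3 := congrArg (B v) hl
  rw [map_add, sm_right, sm_right, hv.1, mul_zero, zero_add] at h3
  rcases mul_eq_zero.1 h3 with h4 | h4
  · exact c.flip h4
  · exact h4

theorem rt_of {v x : V} (hv : Pt B v) (hx : Pt B x) : TT i φ x 1 ∈ Rt L (TT i φ v 1) := by
  obtain ⟨s, rfl⟩ := c.trans hv hx
  exact ⟨φ s, c.mem s, (c.TT_conj s hv.1 1).symm⟩

variable {v v' : V} {κ : W →+ V} {p : G → W} {B' : W →ₗ[F] W →ₗ[F] F} {Qf : W → F}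
  (h : HD i φ v v' κ p B' Qf) {A : G → W →ₗ[F] W} (hA : Br (QV φ v) (ZV i φ v) p A)
include h

theorem TT_N {x : V} (hx : B x x = 0) (hv : B v x = 0) (a : F) :
    TT i φ x a ∈ C[ZV i φ v] ⊓ N[QV φ v] :=
  have h1 := YZ_le' (TT_YZ c h.pt.1 hx hv a)
  ⟨h1.2, nQ c h.pt ⟨le_normalizer h1.1, centralizer_le_normalizer _ h1.2⟩⟩

theorem b_symm (w w' : W) : B' w w' = B' w' w := i.injective (by
  rw [h.bf, h.bf, c.symm, c.symm, add_comm])

theorem b_zero {w w' : W} {e : E} (hw : B (κ w) (κ w) = 0) (he : κ w' = e • κ w) : B' w w' = 0 :=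
  i.injective (by rw [h.bf, he, sm_right, hw, mul_zero, map_zero, map_zero, add_zero])

theorem b_self (w : W) : B' w w = 0 := i.injective (by
  rw [h.bf, c.symm, c.qf.add_self, map_zero])

theorem W_add (w : W) : w + w = 0 := by rw [← two_smul F, c.qf.twoF, zero_smul]

include hA

theorem A_TT {x : V} (hx : B x x = 0) (hv : B v x = 0) (a : F) {c0 : W}
    (hc : κ c0 = x + B v' x • v) (w : W) :
    κ (A (TT i φ x a) w) = κ w + (i a * B (κ c0) (κ w)) • κ c0 := by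
  obtain ⟨y, hy, rfl⟩ := surj c h w
  obtain ⟨s, h1, e⟩ := c.tt hx a
  rw [← hA _ (TT_N c h hx hv a) y hy, ← e, act c h (semi_s s) (act_s s) (l := 1)
    (show s.1 v = _ by rw [h1, c.flip hv, mul_zero, zero_smul, add_zero, one_smul]) hy]
  rw [map_one, one_smul, show s.1.toAddEquiv (κ (p y)) = s.1 (κ (p y)) from rfl, h1, hc]
  simp only [map_add, LinearMap.add_apply, sm_left, sm_right, h.o1, h.o2, mul_zero, add_zero,
    zero_add, smul_add, smul_smul, add_assoc]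

theorem im_TT {x : V} (hx : B x x = 0) (hv : B v x = 0) {c0 : W} (hc : κ c0 = x + B v' x • v)
    {y : W} : (∃ w, A (TT i φ x 1) w = w + y) ↔ ∃ e : E, κ y = e • κ c0 := by
  constructor
  · rintro ⟨w, e⟩
    have := A_TT c h hA hx hv 1 hc w
    rw [e, map_add, add_right_inj] at this
    exact ⟨_, this⟩
  · rintro ⟨e, he⟩
    by_cases h0 : c0 = 0
    · refine ⟨0, h.inj ?_⟩
      rw [map_zero, zero_add, he, h0, map_zero, smul_zero]
    · obtain ⟨w, hw⟩ := form_surj c h h0 e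
      exact ⟨w, h.inj (by rw [A_TT c h hA hx hv 1 hc, hw, map_one, one_mul, map_add, he])⟩

theorem sg_TT {x : V} (hx : B x x = 0) (hv : B v x = 0) (a : F) {c0 b : W}
    (hc : κ c0 = x + B v' x • v) {ω : E} (hω : σ ω = ω + 1) (hb : κ b = (i a * ω) • κ c0) (w : W) :
    A (TT i φ x a) w = w + B' b w • c0 + B' c0 w • b := h.inj (by
  rw [A_TT c h hA hx hv a hc, map_add, map_add, h.smul, h.smul, h.bf, h.bf, hb, sm_left, smul_smul,
    add_assoc, ← add_smul]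
  congr 2
  simp only [map_mul, c.qf.σ_i, hω, map_add, map_one]
  linear_combination (-(i a * ω * B (κ c0) (κ w)) - i a * ω * σ (B (κ c0) (κ w)) -
    i a * σ (B (κ c0) (κ w))) * c.qf.two)

end Model

theorem ny : NYStmt.{u, v} := by
  intro F E V _ _ _ _ _ _ _ _ i σ B G _ _ φ L c kA _ _ v hv U H _ hU hY hN hyp g hg r hr
  obtain ⟨W, _, _, v', κ, p, B', Qf, h⟩ := exists_hd c hv
  have He := heis0 c h kA
  obtain ⟨A, hA⟩ := exists_br He
  obtain ⟨ω, hω⟩ := c.qf.tr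
  obtain ⟨x, hx, xv, rfl⟩ := rt_form c hv hr.1 hr.2
  obtain ⟨c0, hc0⟩ := proj c h xv
  obtain ⟨b0, hb0⟩ := esmul c h (i 1 * ω) c0
  have rH : TT i φ x 1 ∈ H := hY (TT_YZ c hv.1 hx.1 xv 1)
  have s1 := sg_conj He hA (hN rH) (hN hg) (sg_TT c h hA hx.1 xv 1 hc0 hω hb0)
  have i1 : ∀ {y : W} {e : E}, κ y = e • κ c0 →
      ∃ w, A (g * TT i φ x 1 * g⁻¹) w = w + A g y := fun e =>
    (im_conj He hA (hN rH) (hN hg)).2 ((im_TT c h hA hx.1 xv hc0).2 ⟨_, e⟩)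
  have i2 := i1 (one_smul E _).symm
  have i3 := i1 hb0
  have q0 : B (κ c0) (κ c0) = 0 := by
    rw [hc0]
    simp only [map_add, LinearMap.add_apply, sm_left, sm_right, hx.1, xv, c.flip xv, hv.1, mul_zero,
      add_zero]
  have q1 : B (κ (A g c0)) (κ (A g c0)) = 0 := by rw [← h.qf, A_qf He hA (hN hg), h.qf, q0]
  have q2 : B' (A g c0) (A g b0) = 0 := by rw [A_form He hA (hN hg), b_zero c h q0 hb0]
  have r2 : g * TT i φ x 1 * g⁻¹ * (g * TT i φ x 1 * g⁻¹) = 1 := by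
    rw [conj_mul, c.TT_sq hx.1, mul_one, mul_inv_cancel]
  have r'H : g * TT i φ x 1 * g⁻¹ ∈ H := mul_mem (mul_mem hg rH) (inv_mem hg)
  have hyp1 : ∀ k ∈ H, k * (g * TT i φ x 1 * g⁻¹) * k⁻¹ ∈ U →
      k * (g * TT i φ x 1 * g⁻¹) * k⁻¹ ∈ Rt L (TT i φ v 1) := fun k hk => by
    rw [show k * (g * TT i φ x 1 * g⁻¹) * k⁻¹ = k * g * TT i φ x 1 * (k * g)⁻¹ by group]
    exact hyp _ (mul_mem hk hg) _ hr
  generalize g * TT i φ x 1 * g⁻¹ = r' at *
  generalize A g c0 = c' at *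
  generalize A g b0 = b' at *
  by_cases c0' : c' = 0
  · exact mem_sup_right ⟨r'H, mem_CQ He hA (hN r'H) fun w => by simp [s1, c0']⟩
  have pc : Pt B (κ c') := ⟨q1, fun e => c0' (h.inj (e.trans (map_zero κ).symm))⟩
  have kc : κ c' = κ c' + B v' (κ c') • v := by rw [h.o2, zero_smul, add_zero]
  have tY := TT_YZ c hv.1 q1 (h.o1 c')
  obtain ⟨b'', hb''⟩ := esmul c h (i 1 * ω) c'
  have s2 := sg_TT c h hA q1 (h.o1 c') 1 kc hω hb''
  have q3 : B' c' b'' = 0 := b_zero c h q1 hb''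
  have t2 := c.TT_sq q1 1
  have tR : TT i φ (κ c') 1 ∈ RC L (ZV i φ v) (TT i φ v 1) := ⟨rt_of c hv pc, (YZ_le' (tY 1)).2⟩
  have i4 : ∀ {y : W}, (∃ w, A (TT i φ (κ c') 1) w = w + y) ↔ ∃ e : E, κ y = e • κ c' :=
    im_TT c h hA q1 (h.o1 c') kc
  have tH := hY (tY 1)
  generalize TT i φ (κ c') 1 = t at s2 t2 tR i4 tH
  have cm : ∀ w, A r' (A t w) = A t (A r' w) := fun w => by
    simp only [s1, s2, map_add, map_smul, smul_eq_mul, q2, q3, b_self c h, b_symm c h b' c',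
      b_symm c h b'' c', b_symm c h b'' b', mul_zero, add_zero]
    module
  have ρH := mul_mem r'H tH
  have ρ2 : ∀ (j : ℕ) w, A ((r' * t * (r' * t)) ^ j) w = w := fun j w => by
    induction j with
    | zero => rw [pow_zero, A_one He hA]
    | succ j ih =>
      rw [pow_succ', A_mul He hA (hN (mul_mem ρH ρH)) (hN (pow_mem (mul_mem ρH ρH) _)), ih,
        A_mul He hA (hN ρH) (hN ρH), A_mul He hA (hN r'H) (hN tH), A_mul He hA (hN r'H) (hN tH),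
        ← cm (A t w), ← A_mul He hA (hN tH) (hN tH), t2, A_one He hA,
        ← A_mul He hA (hN r'H) (hN r'H), r2, A_one He hA]
  obtain ⟨j, k, hk, e1, u1, u2⟩ := dih2 hU r'H tH r2 t2
  have r1H : (r' * t * (r' * t)) ^ j * r' ∈ H := mul_mem (pow_mem (mul_mem ρH ρH) _) r'H
  have a1 : ∀ w, A ((r' * t * (r' * t)) ^ j * r') w = A r' w := fun w => by
    rw [A_mul He hA (hN (pow_mem (mul_mem ρH ρH) _)) (hN r'H), ρ2]
  have m1 : k * ((r' * t * (r' * t)) ^ j * r') * k⁻¹ ∈ Rt L (TT i φ v 1) := by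
    have e2 : k * ((r' * t * (r' * t)) ^ j * r') * k⁻¹ =
        k * (r' * t) ^ j * r' * (k * (r' * t) ^ j)⁻¹ := by rw [← e1]; group
    rw [e2] at u1 ⊢
    exact hyp1 _ (mul_mem hk (pow_mem ρH _)) u1
  generalize (r' * t * (r' * t)) ^ j * r' = r1 at r1H a1 m1
  obtain ⟨x1, p1, v1, f1⟩ := rt_form c hv m1 (hN (mul_mem (mul_mem hk r1H) (inv_mem hk))).1
  obtain ⟨x2, p2, v2, f2⟩ := rt_form c hv (hyp k hk t tR u2)
    (hN (mul_mem (mul_mem hk tH) (inv_mem hk))).1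
  obtain ⟨c1, hc1⟩ := proj c h v1
  obtain ⟨c2, hc2⟩ := proj c h v2
  have j1 : ∀ {y : W}, (∃ w, A r' w = w + y) ↔ ∃ e : E, κ (A k y) = e • κ c1 := by
    intro y
    rw [← im_TT c h hA p1.1 v1 hc1, ← f1, im_conj He hA (hN r1H) (hN hk)]
    simp only [a1]
  have j2 : ∀ {y : W}, (∃ e : E, κ y = e • κ c') ↔ ∃ e : E, κ (A k y) = e • κ c2 := by
    intro y
    rw [← im_TT c h hA p2.1 v2 hc2, ← f2, im_conj He hA (hN tH) (hN hk), i4]
  obtain ⟨d1, g1⟩ := j1.1 i2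
  obtain ⟨d2, g2⟩ := j2.1 ⟨1, (one_smul E _).symm⟩
  obtain ⟨d3, g3⟩ := j1.1 i3
  have d0 : d1 ≠ 0 := by
    rintro rfl
    rw [zero_smul, ← map_zero κ] at g1
    refine c0' ?_
    rw [← A_inv He hA (hN hk) c', h.inj g1, map_zero]
  obtain ⟨e, he⟩ := (j2 (y := b')).2 ⟨d3 * d1⁻¹ * d2, by
    rw [g3, mul_smul, ← g2, g1, smul_smul, inv_mul_cancel_right₀ d0]⟩
  obtain ⟨α, β, rfl⟩ := c.qf.exists_coord hω e
  obtain ⟨b1, hb1⟩ := esmul c h (i β * ω) c'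
  have s3 := sg_TT c h hA q1 (h.o1 c') β kc hω hb1
  have eb : b' = α • c' + b1 := h.inj (by rw [he, map_add, h.smul, hb1, add_smul])
  have tβ := hY (tY β)
  rw [show r' = TT i φ (κ c') β * ((TT i φ (κ c') β)⁻¹ * r') by group]
  refine mul_mem_sup (tY β) ⟨H.mul_mem (H.inv_mem tβ) r'H,
    mem_CQ He hA (hN (mul_mem (inv_mem tβ) r'H)) fun w => ?_⟩
  rw [A_mul He hA (hN (inv_mem tβ)) (hN r'H), show A r' w = A (TT i φ (κ c') β) w from ?_,
    A_inv He hA (hN tβ)]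
  rw [s1, s3, eb]
  simp only [map_add, map_smul, LinearMap.add_apply, LinearMap.smul_apply, smul_eq_mul]
  linear_combination (norm := module) W_add c h ((α * B' c' w) • c')

end Cfsg.Agent.H20.UE
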