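import Cfsg.Agent.H34.PDefs2
import Cfsg.Agent.H20.UENy

/-!
# Overgroups of odd index of the Levi factor of a unitary group permute its root elements (dimension at least four)
-/

set_option autoImplicit false
set_option linter.unusedSectionVars false

namespace Cfsg.Agent.H20.UE

open Cfsg Cfsg.Agent.H63 Cfsg.Agent.H63.SL Cfsg.Agent.H34 Cfsg.Agent.H34.TW Cfsg.Agent.H34.UM
  Cfsg.Agent.H34.UE Cfsg.Agent.H31 Cfsg.Agent.H22.UH Subgroup Module
open Cfsg.Agent.H8 (IsSylowIn)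
open Cfsg.Agent.H27.End (Rt CQ mem_C comm_of_C is2_of_sq mem_N_of_conj conj_mem)
open scoped commutatorElement

universe u v

theorem ny4 : NY4Stmt.{u, v} := by
  intro F E V _ _ _ _ _ _ _ _ i σ B G _ _ φ L c kA _ v hv U H _ hU hY hN hyp g hg r hr
  obtain ⟨W, _, _, v', κ, p, B', Qf, h⟩ := exists_hd c hv
  have He := heis0 c h kA
  obtain ⟨A, hA⟩ := exists_br He
  obtain ⟨ω, hω⟩ := c.qf.tr
  obtain ⟨x, hx, xv, rfl⟩ := rt_form c hv hr.1 hr.2
  obtain ⟨c0, hc0⟩ := proj c h xv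
  obtain ⟨b0, hb0⟩ := esmul c h (i 1 * ω) c0
  have rH : TT i φ x 1 ∈ H := hY (TT_YZ c hv.1 hx.1 xv 1)
  have s1 := sg_conj He hA (hN rH) (hN hg) (sg_TT c h hA hx.1 xv 1 hc0 hω hb0)
  have i1 : ∀ {y : W} {e : E}, κ y = e • κ c0 →
      ∃ w, A (g * TT i φ x 1 * g⁻¹) w = w + A g y := fun e =>
    (im_conj He hA (hN rH) (hN hg)).2 ((im_TT c h hA hx.1 xv hc0).2 ⟨_, e⟩)
  have i2 := i1 (one_smul E _).symm
  have i3 := i1 hb0
  have q0 : B (κ c0) (κ c0) = 0 := by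
    rw [hc0]
    simp only [map_add, LinearMap.add_apply, sm_left, sm_right, hx.1, xv, c.flip xv, hv.1, mul_zero,
      add_zero]
  have q1 : B (κ (A g c0)) (κ (A g c0)) = 0 := by rw [← h.qf, A_qf He hA (hN hg), h.qf, q0]
  have q2 : B' (A g c0) (A g b0) = 0 := by rw [A_form He hA (hN hg), b_zero c h q0 hb0]
  have r2 : g * TT i φ x 1 * g⁻¹ * (g * TT i φ x 1 * g⁻¹) = 1 := by
    rw [conj_mul, c.TT_sq hx.1, mul_one, mul_inv_cancel]
  have r'H : g * TT i φ x 1 * g⁻¹ ∈ H := mul_mem (mul_mem hg rH) (inv_mem hg)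
  have hyp1 : ∀ k ∈ H, k * (g * TT i φ x 1 * g⁻¹) * k⁻¹ ∈ U →
      k * (g * TT i φ x 1 * g⁻¹) * k⁻¹ ∈ Rt L (TT i φ v 1) := fun k hk => by
    rw [show k * (g * TT i φ x 1 * g⁻¹) * k⁻¹ = k * g * TT i φ x 1 * (k * g)⁻¹ by group]
    exact hyp _ (mul_mem hk hg) _ hr
  generalize g * TT i φ x 1 * g⁻¹ = r' at *
  generalize A g c0 = c' at *
  generalize A g b0 = b' at *
  by_cases c0' : c' = 0
  · exact mem_sup_right ⟨r'H, mem_CQ He hA (hN r'H) fun w => by simp [s1, c0']⟩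
  have pc : Pt B (κ c') := ⟨q1, fun e => c0' (h.inj (e.trans (map_zero κ).symm))⟩
  have kc : κ c' = κ c' + B v' (κ c') • v := by rw [h.o2, zero_smul, add_zero]
  have tY := TT_YZ c hv.1 q1 (h.o1 c')
  obtain ⟨b'', hb''⟩ := esmul c h (i 1 * ω) c'
  have s2 := sg_TT c h hA q1 (h.o1 c') 1 kc hω hb''
  have q3 : B' c' b'' = 0 := b_zero c h q1 hb''
  have t2 := c.TT_sq q1 1
  have tR : TT i φ (κ c') 1 ∈ RC L (ZV i φ v) (TT i φ v 1) := ⟨rt_of c hv pc, (YZ_le' (tY 1)).2⟩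
  have i4 : ∀ {y : W}, (∃ w, A (TT i φ (κ c') 1) w = w + y) ↔ ∃ e : E, κ y = e • κ c' :=
    im_TT c h hA q1 (h.o1 c') kc
  have tH := hY (tY 1)
  generalize TT i φ (κ c') 1 = t at s2 t2 tR i4 tH
  have cm : ∀ w, A r' (A t w) = A t (A r' w) := fun w => by
    simp only [s1, s2, map_add, map_smul, smul_eq_mul, q2, q3, b_self c h, b_symm c h b' c',
      b_symm c h b'' c', b_symm c h b'' b', mul_zero, add_zero]
    module
  have ρH := mul_mem r'H tH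
  have ρ2 : ∀ (j : ℕ) w, A ((r' * t * (r' * t)) ^ j) w = w := fun j w => by
    induction j with
    | zero => rw [pow_zero, A_one He hA]
    | succ j ih =>
      rw [pow_succ', A_mul He hA (hN (mul_mem ρH ρH)) (hN (pow_mem (mul_mem ρH ρH) _)), ih,
        A_mul He hA (hN ρH) (hN ρH), A_mul He hA (hN r'H) (hN tH), A_mul He hA (hN r'H) (hN tH),
        ← cm (A t w), ← A_mul He hA (hN tH) (hN tH), t2, A_one He hA,
        ← A_mul He hA (hN r'H) (hN r'H), r2, A_one He hA]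
  obtain ⟨j, k, hk, e1, u1, u2⟩ := dih2 hU r'H tH r2 t2
  have r1H : (r' * t * (r' * t)) ^ j * r' ∈ H := mul_mem (pow_mem (mul_mem ρH ρH) _) r'H
  have a1 : ∀ w, A ((r' * t * (r' * t)) ^ j * r') w = A r' w := fun w => by
    rw [A_mul He hA (hN (pow_mem (mul_mem ρH ρH) _)) (hN r'H), ρ2]
  have m1 : k * ((r' * t * (r' * t)) ^ j * r') * k⁻¹ ∈ Rt L (TT i φ v 1) := by
    have e2 : k * ((r' * t * (r' * t)) ^ j * r') * k⁻¹ =
        k * (r' * t) ^ j * r' * (k * (r' * t) ^ j)⁻¹ := by rw [← e1]; group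
    rw [e2] at u1 ⊢
    exact hyp1 _ (mul_mem hk (pow_mem ρH _)) u1
  generalize (r' * t * (r' * t)) ^ j * r' = r1 at r1H a1 m1
  obtain ⟨x1, p1, v1, f1⟩ := rt_form c hv m1 (hN (mul_mem (mul_mem hk r1H) (inv_mem hk))).1
  obtain ⟨x2, p2, v2, f2⟩ := rt_form c hv (hyp k hk t tR u2)
    (hN (mul_mem (mul_mem hk tH) (inv_mem hk))).1
  obtain ⟨c1, hc1⟩ := proj c h v1
  obtain ⟨c2, hc2⟩ := proj c h v2
  have j1 : ∀ {y : W}, (∃ w, A r' w = w + y) ↔ ∃ e : E, κ (A k y) = e • κ c1 := by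
    intro y
    rw [← im_TT c h hA p1.1 v1 hc1, ← f1, im_conj He hA (hN r1H) (hN hk)]
    simp only [a1]
  have j2 : ∀ {y : W}, (∃ e : E, κ y = e • κ c') ↔ ∃ e : E, κ (A k y) = e • κ c2 := by
    intro y
    rw [← im_TT c h hA p2.1 v2 hc2, ← f2, im_conj He hA (hN tH) (hN hk), i4]
  obtain ⟨d1, g1⟩ := j1.1 i2
  obtain ⟨d2, g2⟩ := j2.1 ⟨1, (one_smul E _).symm⟩
  obtain ⟨d3, g3⟩ := j1.1 i3
  have d0 : d1 ≠ 0 := by
    rintro rfl
    rw [zero_smul, ← map_zero κ] at g1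
    refine c0' ?_
    rw [← A_inv He hA (hN hk) c', h.inj g1, map_zero]
  obtain ⟨e, he⟩ := (j2 (y := b')).2 ⟨d3 * d1⁻¹ * d2, by
    rw [g3, mul_smul, ← g2, g1, smul_smul, inv_mul_cancel_right₀ d0]⟩
  obtain ⟨α, β, rfl⟩ := c.qf.exists_coord hω e
  obtain ⟨b1, hb1⟩ := esmul c h (i β * ω) c'
  have s3 := sg_TT c h hA q1 (h.o1 c') β kc hω hb1
  have eb : b' = α • c' + b1 := h.inj (by rw [he, map_add, h.smul, hb1, add_smul])
  have tβ := hY (tY β)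
  rw [show r' = TT i φ (κ c') β * ((TT i φ (κ c') β)⁻¹ * r') by group]
  refine mul_mem_sup (tY β) ⟨H.mul_mem (H.inv_mem tβ) r'H,
    mem_CQ He hA (hN (mul_mem (inv_mem tβ) r'H)) fun w => ?_⟩
  rw [A_mul He hA (hN (inv_mem tβ)) (hN r'H), show A r' w = A (TT i φ (κ c') β) w from ?_,
    A_inv He hA (hN tβ)]
  rw [s1, s3, eb]
  simp only [map_add, map_smul, LinearMap.add_apply, LinearMap.smul_apply, smul_eq_mul]
  linear_combination (norm := module) W_add c h ((α * B' c' w) • c')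

end Cfsg.Agent.H20.UE
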