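import Cfsg.Agent.H22.VanP
import Cfsg.Agent.H14.ExtraChar
import Cfsg.Agent.H11.PermChar
import Cfsg.Agent.H24.Deg
import Cfsg.Agent.H3.Cores
import Cfsg.Agent.S0191
import Cfsg.Agent.S4558
import Cfsg.Agent.S4456

/-! Groups whose vanishing elements have `p`-power order. -/

set_option autoImplicit false

namespace Cfsg.Agent.H20.VanQ

open Subgroup Cfsg Cfsg.Agent.H22.VanP
open scoped commutatorElement

universe u

theorem van_nil (Q : Type u) [Group Q] [Group.IsNilpotent Q] :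
    Finite Q → ∀ x : Q, x ∉ center Q → Van x := by
  refine Group.nilpotent_center_quotient_ind
    (P := fun Q _ _ => Finite Q → ∀ x : Q, x ∉ center Q → Van x) Q ?_ ?_
  · intro Q _ _ _ x hx
    exact absurd (Subsingleton.elim x 1 ▸ one_mem _) hx
  · intro Q _ _ ih _ x hx
    by_cases h : (QuotientGroup.mk' (center Q) x) ∈ center (Q ⧸ center Q)
    · obtain ⟨y, hy⟩ : ∃ y, y * x ≠ x * y := by
        by_contra hn
        push Not at hn
        exact hx (mem_center_iff.mpr hn)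
      have hz : ⁅y, x⁆ ∈ center Q := by
        rw [← QuotientGroup.eq_one_iff]
        show QuotientGroup.mk' (center Q) ⁅y, x⁆ = 1
        rw [map_commutatorElement, commutatorElement_eq_one_iff_mul_comm]
        exact mem_center_iff.mp h _
      obtain ⟨χ, hχ, hk⟩ : ∃ χ, IsIrrCharacter Q χ ∧ ⁅y, x⁆ ∉ H11.charKer χ := by
        by_contra hn
        push Not at hn
        exact hy (commutatorElement_eq_one_iff_mul_comm.mp (H11.eq_one_of_forall_mem_charKer hn))
      exact ⟨χ, hχ, H14.apply_eq_zero_of_commutator_center hχ (H11.center_le_charCenter hχ hz) hk⟩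
    · exact Van.comp _ (QuotientGroup.mk'_surjective _) (ih inferInstance _ h)

variable {G : Type*} [Group G] [Finite G]

theorem van_of_deg {χ : G → ℂ} (hχ : IsIrrCharacter G χ) (h : charDegree χ ≠ 1) :
    ∃ g, χ g = 0 := by
  have h0 := H11.irr_apply_one_ne_zero hχ
  obtain ⟨n, ρ, hρ, rfl⟩ := hχ
  have e : ρ.character 1 = (n : ℂ) := by simp
  have d := H24.deg_eq e
  refine S0191.result ρ ?_
  rw [Module.finrank_fin_fun]
  have : n ≠ 0 := by rintro rfl; exact h0 (by simpa using e)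
  omega

/-- a `p`-element fixing every class of a normal `p'`-subgroup centralises it -/
theorem cent_of_classes {p : ℕ} [Fact p.Prime] (K : Subgroup G) [hK : K.Normal]
    (hc : (Nat.card K).Coprime p) {y : G} (hy : IsPGroup p (zpowers y))
    (h : ∀ k : K, IsConj k ⟨y * k * y⁻¹, hK.conj_mem _ k.2 y⟩) : ∀ k ∈ K, y * k = k * y := by
  have key : (centralizer ({y} : Set G)).subgroupOf K = ⊤ := by
    refine H11.eq_top_of_forall_exists_conj_mem _ fun k => ?_
    have pw : ∀ (n : ℕ) (a : K), IsConj a ⟨y ^ n * a * (y ^ n)⁻¹, hK.conj_mem _ a.2 _⟩ := by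
      intro n
      induction n with
      | zero => intro a; exact isConj_iff.mpr ⟨1, Subtype.ext (by simp)⟩
      | succ n ih =>
        intro a
        refine (ih a).trans ((h _).trans ?_)
        have : (⟨y * (y ^ n * a * (y ^ n)⁻¹) * y⁻¹, hK.conj_mem _ (hK.conj_mem _ a.2 _) y⟩ : K) =
            ⟨y ^ (n + 1) * a * (y ^ (n + 1))⁻¹, hK.conj_mem _ a.2 _⟩ := by
          apply Subtype.ext; simp only [pow_succ']; group
        exact this ▸ IsConj.refl _
    have al : ∀ g : zpowers y, ∀ a : K, IsConj a ⟨g * a * (g : G)⁻¹, hK.conj_mem _ a.2 _⟩ := by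
      rintro ⟨g, hg⟩ a
      obtain ⟨n, rfl⟩ := mem_powers_iff_mem_zpowers.mpr hg
      exact pw n a
    let act : MulAction (zpowers y) {a : K // IsConj k a} :=
      { smul := fun g a => ⟨⟨g * a.1 * (g : G)⁻¹, hK.conj_mem _ a.1.2 _⟩, a.2.trans (al g a.1)⟩
        one_smul := fun a => Subtype.ext (Subtype.ext (by
          show ((1 : zpowers y) : G) * a.1 * ((1 : zpowers y) : G)⁻¹ = a.1; simp))
        mul_smul := fun g g' a => Subtype.ext (Subtype.ext (by
          show ((g * g' : zpowers y) : G) * a.1 * ((g * g' : zpowers y) : G)⁻¹ =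
            g * (g' * a.1 * (g' : G)⁻¹) * (g : G)⁻¹
          simp only [coe_mul]; group)) }
    have cd : Nat.card {a : K // IsConj k a} ∣ Nat.card K := by
      have e : Nat.card {a : K // IsConj k a} = Nat.card (MulAction.orbit (ConjAct K) k) :=
        Nat.card_congr (Equiv.subtypeEquivRight fun a => by
          rw [ConjAct.mem_orbit_conjAct, isConj_comm])
      rw [e, Nat.card_congr (MulAction.orbitEquivQuotientStabilizer (ConjAct K) k)]
      exact (MulAction.stabilizer (ConjAct K) k).index_dvd_card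
    have nd : ¬ p ∣ Nat.card {a : K // IsConj k a} := fun d =>
      (Nat.Prime.coprime_iff_not_dvd (Fact.out : p.Prime)).mp hc.symm (d.trans cd)
    obtain ⟨⟨a, ha⟩, hf⟩ := hy.nonempty_fixed_point_of_prime_not_dvd_card _ nd
    obtain ⟨g, rfl⟩ := isConj_iff.mp ha
    refine ⟨g, mem_subgroupOf.mpr (mem_centralizer_iff.mpr ?_)⟩
    intro y' hy'
    rw [Set.mem_singleton_iff.mp hy']
    have := congrArg (fun b => (b.1 : G)) (hf ⟨y, mem_zpowers y⟩)
    exact mul_inv_eq_iff_eq_mul.mp this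
  intro k hk
  have : (⟨k, hk⟩ : K) ∈ (centralizer ({y} : Set G)).subgroupOf K := key ▸ mem_top _
  exact mem_centralizer_iff.mp (mem_subgroupOf.mp this) y rfl

theorem van_coset {p : ℕ} [Fact p.Prime] (K : Subgroup G) [hK : K.Normal]
    (hc : (Nat.card K).Coprime p) (hq : IsPGroup p (G ⧸ K)) {y : G} (hy : IsPGroup p (zpowers y))
    (h : QuotientGroup.mk' K y ∉ center (G ⧸ K) ∨ ¬ ∀ k ∈ K, y * k = k * y) {k : G} (hk : k ∈ K) :
    Van (y * k) := by
  have e : QuotientGroup.mk' K (y * k) = QuotientGroup.mk' K y := by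
    rw [map_mul, show QuotientGroup.mk' K k = 1 from (QuotientGroup.eq_one_iff k).mpr hk, mul_one]
  by_cases hz : QuotientGroup.mk' K y ∈ center (G ⧸ K)
  · have h2 := h.resolve_left (not_not.mpr hz)
    obtain ⟨θ, hθ, hi⟩ : ∃ θ, IsIrrCharacter K θ ∧ y ∉ H14.inertia K θ := by
      by_contra hn
      push Not at hn
      exact h2 (cent_of_classes K hc hy fun a => H23.isConj_of_forall_irr_zero_or_eq
        fun θ hθ => Or.inr ((H14.mem_inertia' K).mp (hn θ hθ) a))
    refine van_of_inertia K hθ fun g hg => hi ?_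
    have le := H14.le_inertia K (H14.IsIrrCharacter.isClassFunction hθ)
    have : (g * (y * k) * g⁻¹)⁻¹ * y ∈ K := by
      rw [← QuotientGroup.eq]
      show QuotientGroup.mk' K (g * (y * k) * g⁻¹) = QuotientGroup.mk' K y
      rw [map_mul, map_mul, e, map_inv, mem_center_iff.mp hz, mul_inv_cancel_right]
    have := mul_mem hg (le this)
    rwa [mul_inv_cancel_left] at this
  · have := hq.isNilpotent
    exact Van.comp _ (QuotientGroup.mk'_surjective K) (e ▸ van_nil _ inferInstance _ hz)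

theorem main (hna : ¬ IsMulCommutative G) (p : ℕ) [hp : Fact p.Prime]
    (hvan : ∀ g : G, Van g → ∃ m : ℕ, orderOf g = p ^ m) :
    IsPGroup p G ∨ (center G = pCore p G ∧
      ∃ H : Subgroup (G ⧸ center G), IsFrobeniusComplement H ∧ IsPGroup p H) := by
  by_cases hG : IsPGroup p G
  · exact Or.inl hG
  right
  obtain ⟨K, hK, hc, n, hn⟩ := S4456.result (G := G) p hp.out fun χ h => by
    obtain ⟨g, hg⟩ := van_of_deg χ.2 h
    exact S4558.result p χ.1 (H11.isCharacter_of_irr χ.2) g (hvan g ⟨χ.1, χ.2, hg⟩) hg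
  have hq : IsPGroup p (G ⧸ K) := IsPGroup.of_card hn
  have pe : ∀ g : G, Van g → ∃ m : ℕ, g ^ p ^ m = 1 := fun g h => by
    obtain ⟨m, hm⟩ := hvan g h
    exact ⟨m, by rw [← hm, pow_orderOf_eq_one]⟩
  have K1 : ∀ k ∈ K, (∃ m : ℕ, k ^ p ^ m = 1) → k = 1 := by
    rintro k hk ⟨m, hm⟩
    exact orderOf_eq_one_iff.mp (Nat.eq_one_of_dvd_coprimes (hc.pow_right m)
      (K.orderOf_dvd_natCard hk) (orderOf_dvd_of_pow_eq_one hm))
  have quo : ∀ a b : G, Commute a b → (∃ m : ℕ, a ^ p ^ m = 1) → (∃ m : ℕ, (a * b) ^ p ^ m = 1) →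
      ∃ m : ℕ, b ^ p ^ m = 1 := by
    rintro a b c ⟨i, hi⟩ ⟨j, hj⟩
    refine ⟨i + j, ?_⟩
    have h1 : (a * b) ^ p ^ (i + j) = 1 := by rw [pow_add, mul_comm (p ^ i), pow_mul, hj, one_pow]
    rwa [c.mul_pow, pow_add, pow_mul, hi, one_pow, one_mul, ← pow_add] at h1
  obtain ⟨k0, hk0, k01⟩ : ∃ k ∈ K, k ≠ 1 := by
    by_contra h
    push Not at h
    rw [(eq_bot_iff_forall K).mpr h, index_bot] at hn
    exact hG (IsPGroup.of_card hn)
  obtain ⟨χ, hχ, g0, hg0⟩ : ∃ χ, IsIrrCharacter G χ ∧ ∃ g, χ g = 0 := by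
    by_contra h
    push Not at h
    refine hna ⟨⟨fun a b => commutatorElement_eq_one_iff_mul_comm.mp
      (H11.eq_one_of_forall_mem_charKer fun χ hχ => ?_)⟩⟩
    have : charDegree χ = 1 := by
      by_contra h1
      obtain ⟨g, hg⟩ := van_of_deg hχ h1
      exact h χ hχ g hg
    exact (H24.deg_eq_one_iff_commutator_le hχ).mp this
      (commutator_mem_commutator (mem_top a) (mem_top b))
  have h10 := H11.irr_apply_one_ne_zero hχ
  have Zp : IsPGroup p (center G) := by
    rintro ⟨z, hz⟩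
    have h1 : Van (g0 * z) := ⟨χ, hχ, by
      rw [mem_center_iff.mp hz, H11.apply_mul_of_mem_charCenter h10
        (H11.center_le_charCenter hχ hz), hg0]; simp⟩
    obtain ⟨m, hm⟩ := quo g0 z (mem_center_iff.mp hz g0) (pe g0 ⟨χ, hχ, hg0⟩) (pe _ h1)
    exact ⟨m, Subtype.ext hm⟩
  have g0Z : g0 ∉ center G := fun h => by
    have := H11.apply_mul_of_mem_charCenter h10 (H11.center_le_charCenter hχ h) g0⁻¹
    rw [mul_inv_cancel, hg0] at this
    exact h10 (by simpa using this)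
  obtain ⟨P, hP0⟩ := (show IsPGroup p (zpowers g0) from by
    obtain ⟨m, hm⟩ := hvan g0 ⟨χ, hχ, hg0⟩
    exact IsPGroup.of_card (by rw [Nat.card_zpowers, hm])).exists_le_sylow
  have Pe : ∀ y ∈ (P : Subgroup G), ∃ m : ℕ, y ^ p ^ m = 1 := fun y hy => by
    obtain ⟨m, hm⟩ := P.isPGroup' ⟨y, hy⟩
    exact ⟨m, congrArg Subtype.val hm⟩
  have dec : ∀ g : G, ∃ k ∈ K, ∃ a ∈ (P : Subgroup G), g = k * a := by
    have : K ⊔ (P : Subgroup G) = ⊤ := by
      rw [← index_eq_one]
      have d1 : (K ⊔ (P : Subgroup G)).index ∣ p ^ n := hn ▸ index_dvd_of_le le_sup_left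
      have d2 : (K ⊔ (P : Subgroup G)).index ∣ (P : Subgroup G).index :=
        index_dvd_of_le le_sup_right
      exact Nat.eq_one_of_dvd_coprimes
        (((Nat.Prime.coprime_iff_not_dvd hp.out).mpr P.not_dvd_index).pow_left n) d1 d2
    intro g
    have hg : g ∈ ((K ⊔ (P : Subgroup G) : Subgroup G) : Set G) := this ▸ mem_top g
    rw [normal_mul] at hg
    obtain ⟨k, hk, a, ha, e⟩ := hg
    exact ⟨k, hk, a, ha, e.symm⟩
  have fpf : ∀ y ∈ (P : Subgroup G), y ∉ center G → ∀ k ∈ K, y * k = k * y → k = 1 := by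
    intro y hy hz k hk c
    refine K1 k hk (quo y k c (Pe y hy) (pe _ (van_coset K hc hq
      (P.isPGroup'.to_le (zpowers_le.mpr hy)) ?_ hk)))
    by_contra h
    push Not at h
    refine hz (mem_center_iff.mpr fun g => ?_)
    obtain ⟨k, hk, a, ha, rfl⟩ := dec g
    have h1 : ⁅a, y⁆ ∈ K := by
      rw [← QuotientGroup.eq_one_iff]
      show QuotientGroup.mk' K ⁅a, y⁆ = 1
      rw [map_commutatorElement, commutatorElement_eq_one_iff_mul_comm]
      exact mem_center_iff.mp h.1 _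
    have h2 := commutatorElement_eq_one_iff_mul_comm.mp (K1 _ h1 (Pe _
      (mul_mem (mul_mem (mul_mem ha hy) (inv_mem ha)) (inv_mem hy))))
    rw [mul_assoc, h2, ← mul_assoc, ← h.2 k hk, mul_assoc]
  have ZP : center G ≤ P := Zp.le_sylow_of_normal P
  refine ⟨le_antisymm (H3.le_pCore Zp) (sSup_le fun N hN y hy => ?_),
    (P : Subgroup G).map (QuotientGroup.mk' _), ⟨fun e => ?_, fun e => ?_, fun g hg => ?_⟩,
    P.isPGroup'.map _⟩
  · have := hN.1
    by_contra hz
    refine k01 (fpf y (hN.2.le_sylow_of_normal P hy) hz k0 hk0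
      (commutatorElement_eq_one_iff_mul_comm.mp (K1 _ ?_ ?_)))
    · exact mul_mem (hK.conj_mem _ hk0 y) (inv_mem hk0)
    · have : ⁅y, k0⁆ ∈ N := by
        rw [show ⁅y, k0⁆ = y * (k0 * y⁻¹ * k0⁻¹) by simp only [commutatorElement_def]; group]
        exact mul_mem hy (hN.1.conj_mem _ (inv_mem hy) k0)
      obtain ⟨m, hm⟩ := hN.2 ⟨_, this⟩
      exact ⟨m, congrArg Subtype.val hm⟩
  · have := mem_map_of_mem (QuotientGroup.mk' (center G)) (hP0 (mem_zpowers g0))
    rw [e, mem_bot] at this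
    exact g0Z ((QuotientGroup.eq_one_iff g0).mp this)
  · obtain ⟨a, ha, e1⟩ : QuotientGroup.mk' (center G) k0 ∈
      (P : Subgroup G).map (QuotientGroup.mk' (center G)) := e ▸ mem_top _
    have := mul_mem ha (ZP (QuotientGroup.eq.mp e1))
    rw [mul_inv_cancel_left] at this
    exact k01 (K1 k0 hk0 (Pe k0 this))
  · obtain ⟨g, rfl⟩ := QuotientGroup.mk'_surjective (center G) g
    obtain ⟨k, hk, a, ha, rfl⟩ := dec g
    rw [eq_bot_iff]
    rintro _ ⟨⟨y, hy, rfl⟩, h2⟩
    rw [mem_bot]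
    by_contra h1
    have hz : y ∉ center G := fun h => h1 ((QuotientGroup.eq_one_iff y).mpr h)
    obtain ⟨b, hb, e1⟩ := mem_pointwise_smul_iff_inv_smul_mem.mp h2
    have e2 : QuotientGroup.mk' (center G) b =
        QuotientGroup.mk' (center G) ((k * a)⁻¹ * y * (k * a)) := by
      rw [e1]; simp [mul_assoc]
    have h3 := mul_mem hb (ZP (QuotientGroup.eq.mp e2))
    rw [mul_inv_cancel_left] at h3
    have h4 : k⁻¹ * y * k * y⁻¹ ∈ (P : Subgroup G) := by
      rw [show k⁻¹ * y * k * y⁻¹ = a * ((k * a)⁻¹ * y * (k * a)) * a⁻¹ * y⁻¹ by group]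
      exact mul_mem (mul_mem (mul_mem ha h3) (inv_mem ha)) (inv_mem hy)
    have h5 : k⁻¹ * y * k * y⁻¹ = 1 := K1 _ (by
      rw [show k⁻¹ * y * k * y⁻¹ = k⁻¹ * (y * k * y⁻¹) by group]
      exact mul_mem (inv_mem hk) (hK.conj_mem _ hk y)) (Pe _ h4)
    have h6 : k = 1 := fpf y hy hz k hk (by
      calc y * k = k * (k⁻¹ * y * k * y⁻¹) * y := by group
        _ = k * y := by rw [h5, mul_one])
    exact hg (mem_map_of_mem _ (by rw [h6, one_mul]; exact ha))

end Cfsg.Agent.H20.VanQ
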