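import Cfsg.Agent.H97.XSBase

/-! Project XS (S5177): the piece C1. -/

set_option autoImplicit false
set_option linter.unusedSectionVars false

namespace Cfsg.Agent.H20.XS

open Cfsg Cfsg.FusionSystem Cfsg.Agent.H97 Cfsg.Agent.H98 Cfsg.Agent.H96 Cfsg.Agent.H5 Subgroup
open Cfsg.Agent.H97.XS
open scoped commutatorElement

universe u

variable {Ω : Type*} [Group Ω] {p : ℕ} [hp : Fact p.Prime] {S Q E : Subgroup Ω} [Finite S]
  {F : FusionSystem S} {z : Ω}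

theorem c1 {a b : Ω} : ⁅a, b⁆ = 1 ↔ Commute a b := commutatorElement_eq_one_iff_commute

theorem comm_mem_of_normalizer {W : Subgroup Ω} {g x : Ω} (hg : g ∈ normalizer (W : Set Ω))
    (hx : x ∈ W) : ⁅x, g⁆ ∈ W := by
  simpa [commutatorElement_def, mul_assoc] using
    W.mul_mem hx ((mem_normalizer_iff.1 hg _).1 (W.inv_mem hx))

theorem comm_central {a b u v : Ω} (h1 : Commute u a) (h2 : Commute u b) (h3 : Commute v a)
    (h4 : Commute v b) (h5 : Commute u v) : ⁅a * u, b * v⁆ = ⁅a, b⁆ := by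
  have e1 : a * u * (b * v) = b * v * (a * u) * ((b * a)⁻¹ * (a * b)) := by
    have : b * v * (a * u) = b * a * (u * v) := by
      rw [mul_assoc b, ← mul_assoc v, h3.eq, mul_assoc a, ← h5.eq]; group
    have h6 : Commute (u * v) ((b * a)⁻¹ * (a * b)) :=
      ((h2.mul_left h4).mul_right (h1.mul_left h3)).inv_right.mul_right
        ((h1.mul_left h3).mul_right (h2.mul_left h4))
    rw [this, mul_assoc (b * a), h6.eq, mul_assoc a u, ← mul_assoc u, h2.eq]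
    group
  have h7 : Commute (u * v) (a⁻¹ * b⁻¹) :=
    (h1.mul_left h3).inv_right.mul_right (h2.mul_left h4).inv_right
  calc ⁅a * u, b * v⁆ = a * u * (b * v) * (b * v * (a * u))⁻¹ := by
        simp only [commutatorElement_def]; group
    _ = a * b * (u * v) * (b * a * (u * v))⁻¹ := by
        rw [show a * u * (b * v) = a * b * (u * v) by
          rw [mul_assoc a, ← mul_assoc u, h2.eq]; group,
          show b * v * (a * u) = b * a * (u * v) by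
          rw [mul_assoc b, ← mul_assoc v, h3.eq, mul_assoc a, ← h5.eq]; group]
    _ = _ := by simp only [commutatorElement_def]; group

/-- Case 1. -/
structure K1 (p : ℕ) {S : Subgroup Ω} (F : FusionSystem S) (Q E : Subgroup Ω) (z : Ω)
    (α : MulAut E) : Prop extends Loc p F Q E z where
  hα : α ∈ F.autGroup E
  wQ : ext α z ∈ Q
  wZ : ext α z ∉ zpowers z

namespace K1

variable {α : MulAut E} (h : K1 p F Q E z α)
include h

theorem finE : Finite E := finite_of_le h.ES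
theorem finQ : Finite Q := finite_of_le h.le
theorem wE : ext α z ∈ E := ext_mem α h.zE

theorem zw {x : Ω} (h1 : x ∈ zpowers z) (h2 : x ∈ zpowers (ext α z)) : x = 1 := by
  by_contra hx
  exact h.wZ (zpowers_le.2 h1 (mem_zpowers_of_card_eq (h.card_ext α) h2 hx (mem_zpowers _)))

theorem wcomm {x g : Ω} (h2 : x ∈ zpowers (ext α z)) (hg : g ∈ E) : Commute x g := by
  obtain ⟨k, rfl⟩ := h2
  exact (h.ext_comm α hg).zpow_left k

theorem memE {x g : Ω} (h2 : x ∈ zpowers (ext α z)) (h1 : x ≠ 1) (hg : g ∈ S) (hc : Commute g x) :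
    g ∈ E := by
  obtain ⟨k, e⟩ := mem_zpowers_of_card_eq (h.card_ext α) h2 h1 (mem_zpowers _)
  exact h.cent h.hα h.wZ hg (e ▸ hc.zpow_right k)

theorem not_QE : ¬ Q ≤ E := fun hle =>
  h.wZ (h.cen _ h.wQ fun _ hy => h.ext_comm α (hle hy))

theorem idxHQ : (E ⊓ Q).relIndex Q = p := by
  have := h.finQ
  have := finite_of_card_eq_prime h.card_z
  refine relIndex_eq_of_dvd_of_not_le (h.pS.to_le h.le) (fun e => h.not_QE (e.trans inf_le_left))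
    (relIndex_dvd_of_le_prime (h.pS.to_le h.le) ?_)
  refine le_trans ?_ (h.card_z ▸ relIndex_centralizer_le (B := Q) (g := ext α z)
    fun x hx => h.comm x hx _ h.wQ)
  rw [← inf_relIndex_right (centralizer _)]
  exact relIndex_le_of_le_left (fun x hx => ⟨h.cent h.hα h.wZ (h.le hx.2)
    (mem_centralizer_singleton_iff.1 hx.1), hx.2⟩) index_ne_zero_of_finite

theorem cardHQ : Nat.card ↥(E ⊓ Q) * p = Nat.card Q := by
  rw [← card_mul_relIndex' (inf_le_right : E ⊓ Q ≤ Q), h.idxHQ]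

theorem cardHE : Nat.card ↥(E ⊓ Q) * p = Nat.card E := by
  rw [← card_mul_relIndex' (inf_le_left : E ⊓ Q ≤ E), h.idxH]

theorem nE : S ≤ normalizer (E : Set Ω) := by
  have := h.finE
  refine le_normalizer_of_relIndex_dvd h.pS h.ES (dvd_of_eq ?_)
  have e := card_mul_relIndex' h.ES
  rw [← h.card_Q, ← h.cardHQ, h.cardHE] at e
  exact Nat.eq_of_mul_eq_mul_left Nat.card_pos e

theorem nab : ¬ ∀ x ∈ E ⊓ Q, ∀ y ∈ E ⊓ Q, Commute x y :=
  h.not_comm_of_relIndex_le inf_le_right ⟨h.zE, h.zQ⟩ h.idxHQ.le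

theorem nH : E ≤ normalizer ((E ⊓ Q : Subgroup Ω) : Set Ω) := fun _ hg =>
  inf_normalizer_le_normalizer_inf ⟨le_normalizer hg, h.nQ (h.ES hg)⟩

theorem ext_z_Q (β : MulAut E) : ext β z ∈ Q := by
  have := h.finE
  by_contra hn
  have hb := ext_mem β h.zE
  have e := sup_zpowers_eq_of_relIndex_dvd inf_le_left h.idxH.dvd hb fun k => hn k.2
  refine h.nab fun x hx y hy => h.comm_of_comm_mem (fun x hx y hy => ?_) x hx.1 y hy.1
  obtain ⟨a, ha, i, rfl⟩ := (mem_sup_zpowers_iff (h.nH hb)).1 (e.ge hx)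
  obtain ⟨b, hb', j, rfl⟩ := (mem_sup_zpowers_iff (h.nH hb)).1 (e.ge hy)
  rw [comm_central ((h.ext_comm β ha.1).zpow_left i) ((h.ext_comm β hb'.1).zpow_left i)
    ((h.ext_comm β ha.1).zpow_left j) ((h.ext_comm β hb'.1).zpow_left j) (Commute.zpow_zpow_self _ i j)]
  exact h.comm a ha.2 b hb'.2

omit h in
theorem memH' {x : Ω} : x ∈ img (E ⊓ Q) (ext α) ↔ x ∈ E ∧ ext α⁻¹ x ∈ Q := by
  rw [((homOn_ext α).mono inf_le_left).mem_img]
  refine ⟨?_, fun ⟨h1, h2⟩ => ⟨_, ⟨ext_mem _ h1, h2⟩, ext_ext_inv α x⟩⟩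
  rintro ⟨y, hy, rfl⟩
  exact ⟨ext_mem α hy.1, by rw [ext_inv_ext]; exact hy.2⟩

omit h in
theorem H'le : img (E ⊓ Q) (ext α) ≤ E := fun _ hx => (memH'.1 hx).1

omit h in
theorem cardH' : Nat.card (img (E ⊓ Q) (ext α)) = Nat.card ↥(E ⊓ Q) :=
  ((homOn_ext α).mono inf_le_left).card_img (ext_injective α).injOn

theorem idxH' : (img (E ⊓ Q) (ext α)).relIndex E = p := by
  have := h.finE
  have : Finite ↥(E ⊓ Q) := finite_of_le (inf_le_left : E ⊓ Q ≤ E)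
  have e := card_mul_relIndex' (H'le (α := α) (Q := Q))
  rw [cardH', ← h.cardHE] at e
  exact Nat.eq_of_mul_eq_mul_left Nat.card_pos e

theorem nH' : E ≤ normalizer (img (E ⊓ Q) (ext α) : Set Ω) :=
  have := h.finE
  le_normalizer_of_relIndex_dvd (h.pS.to_le h.ES) H'le h.idxH'.dvd

theorem ext_Z {x : Ω} (hx : x ∈ zpowers z) : ext α x ∈ zpowers (ext α z) :=
  Loc.ext_zpowers h.zE (mem_zpowers _) hx

theorem commH' {x y : Ω} (hx : x ∈ img (E ⊓ Q) (ext α)) (hy : y ∈ img (E ⊓ Q) (ext α)) :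
    ⁅x, y⁆ ∈ zpowers (ext α z) := by
  rw [memH'] at hx hy
  rw [← ext_ext_inv α x, ← ext_ext_inv α y,
    ← homOn_comm (homOn_ext α) (ext_mem _ hx.1) (ext_mem _ hy.1)]
  exact h.ext_Z (h.comm _ hx.2 _ hy.2)

theorem powH' {x : Ω} (hx : x ∈ img (E ⊓ Q) (ext α)) : x ^ p ∈ zpowers (ext α z) := by
  rw [memH'] at hx
  rw [← ext_ext_inv α x, ← (homOn_ext α).map_pow (ext_mem _ hx.1)]
  exact h.ext_Z (h.pow _ hx.2)

theorem nabH' : ¬ ∀ x ∈ img (E ⊓ Q) (ext α), ∀ y ∈ img (E ⊓ Q) (ext α), Commute x y := fun hc =>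
  h.nab fun x hx y hy => c1.1 (ext_injective α (by
    rw [homOn_comm (homOn_ext α) hx.1 hy.1, (homOn_ext α).map_one]
    exact c1.2 (hc _ (mem_img_of_mem _ hx) _ (mem_img_of_mem _ hy))))

theorem commC {x y : Ω} (hx : x ∈ E ⊓ Q ⊓ img (E ⊓ Q) (ext α))
    (hy : y ∈ E ⊓ Q ⊓ img (E ⊓ Q) (ext α)) : Commute x y :=
  c1.1 (h.zw (h.comm x hx.1.2 y hy.1.2) (h.commH' hx.2 hy.2))

theorem powC {x : Ω} (hx : x ∈ E ⊓ Q ⊓ img (E ⊓ Q) (ext α)) : x ^ p = 1 :=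
  h.zw (h.pow x hx.1.2) (h.powH' hx.2)

theorem idxC : (E ⊓ Q ⊓ img (E ⊓ Q) (ext α)).relIndex (E ⊓ Q) = p := by
  have := h.finE
  have : Finite ↥(E ⊓ Q) := finite_of_le (inf_le_left : E ⊓ Q ≤ E)
  have hH : IsPGroup p ↥(E ⊓ Q) := h.pS.to_le (inf_le_left.trans h.ES)
  rw [inf_relIndex_left]
  refine relIndex_eq_of_dvd_of_not_le hH (fun e => h.nab fun x hx y hy =>
    h.commC ⟨hx, e hx⟩ ⟨hy, e hy⟩) (relIndex_dvd_of_le_prime hH ?_)
  exact h.idxH' ▸ relIndex_le_of_le_right inf_le_left index_ne_zero_of_finite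

theorem cardCH : Nat.card ↥(E ⊓ Q ⊓ img (E ⊓ Q) (ext α)) * p = Nat.card ↥(E ⊓ Q) := by
  rw [← card_mul_relIndex' (inf_le_left : E ⊓ Q ⊓ img (E ⊓ Q) (ext α) ≤ _), h.idxC]

theorem idxC' : (E ⊓ Q ⊓ img (E ⊓ Q) (ext α)).relIndex (img (E ⊓ Q) (ext α)) = p := by
  have : Finite ↥(E ⊓ Q ⊓ img (E ⊓ Q) (ext α)) :=
    finite_of_le ((inf_le_left.trans inf_le_left).trans h.ES)
  have e := card_mul_relIndex' (inf_le_right : E ⊓ Q ⊓ img (E ⊓ Q) (ext α) ≤ _)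
  rw [cardH', ← h.cardCH] at e
  exact Nat.eq_of_mul_eq_mul_left Nat.card_pos e

theorem WC : zpowers z ⊔ zpowers (ext α z) ≤ E ⊓ Q ⊓ img (E ⊓ Q) (ext α) :=
  sup_le (zpowers_le.2 ⟨⟨h.zE, h.zQ⟩, memH'.2 ⟨h.zE, h.ext_z_Q _⟩⟩)
    (zpowers_le.2 ⟨⟨h.wE, h.wQ⟩, mem_img_of_mem _ ⟨h.zE, h.zQ⟩⟩)

theorem cardC : Nat.card ↥(E ⊓ Q ⊓ img (E ⊓ Q) (ext α)) = p ^ 3 := by
  have := h.finQ
  have hCQ : E ⊓ Q ⊓ img (E ⊓ Q) (ext α) ≤ Q := inf_le_left.trans inf_le_right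
  have h1 := (h.dual hCQ).trans (relIndex_le_of_le_left (show _ ≤ centralizerIn Q _ from
    fun x hx => mem_centralizerIn_comm.2 ⟨hCQ hx, fun y hy => h.commC hy hx⟩) index_ne_zero_of_finite)
  rw [← relIndex_mul_relIndex _ _ _ inf_le_left inf_le_right, h.idxC, h.idxHQ] at h1
  have h2 := h.card_Q_ge
  rw [← h.cardHQ, ← h.cardCH] at h2
  refine le_antisymm ?_ ?_
  · rw [← card_mul_relIndex' (le_sup_left.trans h.WC), h.card_z]
    exact (Nat.mul_le_mul_left p h1).trans (by ring_nf; rfl)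
  · refine Nat.le_of_mul_le_mul_right (c := p * p) ?_ (Nat.mul_pos hp.out.pos hp.out.pos)
    rw [← mul_assoc (Nat.card _) p p, show p ^ 3 * (p * p) = p ^ 5 by ring]
    exact h2

theorem cardS : Nat.card S = p ^ 6 := by
  rw [← h.card_Q, ← h.cardHQ, ← h.cardCH, h.cardC]; ring

theorem Wcomm {x g : Ω} (hx : x ∈ zpowers z ⊔ zpowers (ext α z)) (hg : g ∈ E) : Commute x g :=
  comm_of_sup (fun _ ha => h.zcomm ha (h.ES hg)) (fun _ hb => h.wcomm hb hg) x hx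

theorem memW {x : Ω} (hx : x ∈ zpowers z ⊔ zpowers (ext α z)) :
    ∃ a ∈ zpowers z, ∃ b ∈ zpowers (ext α z), x = a * b :=
  (mem_sup_iff_of_le_normalizer (zpowers_le.2 (centralizer_le_normalizer _
    fun _ ha => (h.zcomm ha (h.ES h.wE)).eq))).1 hx

theorem cardW : Nat.card ↥(zpowers z ⊔ zpowers (ext α z)) = p ^ 2 := by
  have : Finite ↥(zpowers z ⊔ zpowers (ext α z)) :=
    finite_of_le (h.WC.trans ((inf_le_left.trans inf_le_left).trans h.ES))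
  rw [← card_mul_relIndex' le_sup_left, h.card_z, relIndex_eq_of_dvd_of_not_le
    (h.pS.to_le (h.WC.trans ((inf_le_left.trans inf_le_left).trans h.ES)))
    (fun e => h.wZ (e (mem_sup_right (mem_zpowers _))))
    (relIndex_sup_zpowers_dvd (centralizer_le_normalizer _ fun a ha => (h.zcomm ha (h.ES h.wE)).eq)
      (by rw [h.ext_pow]; exact one_mem _)), pow_two]

theorem mem_W_of_central {x : Ω} (hx : x ∈ E ⊓ Q) (hc : ∀ g ∈ E ⊓ Q, Commute x g) :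
    x ∈ zpowers z ⊔ zpowers (ext α z) := by
  by_contra hn
  have : Finite ↥(E ⊓ Q) := finite_of_le (inf_le_left.trans h.ES)
  have hH : IsPGroup p ↥(E ⊓ Q) := h.pS.to_le (inf_le_left.trans h.ES)
  have hW := h.WC.trans inf_le_left
  have h1 : (zpowers z ⊔ zpowers (ext α z)).relIndex (E ⊓ Q) ∣ p ^ (1 + 1) := by
    have e := card_mul_relIndex' hW
    rw [← h.cardCH, h.cardC, h.cardW] at e
    refine dvd_of_eq (Nat.eq_of_mul_eq_mul_left (pow_pos hp.out.pos 2) ?_)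
    rw [e]; ring
  have h2 : zpowers z ⊔ zpowers (ext α z) ⊔ zpowers x ≤ E ⊓ Q := sup_le hW (zpowers_le.2 hx)
  have h3 := relIndex_dvd_of_lt_left (A := zpowers z ⊔ zpowers (ext α z)) hH
    (lt_of_le_of_ne le_sup_left fun e => hn (e.ge (mem_sup_right (mem_zpowers x)))) h2 h1
  rw [pow_one] at h3
  have h4 : ∀ a ∈ zpowers z ⊔ zpowers (ext α z) ⊔ zpowers x, ∀ g ∈ E ⊓ Q, a * g = g * a :=
    fun a ha g hg => comm_of_sup_zpowers (fun b hb => h.Wcomm hb hg.1) (hc g hg) a ha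
  by_cases e : E ⊓ Q ≤ zpowers z ⊔ zpowers (ext α z) ⊔ zpowers x
  · exact h.nab fun a ha b hb => h4 a (e ha) b hb
  obtain ⟨g, hg, hg'⟩ := SetLike.not_le_iff_exists.1 e
  have e' := sup_zpowers_eq_of_relIndex_dvd h2 h3 hg hg'
  exact h.nab fun a ha b hb => abelian_sup_zpowers (fun a ha b hb => h4 a ha b (h2 hb))
    (fun a ha => h4 a ha g hg) a (e'.ge ha) b (e'.ge hb)

theorem autW : AutInv F E (zpowers z ⊔ zpowers (ext α z)) := fun β _ => by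
  have k : ∀ γ : MulAut E, ext γ z ∈ zpowers z ⊔ zpowers (ext α z) := fun γ =>
    h.mem_W_of_central ⟨ext_mem γ h.zE, h.ext_z_Q γ⟩ fun g hg => h.ext_comm γ hg.1
  refine ((homOn_ext β).mono (h.WC.trans (inf_le_left.trans inf_le_left))).mem_of_sup
    (fun x hx => zpowers_le.2 (k β) (Loc.ext_zpowers h.zE (mem_zpowers _) hx)) fun x hx =>
    zpowers_le.2 (k (β * α)) (Loc.ext_zpowers h.wE (by rw [ext_mul]; exact mem_zpowers _) hx)

theorem idxW : (zpowers z ⊔ zpowers (ext α z)).relIndex (E ⊓ Q ⊓ img (E ⊓ Q) (ext α)) = p := by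
  have e := card_mul_relIndex' h.WC
  rw [h.cardC, h.cardW] at e
  refine Nat.eq_of_mul_eq_mul_left (pow_pos hp.out.pos 2) ?_
  rw [e]; ring

section elts

variable {c e y : Ω} (he : e ∈ img (E ⊓ Q) (ext α)) (heQ : e ∉ Q)
include he heQ

theorem ce_ne (hc : c ∈ E ⊓ Q ⊓ img (E ⊓ Q) (ext α)) (hcW : c ∉ zpowers z ⊔ zpowers (ext α z)) :
    ⁅c, e⁆ ≠ 1 := fun e1 => by
  have a1 := sup_zpowers_eq_of_relIndex_dvd h.WC h.idxW.dvd hc hcW
  have a2 := sup_zpowers_eq_of_relIndex_dvd inf_le_right h.idxC'.dvd he fun k => heQ k.1.2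
  refine h.nabH' fun x hx y hy => abelian_sup_zpowers (fun a ha b hb => h.commC ha hb)
    (fun a ha => ?_) x (a2.ge hx) y (a2.ge hy)
  exact comm_of_sup_zpowers (fun b hb => h.Wcomm hb (H'le he)) (c1.1 e1) a (a1.ge ha)

theorem ce_notZ (hc : c ∈ E ⊓ Q ⊓ img (E ⊓ Q) (ext α)) (hcW : c ∉ zpowers z ⊔ zpowers (ext α z)) :
    ⁅c, e⁆ ∉ zpowers z := fun k => h.ce_ne he heQ hc hcW (h.zw k (h.commH' hc.2 he))

omit heQ in
theorem ye_mem (hy : y ∈ Q) : ⁅y, e⁆ ∈ E ⊓ Q := by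
  refine ⟨?_, h.comm_mem hy (h.ES (H'le he))⟩
  rw [← commutatorElement_inv]
  exact E.inv_mem (comm_mem_of_normalizer (h.nE (h.le hy)) (H'le he))

theorem hc_ne (hc : c ∈ E ⊓ Q ⊓ img (E ⊓ Q) (ext α)) (hcW : c ∉ zpowers z ⊔ zpowers (ext α z))
    (hy : y ∈ Q) (hyE : y ∉ E) : ⁅⁅y, e⁆, c⁆ ≠ 1 := fun e1 => by
  have a1 := h.invar hy hc.1.2 (h.ES (H'le he))
  have a2 := h.commH' hc.2 he
  rw [e1, one_mul, c1.2 (h.wcomm a2 (h.ye_mem he hy).1).symm] at a1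
  exact hyE (h.memE a2 (h.ce_ne he heQ hc hcW) (h.le hy) (c1.1 a1))

end elts

theorem exists_c : ∃ c ∈ E ⊓ Q ⊓ img (E ⊓ Q) (ext α), c ∉ zpowers z ⊔ zpowers (ext α z) :=
  SetLike.not_le_iff_exists.1 fun e => hp.out.one_lt.ne' (h.idxW.symm.trans (relIndex_eq_one.2 e))

theorem exists_e : ∃ e ∈ img (E ⊓ Q) (ext α), e ∉ Q := by
  obtain ⟨e, he, hn⟩ := SetLike.not_le_iff_exists.1 fun e =>
    hp.out.one_lt.ne' (h.idxC'.symm.trans (relIndex_eq_one.2 e))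
  exact ⟨e, he, fun k => hn ⟨⟨H'le he, k⟩, he⟩⟩

section elts

variable {e y : Ω} (he : e ∈ img (E ⊓ Q) (ext α)) (heQ : e ∉ Q) (hy : y ∈ Q) (hyE : y ∉ E)
include he heQ hy hyE

theorem h_notC : ⁅y, e⁆ ∉ E ⊓ Q ⊓ img (E ⊓ Q) (ext α) := fun k => by
  obtain ⟨c, hc, hcW⟩ := h.exists_c
  exact h.hc_ne he heQ hc hcW hy hyE (c1.2 (h.commC k hc))

theorem decH {x : Ω} (hx : x ∈ E ⊓ Q) :
    ∃ a ∈ E ⊓ Q ⊓ img (E ⊓ Q) (ext α), ∃ k : ℕ, x = a * ⁅y, e⁆ ^ k := by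
  have : Finite ↥(E ⊓ Q) := finite_of_le (inf_le_left.trans h.ES)
  have hm := h.ye_mem he hy
  exact (mem_sup_zpowers_iff_nat (le_normalizer_of_relIndex_dvd
    (h.pS.to_le (inf_le_left.trans h.ES)) inf_le_left h.idxC.dvd hm) (isOfFinOrder_of_mem hm)).1
    ((sup_zpowers_eq_of_relIndex_dvd inf_le_left h.idxC.dvd hm (h.h_notC he heQ hy hyE)).ge hx)

theorem rk2 : Rk2 Q z e := by
  obtain ⟨c, hc, hcW⟩ := h.exists_c
  exact ⟨c, hc.1.2, y, hy, h.ce_notZ he heQ hc hcW, fun k => h.h_notC he heQ hy hyE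
    (h.WC (sup_le_sup_left (zpowers_le.2 (h.commH' hc.2 he)) _ k))⟩

end elts

theorem expH {x : Ω} (hx : x ∈ E) (hx' : x ∈ Q) : x ^ p = 1 := by
  obtain ⟨e, he, heQ⟩ := h.exists_e
  obtain ⟨y, hy, hyE⟩ := SetLike.not_le_iff_exists.1 h.not_QE
  obtain ⟨a, ha, k, rfl⟩ := h.decH he heQ hy hyE ⟨hx, hx'⟩
  rw [h.mul_pow ha.1.2 (Q.pow_mem (h.ye_mem he hy).2 k), h.powC ha, ← pow_mul, mul_comm k, pow_mul,
    h.comm_pow_eq_one hy (h.ES (H'le he)), one_pow, one_mul]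

theorem six' (hb : ∀ x ∈ Q, x ^ p = 1) {e : Ω} (he : e ∈ img (E ⊓ Q) (ext α)) (heQ : e ∉ Q) :
    Six p S Q z e where
  toXQ := h.toXQ
  card := h.cardS
  expQ := hb
  eS := h.ES (H'le he)
  eQ := heQ
  ep := by
    rw [memH'] at he
    rw [← ext_ext_inv α e, ← (homOn_ext α).map_pow (ext_mem _ he.1), h.expH (ext_mem _ he.1) he.2,
      (homOn_ext α).map_one]

section elts

variable {e y : Ω} (he : e ∈ img (E ⊓ Q) (ext α)) (heQ : e ∉ Q) (hy : y ∈ Q) (hyE : y ∉ E)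
include he hy

theorem v3_mem : ⁅⁅y, e⁆, e⁆ ∈ E ⊓ Q ⊓ img (E ⊓ Q) (ext α) := by
  refine ⟨h.ye_mem he (h.ye_mem he hy).2, ?_⟩
  rw [← commutatorElement_inv]
  exact Subgroup.inv_mem _ (comm_mem_of_normalizer (h.nH' (h.ye_mem he hy).1) he)

include heQ hyE

theorem ne_three (he3 : e ^ p = 1) (hW : ⁅⁅y, e⁆, e⁆ ∉ zpowers z ⊔ zpowers (ext α z)) : p ≠ 3 := by
  rintro rfl
  have m2 := h.ye_mem he hy
  have m3 := h.v3_mem he hy
  have m4 := h.commH' m3.2 he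
  refine hyE (h.memE m4 (h.ce_ne he heQ m3 hW) (h.le hy) (c1.1 ?_))
  have k4 : e * ⁅⁅⁅y, e⁆, e⁆, e⁆ * e⁻¹ = ⁅⁅⁅y, e⁆, e⁆, e⁆ := by
    rw [← (h.wcomm m4 (H'le he)).eq, mul_inv_cancel_right]
  have k : ∀ v : Ω, e * v * e⁻¹ = ⁅v, e⁆⁻¹ * v := fun v => by
    simp only [commutatorElement_def]; group
  have k2 := h.wcomm m4 m2.1
  have k3 := h.wcomm m4 m3.1.1
  have q2 := Q.inv_mem m2.2
  have q3 := m3.1.2
  have z2 := h.comm _ hy _ q2
  have z3 := h.comm _ hy _ q3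
  have k1 := k y
  have k2' := k ⁅y, e⁆
  have k3' := k ⁅⁅y, e⁆, e⁆
  generalize ⁅⁅⁅y, e⁆, e⁆, e⁆ = v4 at *
  generalize ⁅⁅y, e⁆, e⁆ = v3 at *
  generalize ⁅y, e⁆ = v2 at *
  have e1 : y = (v3⁻¹ * v2)⁻¹ * (v4⁻¹ * v3) * (v3⁻¹ * v2)⁻¹ * (v2⁻¹ * y) := by
    calc y = e ^ 3 * y * (e ^ 3)⁻¹ := by rw [he3]; group
      _ = e * (e * (e * y * e⁻¹) * e⁻¹) * e⁻¹ := by rw [pow_three]; group
      _ = e * ((e * v2 * e⁻¹)⁻¹ * (e * y * e⁻¹)) * e⁻¹ := by nth_rewrite 1 [k1]; group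
      _ = (e * v2 * e⁻¹)⁻¹ * (e * v3 * e⁻¹) * (e * v2 * e⁻¹)⁻¹ * (e * y * e⁻¹) := by
          nth_rewrite 1 [k2', k1]; group
      _ = _ := by rw [k2', k3', k1]
  have e2 : v4 = v2⁻¹ * v3 * v3 * v2⁻¹ * v3 * v2⁻¹ := by
    have e3 : v2⁻¹ * v3 * v4⁻¹ = v4⁻¹ * (v2⁻¹ * v3) := (k2.inv_right.mul_right k3).inv_left.eq.symm
    calc v4 = v4 * (y * y⁻¹) := by group
      _ = v4 * (v2⁻¹ * v3 * v4⁻¹) * v3 * v2⁻¹ * v3 * v2⁻¹ := by
          nth_rewrite 1 [e1]; group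
      _ = _ := by rw [e3]; group
  rw [e2, h.comm_mul_right (by bound) q2 hy, h.comm_mul_right (by bound) q3 hy,
    h.comm_mul_right (by bound) q2 hy, h.comm_mul_right (by bound) q3 hy,
    h.comm_mul_right q2 q3 hy]
  have c := h.zcomm z2 (h.le (h.zle z3))
  have p2 := h.zpow_eq_one z2
  have p3 := h.zpow_eq_one z3
  generalize ⁅y, v2⁻¹⁆ = A at *
  generalize ⁅y, v3⁆ = B at *
  calc A * B * B * A * B * A = A * B * (B * A) * (B * A) := by group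
    _ = (A * B) ^ 3 := by rw [← c.eq, pow_three, mul_assoc]
    _ = 1 := by rw [c.mul_pow, p2, p3, one_mul]

theorem v3_Z (hW : ⁅⁅y, e⁆, e⁆ ∈ zpowers z ⊔ zpowers (ext α z)) : ⁅⁅y, e⁆, e⁆ ∈ zpowers z := by
  have m2 := h.ye_mem he hy
  have a1 := h.invar hy m2.2 (h.ES (H'le he))
  rw [commutatorElement_self, one_mul, c1.2 (h.Wcomm hW m2.1).symm] at a1
  obtain ⟨a, ha, b, hb, e1⟩ := h.memW hW
  rw [e1] at a1 ⊢
  have : b = 1 := by
    by_contra hn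
    refine hyE (h.memE hb hn (h.le hy) ?_)
    have := (h.zcomm ha (h.le hy)).symm.inv_right.mul_right (c1.1 a1)
    simpa using this
  rw [this, mul_one]
  exact ha

theorem quad (h3 : ⁅⁅y, e⁆, e⁆ = 1) {x : Ω} (hx : x ∈ Q) : ⁅⁅x, e⁆, e⁆ = 1 := by
  have := h.finQ
  have eS := h.ES (H'le he)
  let K : Submonoid Ω :=
    { carrier := {x | x ∈ Q ∧ Commute ⁅x, e⁆ e}
      one_mem' := ⟨one_mem _, by simp⟩
      mul_mem' := fun {a b} ha hb => ⟨mul_mem ha.1 hb.1, by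
        rw [h.comm_mul_S ha.1 hb.1 eS]
        exact (ha.2.mul_left hb.2).mul_left (h.zcomm (mul_mem
          (h.comm _ ha.1 _ (h.comm_mem hb.1 eS))
          (h.comm _ (h.comm_mem hb.1 eS) _ (h.comm_mem ha.1 eS))) eS)⟩ }
  have m2 := h.ye_mem he hy
  obtain ⟨a, ha, k, rfl⟩ := (mem_sup_zpowers_iff_nat (le_normalizer_of_relIndex_dvd
    (h.pS.to_le h.le) inf_le_right h.idxHQ.dvd hy) (isOfFinOrder_of_mem hy)).1
    ((sup_zpowers_eq_of_relIndex_dvd inf_le_right h.idxHQ.dvd hy fun k => hyE k.1).ge hx)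
  obtain ⟨b, hb, j, rfl⟩ := h.decH he heQ hy hyE ha
  have k1 : b ∈ K := ⟨hb.1.2, h.wcomm (h.commH' hb.2 he) (H'le he)⟩
  have k2 : ⁅y, e⁆ ∈ K := ⟨m2.2, by rw [h3]; exact Commute.one_left e⟩
  have k3 : y ∈ K := ⟨hy, c1.1 h3⟩
  exact c1.2 (K.mul_mem (K.mul_mem k1 (K.pow_mem k2 j)) (K.pow_mem k3 k)).2

theorem exists_e1 (hZ : ⁅⁅y, e⁆, e⁆ ∈ zpowers z) :
    ∃ e1 ∈ img (E ⊓ Q) (ext α), e1 ∉ Q ∧ ⁅⁅y, e1⁆, e1⁆ = 1 := by
  obtain ⟨c, hc, hcW⟩ := h.exists_c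
  have m2 := h.ye_mem he hy
  have eS := h.ES (H'le he)
  obtain ⟨k, hk⟩ := mem_zpowers_of_card_eq h.card_z (h.comm _ m2.2 _ hc.1.2)
    (h.hc_ne he heQ hc hcW hy hyE) (inv_mem hZ)
  have cQ := Q.zpow_mem hc.1.2 k
  have ex : ∀ v ∈ Q, ⁅v, e * c ^ k⁆ = ⁅v, e⁆ * ⁅v, c ^ k⁆ := fun v hv => by
    rw [show ⁅v, e * c ^ k⁆ = ⁅v, e⁆ * (e * ⁅v, c ^ k⁆ * e⁻¹) by
      simp only [commutatorElement_def]; group, ← (h.zcomm (h.comm _ hv _ cQ) eS).eq,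
      mul_inv_cancel_right]
  refine ⟨e * c ^ k, Subgroup.mul_mem _ he (Subgroup.zpow_mem _ hc.2 k), fun q => heQ ((mul_mem_cancel_right cQ).1 q), ?_⟩
  have z1 := h.comm _ hy _ cQ
  have eS' : e * c ^ k ∈ S := mul_mem eS (h.le cQ)
  rw [ex y hy, ← mul_one (e * c ^ k), comm_central (h.zcomm z1 (h.le m2.2)) (h.zcomm z1 eS')
    (Commute.one_left _) (Commute.one_left _) (Commute.one_right _), ex _ m2.2,
    h.comm_zpow_right hc.1.2 m2.2]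
  simp only at hk
  rw [hk, mul_inv_cancel]

end elts

end K1

/-- **C1** -/
theorem c1Stmt (hb : C1bStmt.{u}) : C1Stmt.{u} := by
  intro Ω _ p hp S Q E _ F z h0 hn
  obtain ⟨α, hα, h1, h2⟩ : ∃ α ∈ F.autGroup E, ext α z ∈ Q ∧ ext α z ∉ zpowers z := by
    by_contra hc
    push Not at hc
    exact hn hc
  have h : K1 p F Q E z α := ⟨h0, hα, h1, h2⟩
  obtain ⟨e, he, heQ⟩ := h.exists_e
  obtain ⟨y, hy, hyE⟩ := SetLike.not_le_iff_exists.1 h.not_QE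
  have hx := hb h0 α hα h1 h2 (fun g hg hc => h.cent hα h2 hg hc) h.autW (fun x => h.expH)
    ⟨e, h.ES (K1.H'le he), heQ, h.rk2 he heQ hy hyE⟩
  by_cases hW : ⁅⁅y, e⁆, e⁆ ∈ zpowers z ⊔ zpowers (ext α z)
  · obtain ⟨e1, he1, he1Q, h3⟩ := h.exists_e1 he heQ hy hyE (h.v3_Z he heQ hy hyE hW)
    obtain ⟨c, hc, hcW⟩ := h.exists_c
    exact Or.inl ⟨e1, ⟨h.six' hx he1 he1Q, fun x => h.quad he1 he1Q hy hyE h3, h.rk2 he1 he1Q hy hyE⟩,
      c, hc.1.2, h.ce_notZ he1 he1Q hc hcW, c1.2 (h.wcomm (h.commH' hc.2 he1) hc.1.1).symm⟩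
  · have h6 := h.six' hx he heQ
    have h3 := h.ne_three he heQ hy hyE h6.ep hW
    have m3 := h.v3_mem he hy
    refine Or.inr ⟨hp.out.five_le_of_ne_two_of_ne_three h.odd h3, e, h6, y, hy,
      h.ce_notZ he heQ m3 hW, c1.2 (h.wcomm (h.commH' m3.2 he) (K1.H'le he))⟩

end Cfsg.Agent.H20.XS
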