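import Mathlib
import Cfsg.Agent.H56.ZCCl

/-!
Local facts on the radical of a solvable block, second part.
-/

set_option autoImplicit false

namespace Cfsg.Agent.H20.ZC

open Subgroup Cfsg.Agent.H56.FS Cfsg.Agent.H56.ZC
open scoped commutatorElement

universe u

/-- If `R = [R, A]`, an element `c` of `C_R(A)` has `c ^ |A| ∈ [R, R]`. -/
theorem pow_mem_comm {G : Type*} [Group G] [Finite G] {R A : Subgroup G}
    (hn : A ≤ normalizer (R : Set G)) (hRA : ⁅R, A⁆ = R) {c : G} (hc : c ∈ R)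
    (hcA : ∀ a ∈ A, a * c * a⁻¹ = c) : c ^ Nat.card A ∈ ⁅R, R⁆ := by
  classical
  have := Fintype.ofFinite A
  let σ : A →* MulAut R := (normalizerMonoidHom R).comp (inclusion hn)
  have hσ : ∀ (b : A) (x : R), (σ b x : G) = b * x * (b : G)⁻¹ := fun _ _ => rfl
  let N : R →* Abelianization R := ∏ b : A, Abelianization.of.comp (σ b).toMonoidHom
  have hN : ∀ x, N x = ∏ b : A, Abelianization.of (σ b x) := fun x => by
    simp only [N, MonoidHom.finsetProd_apply]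
    rfl
  have h1 : ∀ (b : A) x, N (σ b x) = N x := fun b x => by
    rw [hN, hN]
    refine Fintype.prod_equiv (Equiv.mulRight b) _ _ fun a => ?_
    rw [Equiv.coe_mulRight, map_mul, MulAut.mul_apply]
  have h2 : ⁅R, A⁆ ≤ N.ker.map R.subtype := by
    rw [commutator_le]
    intro x hx b hb
    refine ⟨⟨x, hx⟩ * σ ⟨b, hb⟩ ⟨x, hx⟩⁻¹, ?_, ?_⟩
    · change N _ = 1
      rw [map_mul, h1, ← map_mul, mul_inv_cancel, map_one]
    · change x * (σ ⟨b, hb⟩ ⟨x, hx⟩⁻¹ : G) = _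
      rw [hσ, commutatorElement_def]
      simp only [InvMemClass.coe_inv, mul_assoc]
  rw [hRA] at h2
  obtain ⟨c', h3, e⟩ := h2 hc
  have h4 : N c' = Abelianization.of (c' ^ Nat.card A) := by
    rw [hN, map_pow, Nat.card_eq_fintype_card, ← Finset.card_univ, ← Finset.prod_const]
    refine Finset.prod_congr rfl fun b _ => congrArg _ (Subtype.ext ?_)
    rw [hσ, show (c' : G) = c from e]
    exact hcA b b.2
  have h5 : c' ^ Nat.card A ∈ commutator R := by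
    rw [← Abelianization.ker_of, MonoidHom.mem_ker, ← h4]
    exact h3
  rw [← map_subtype_commutator]
  exact ⟨_, h5, by rw [map_pow, e]⟩

section
variable {G : Type u} [Group G] [Finite G] {p : ℕ} {D : Set (Subgroup G)}

omit [Finite G] in
theorem odd_p (h : Cn p D) : Odd p := h.pp.odd_of_ne_two h.p2

/-- The centre of a solvable block lies in the derived group of the radical. -/
theorem ZZ_le_comm (h : Cn p D) (k : Kt1 D) {X : Subgroup G} (hX : Sv D X) {A : Subgroup G}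
    (hA : A ∈ D) (hAX : A ≤ X) : ZZ D X ≤ ⁅RR D X, RR D X⁆ := fun c hc => by
  have h1 := pow_mem_comm ((le_LL hA hAX).trans (LL_le_norm_RR X))
    (comm_RA' h.toBs2 h.toSh hX hA hAX) hc.1 fun a ha => by
      rw [ZZ_comm hc (le_LL hA hAX ha), mul_inv_cancel_right]
  obtain ⟨m, hm⟩ := odd_p h
  rwa [h.card A hA, hm, pow_succ, pow_mul, pow_two, k.e2 X hX c hc, one_pow, one_mul] at h1

omit [Finite G] in
theorem conj_mem_RR {X : Subgroup G} {a u : G} (ha : a ∈ LL D X) (hu : u ∈ RR D X) :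
    a * u * a⁻¹ ∈ RR D X := (mem_normalizer_iff.1 (LL_le_norm_RR X ha) u).1 hu

omit [Finite G] in
theorem conj_ZZ {X : Subgroup G} {a z : G} (ha : a ∈ LL D X) (hz : z ∈ ZZ D X) :
    a * z * a⁻¹ = z := by rw [ZZ_comm hz ha, mul_inv_cancel_right]

theorem sq2 (h : Cn p D) (k : Kt1 D) (X : Subgroup G) (hX : Sv D X) (A : Subgroup G) (hA : A ∈ D)
    (hAX : A ≤ X) (u : G) (hu : u ∈ RR D X) : u * u ∈ ZZ D (A ⊔ cj u A) := by
  have hB := h.inv A hA u
  obtain ⟨u0, h0, e⟩ := h.toCl2.conj_pt_pair hA hB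
  have hL : A ⊔ cj u A ≤ X := sup_le hAX (cj_le_of_mem (LL_le X (RR_le X hu)) hAX)
  have h1 : u0 ∈ RR D X := RR_mono hL h0
  have h2 : u0⁻¹ * u ∈ ZZ D X := k.mz X hX A hA hAX _ (mul_mem (inv_mem h1) hu) (by
    rw [← cj_cj, e, cj_inv_cj])
  have h3 : u * u = u0 * u0 := by
    calc u * u = u0 * ((u0⁻¹ * u) * u0) * (u0⁻¹ * u) := by group
      _ = u0 * u0 * ((u0⁻¹ * u) * (u0⁻¹ * u)) := by
        rw [← ZZ_comm h2 (RR_le X h1)]; simp only [mul_assoc]
      _ = _ := by rw [k.e2 X hX _ h2, mul_one]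
  rw [h3]
  exact k.sq _ (h.toCl2.sol_pair hA hB) u0 h0

theorem uc (h : Cn p D) (k : Kt1 D) (X : Subgroup G) (hX : Sv D X) (A : Subgroup G) (hA : A ∈ D)
    (hAX : A ≤ X) (u : G) (hu : u ∈ RR D X) :
    ZZ D (A ⊔ cj u A) ≤ closure {e | ∃ a ∈ A, e = ⁅u, a * u * a⁻¹⁆} := by
  have hB := h.inv A hA u
  have hAL := le_LL hA hAX
  set S : Set G := {x | ∃ a ∈ A, x = a * u * a⁻¹} with hS
  have hSR : closure S ≤ RR D X := (closure_le _).2 (by
    rintro _ ⟨a, ha, rfl⟩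
    exact conj_mem_RR (hAL ha) hu)
  have hn : A ≤ normalizer (closure S : Set G) := fun b hb => norm_of_le (by
    rw [cj, MonoidHom.map_closure]
    refine closure_mono ?_
    rintro _ ⟨_, ⟨a, ha, rfl⟩, rfl⟩
    exact ⟨b * a, mul_mem hb ha, by simp [mul_assoc]⟩)
  have huS : u ∈ closure S := subset_closure ⟨1, one_mem _, by simp⟩
  have h1 : A ⊔ cj u A ≤ closure S ⊔ A :=
    sup_le le_sup_right (cj_le_of_mem (mem_sup_left huS) le_sup_right)
  have h2 : RR D (A ⊔ cj u A) ≤ closure S := by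
    unfold RR
    rw [LL_pair hA hB]
    exact (commutator_mono h1 h1).trans (H21.FsCL.comm_sup_le hn (h.comm hA))
  refine (ZZ_le_comm h k (h.toCl2.sol_pair hA hB) hA le_sup_left).trans
    ((commutator_mono h2 h2).trans (commutator_le.2 fun x hx y hy => ?_))
  have cz : ∀ {a x y : G}, a ∈ LL D X → x ∈ closure S → y ∈ closure S →
      a * ⁅x, y⁆ * a⁻¹ = ⁅x, y⁆ := fun ha hx hy => conj_ZZ ha (k.cm X hX _ (hSR hx) _ (hSR hy))
  have cl : ∀ {x : G}, x ∈ closure S → x ∈ LL D X := fun hx => RR_le X (hSR hx)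
  induction hx, hy using closure_induction₂ with
  | mem x y hx hy =>
    obtain ⟨a, ha, rfl⟩ := hx
    obtain ⟨b, hb, rfl⟩ := hy
    refine subset_closure ⟨a⁻¹ * b, mul_mem (inv_mem ha) hb, ?_⟩
    rw [← cz (hAL ha) huS (subset_closure ⟨_, mul_mem (inv_mem ha) hb, rfl⟩)]
    simp only [commutatorElement_def]
    group
  | one_left x hx => rw [commutatorElement_one_left]; exact one_mem _
  | one_right x hx => rw [commutatorElement_one_right]; exact one_mem _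
  | mul_left x x' y hx hx' hy a b =>
    rw [show ⁅x * x', y⁆ = x * ⁅x', y⁆ * x⁻¹ * ⁅x, y⁆ by simp only [commutatorElement_def]; group,
      cz (cl hx) hx' hy]
    exact mul_mem b a
  | mul_right y y' x hy hy' hx a b =>
    rw [show ⁅x, y * y'⁆ = ⁅x, y⁆ * (y * ⁅x, y'⁆ * y⁻¹) by simp only [commutatorElement_def]; group,
      cz (cl hy) hx hy']
    exact mul_mem a b
  | inv_left x y hx hy a =>
    rw [show ⁅x⁻¹, y⁆ = (x⁻¹ * ⁅x, y⁆ * x⁻¹⁻¹)⁻¹ by simp only [commutatorElement_def]; group,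
      cz (inv_mem (cl hx)) hx hy]
    exact inv_mem a
  | inv_right x y hx hy a =>
    rw [show ⁅x, y⁻¹⁆ = (y⁻¹ * ⁅x, y⁆ * y⁻¹⁻¹)⁻¹ by simp only [commutatorElement_def]; group,
      cz (inv_mem (cl hy)) hx hy]
    exact inv_mem a

theorem uu (h : Cn p D) (k : Kt1 D) (A : Subgroup G) (hA : A ∈ D) (B : Subgroup G) (hB : B ∈ D)
    (u : G) (hu : u ∈ RR D (A ⊔ B)) (hn : u ∉ ZZ D (A ⊔ B)) :
    ZZ D (A ⊔ B) ≤ closure {e | ∃ w ∈ RR D (A ⊔ B), Commute w u ∧ e = w * w} := by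
  have hX : Sv D (A ⊔ B) := h.toCl2.sol_pair hA hB
  have hAL : A ≤ LL D (A ⊔ B) := le_LL hA le_sup_left
  have e : A ⊔ cj u A = A ⊔ B := h.line A hA B hB A hA _ (h.inv A hA u) le_sup_left
    (cj_le_of_mem (LL_le _ (RR_le _ hu)) le_sup_left)
    fun e => hn (k.mz _ hX A hA le_sup_left u hu e.symm)
  have h1 := uc h k _ hX A hA le_sup_left u hu
  rw [e] at h1
  refine h1.trans (closure_mono ?_)
  rintro _ ⟨a, ha, rfl⟩
  obtain ⟨m, hm⟩ := odd_p h
  obtain ⟨b, hb, rfl⟩ : ∃ b ∈ A, a = b * b := ⟨a ^ (m + 1), pow_mem ha _, by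
    rw [← pow_add, show m + 1 + (m + 1) = p + 1 by omega, pow_succ, h.pow_p hA ha, one_mul]⟩
  have hx := conj_mem_RR (hAL hb) hu
  have hy := conj_mem_RR (inv_mem (hAL hb)) hu
  have c1 := conj_ZZ (inv_mem (hAL hb)) (k.cm _ hX _ hu _ hx)
  have c2 := conj_ZZ (RR_le _ hx) (k.cm _ hX _ hu _ hx)
  have c3 := conj_ZZ (inv_mem (hAL hb)) (k.cm _ hX _ hu _ (conj_mem_RR (hAL ha) hu))
  have c4 := conj_ZZ (RR_le _ hx) (k.cm _ hX _ hu _ (conj_mem_RR (hAL ha) hu))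
  have c5 := conj_ZZ (hAL hb) (k.sq _ hX u hu)
  have c6 := conj_ZZ (inv_mem (hAL hb)) (k.sq _ hX u hu)
  have c7 := k.e2 _ hX _ (k.sq _ hX u hu)
  refine ⟨_, mul_mem hx hy, ?_, ?_⟩
  · rw [← commutatorElement_eq_one_iff_commute]
    calc _ = b * u * b⁻¹ * (b⁻¹ * ⁅u, b * u * b⁻¹⁆ * b⁻¹⁻¹) * (b * u * b⁻¹)⁻¹ *
          ⁅u, b * u * b⁻¹⁆⁻¹ := by simp [commutatorElement_def, mul_assoc]
      _ = 1 := by rw [c1, c2, mul_inv_cancel]
  · symm
    calc _ = b * u * b⁻¹ * (b⁻¹ * ⁅u, b * b * u * (b * b)⁻¹⁆ * b⁻¹⁻¹) * (b * u * b⁻¹)⁻¹ *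
          (b * (u * u) * b⁻¹) * (b⁻¹ * (u * u) * b⁻¹⁻¹) := by simp only [commutatorElement_def]; group
      _ = _ := by rw [c3, c4, c5, c6, mul_assoc, c7, mul_one]

end

theorem kt2 : Kt2Stmt.{u} := fun _ _ _ _ _ h k => ⟨sq2 h k, uc h k, uu h k⟩

end Cfsg.Agent.H20.ZC
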